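import Cfsg.Agent.Grp.SmallAut

/-! Coprime automorphisms of small `p`-groups fixing a large cyclic subgroup. -/

set_option autoImplicit false

namespace Cfsg

universe u v

theorem mem_zpowers_pow_of_pow_eq_one {A : Type u} [Group A] {v y : A} {p n : ℕ} (hp : p ≠ 0)
    (h : orderOf v = p * n) (hy : y ∈ Subgroup.zpowers v) (h1 : y ^ p = 1) :
    y ∈ Subgroup.zpowers (v ^ n) := by
  obtain ⟨k, rfl⟩ := hy
  rw [← zpow_natCast, ← zpow_mul, ← orderOf_dvd_iff_zpow_eq_one, h, Nat.cast_mul, mul_comm k,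
    mul_dvd_mul_iff_left (Nat.cast_ne_zero.2 hp)] at h1
  obtain ⟨j, rfl⟩ := h1
  exact ⟨j, by simp only [zpow_mul, zpow_natCast]⟩

section comm
variable {A : Type u} [CommGroup A] [Finite A]

theorem false_of_forall_inverted (hA : IsPGroup 3 A) {E : Subgroup (MulAut A)}
    (hE : ¬ 3 ∣ Nat.card E) {z : A} (h : ∀ v, orderOf z ≤ orderOf v →
      (Subgroup.zpowers v).index = 9 ∧ (∀ a, a ^ 3 ∈ Subgroup.zpowers v) ∧
        ∃ σ ∈ E, σ v = v ∧ ∀ a, σ a * a ∈ Subgroup.zpowers v) : False := by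
  have : Fact (Nat.Prime 3) := ⟨Nat.prime_three⟩
  have hord : ∀ v, orderOf z ≤ orderOf v → orderOf v * 9 = Nat.card A := fun v hv => by
    rw [← (h v hv).1, ← Nat.card_zpowers, Subgroup.card_mul_index]
  have hmax : ∀ a, orderOf a ∣ orderOf z := fun a => by
    obtain ⟨i, hi⟩ := IsPGroup.iff_orderOf.1 hA z
    obtain ⟨j, hj⟩ := IsPGroup.iff_orderOf.1 hA a
    by_cases h1 : orderOf z ≤ orderOf a
    · have := hord a h1
      have := hord z le_rfl
      exact dvd_of_eq (by omega)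
    rw [hi, hj] at h1 ⊢
    exact pow_dvd_pow 3 ((Nat.pow_lt_pow_iff_right (by norm_num)).1 (not_le.1 h1)).le
  by_cases h3 : z ^ 3 = 1
  · have h4 : ∀ a : A, a ^ 3 = 1 := fun a =>
      orderOf_dvd_iff_pow_eq_one.1 ((hmax a).trans (orderOf_dvd_of_pow_eq_one h3))
    have hinv : ∀ a : A, a = a⁻¹ → a = 1 := fun a h => by
      rw [← h4 a, pow_succ, sq, mul_eq_one_iff_eq_inv.2 h, one_mul]
    have h5 : ∀ v : A, v ≠ 1 → orderOf z ≤ orderOf v := fun v hv =>
      orderOf_eq_prime (h4 v) hv ▸ Nat.le_of_dvd three_pos (orderOf_dvd_of_pow_eq_one h3)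
    have : Nontrivial A := Finite.one_lt_card_iff_nontrivial.1 (by
      have := hord z le_rfl; have := orderOf_pos z; omega)
    obtain ⟨u, hu⟩ := exists_ne (1 : A)
    have hc : Nat.card A = 27 := by rw [← hord u (h5 u hu), orderOf_eq_prime (h4 u) hu]
    choose! t ht ht1 ht2 using fun v hv => (h v (h5 v hv)).2.2
    let W : A → Subgroup A := fun v => (t v).toMonoidHom.eqLocus invMonoidHom
    have hW : ∀ {v a}, a ∈ W v ↔ t v a = a⁻¹ := Iff.rfl
    have w1 : ∀ v, v ≠ 1 → v ∉ W v := fun v hv h => hv (hinv v ((ht1 v hv).symm.trans h))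
    have w2 : ∀ v, v ≠ 1 → ∀ a, ∃ k : ℤ, a * v ^ k ∈ W v := fun v hv a => by
      obtain ⟨k, hk⟩ := ht2 v hv a
      refine ⟨k, hW.2 ?_⟩
      rw [map_mul, map_zpow, ht1 v hv, ← mul_eq_one_iff_eq_inv, mul_mul_mul_comm, ← hk,
        ← h4 (v ^ k), pow_succ', sq]
    have w3 : ∀ u, u ≠ 1 → ∀ v, v ≠ 1 → v ∈ W u → u ∈ W v := fun u hu v hv huv => by
      obtain ⟨k, hk⟩ := ht2 v hv u
      have h6 : t v u = u⁻¹ * v ^ k := by rw [eq_inv_mul_iff_mul_eq, mul_comm, ← hk]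
      have h7 : (t u * t v) v = v⁻¹ := by rw [MulAut.mul_apply, ht1 v hv, hW.1 huv]
      have h8 : (t u * t v) u = u⁻¹ * (v ^ k)⁻¹ := by
        rw [MulAut.mul_apply, h6, map_mul, map_inv, ht1 u hu, map_zpow, hW.1 huv, inv_zpow]
      have h9 : (t u * t v * (t u * t v)) u = u * (v ^ k * v ^ k) := by
        rw [MulAut.mul_apply, h8, map_mul, map_inv, map_inv, map_zpow, h7, h8, inv_zpow, inv_inv,
          mul_inv, inv_inv, inv_inv, mul_assoc]
      have h10 := MulAut.apply_eq_of_stab hA hE (pow_card_eq_one_of_mem (mul_mem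
        (mul_mem (ht u hu) (ht v hv)) (mul_mem (ht u hu) (ht v hv)))) (a := u) (by
          rw [h9, inv_mul_cancel_left, map_mul, map_zpow, MulAut.mul_apply, h7, map_inv, h7,
            inv_inv])
      rw [h9, mul_eq_left, mul_eq_one_iff_eq_inv] at h10
      rw [hW, h6, hinv _ h10, mul_one]
    have w4 : ∀ v, v ≠ 1 → (W v).index ≤ 3 := fun v hv => by
      have h6 : W v ⊔ Subgroup.zpowers v = ⊤ := (Subgroup.eq_top_iff' _).2 fun a => by
        obtain ⟨k, hk⟩ := w2 v hv a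
        rw [← mul_inv_cancel_right a (v ^ k)]
        exact Subgroup.mul_mem_sup hk (inv_mem (Subgroup.zpow_mem_zpowers v k))
      rw [← Subgroup.relIndex_top_right, ← h6, Subgroup.relIndex_sup_left,
        ← orderOf_eq_prime (h4 v) hv, ← Nat.card_zpowers]
      exact Nat.le_of_dvd Nat.card_pos (Subgroup.relIndex_dvd_card _ _)
    have w5 : ∀ a b, a ≠ 1 → b ≠ 1 → ∃ c, c ≠ 1 ∧ c ∈ W a ∧ c ∈ W b := fun a b ha hb => by
      by_contra! h6
      have h7 := Subgroup.index_inf_le.trans (Nat.mul_le_mul (w4 a ha) (w4 b hb))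
      rw [(Subgroup.eq_bot_iff_forall (W a ⊓ W b)).2 fun c hc => not_not.1 fun h => h6 c h hc.1 hc.2,
        Subgroup.index_bot] at h7
      omega
    obtain ⟨v, hv, huv, -⟩ := w5 u u hu hu
    obtain ⟨w, hw, huw, hvw⟩ := w5 u v hu hv
    have key : ∀ a b c : A, a ≠ 1 → b ≠ 1 → c ≠ 1 → b ∈ W a → c ∈ W a → c ∈ W b →
        a * b * c ≠ 1 ∧ a ∉ W (a * b * c) ∧ a * b ∉ W (a * b * c) := by
      intro a b c ha hb hc hab hac hbc
      have h6 : ∀ {y d}, y ≠ 1 → d ∈ W y → y * d ∉ W y := fun hy hd h =>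
        w1 _ hy ((mul_mem_cancel_right hd).1 h)
      have h7 : a * b * c ≠ 1 := fun h =>
        h6 ha (mul_mem hab hac) (by rw [← mul_assoc, h]; exact one_mem _)
      have h8 : a * b ≠ 1 := fun h => h6 ha hab (h ▸ one_mem _)
      exact ⟨h7, fun h => h6 ha (mul_mem hab hac) (mul_assoc a b c ▸ w3 _ h7 _ ha h),
        fun h => h6 h8 (w3 _ hc _ h8 (mul_mem (w3 _ ha _ hc hac) (w3 _ hb _ hc hbc)))
          (w3 _ h7 _ h8 h)⟩
    obtain ⟨hx, k1, k2⟩ := key u v w hu hv hw huv huw hvw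
    obtain ⟨-, k3, k4⟩ := key v w u hv hw hu hvw (w3 _ hu _ hv huv) (w3 _ hu _ hw huw)
    obtain ⟨-, k5, -⟩ := key w u v hw hu hv (w3 _ hu _ hw huw) (w3 _ hv _ hw hvw) huv
    rw [show v * w * u = u * v * w by ac_rfl] at k3 k4
    rw [show w * u * v = u * v * w by ac_rfl] at k5
    generalize hxe : u * v * w = x at *
    have h6 : ∀ {a} {k : ℤ}, a * x ^ k ∈ W x → a ∉ W x → ¬ 3 ∣ k := fun hk ha ⟨j, hj⟩ => by
      rw [hj, zpow_mul, show x ^ (3 : ℤ) = 1 from (zpow_natCast x 3).trans (h4 x), one_zpow,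
        mul_one] at hk
      exact ha hk
    have h7 : ∀ {a b} {i j : ℤ}, a * x ^ i ∈ W x → b * x ^ j ∈ W x → a * b * x ^ (i + j) ∈ W x :=
      fun ha hb => by rw [zpow_add, mul_mul_mul_comm]; exact mul_mem ha hb
    obtain ⟨i, hi⟩ := w2 x hx u
    obtain ⟨j, hj⟩ := w2 x hx v
    obtain ⟨l, hl⟩ := w2 x hx w
    have := h6 hi k1; have := h6 hj k3; have := h6 hl k5
    have := h6 (h7 hi hj) k2; have := h6 (h7 hj hl) k4
    have := h6 (h7 (h7 hi hj) hl) (hxe ▸ w1 x hx)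
    omega
  obtain ⟨m, hm⟩ := IsPGroup.iff_orderOf.1 hA z
  obtain ⟨m, rfl⟩ : ∃ k, m = k + 2 := Nat.exists_eq_add_of_le' (by
    by_contra! h4
    exact h3 (orderOf_dvd_iff_pow_eq_one.1 (hm ▸ (pow_dvd_pow 3 (Nat.lt_succ_iff.1 h4)).trans
      (pow_one 3).dvd)))
  obtain ⟨w, hw, hw3⟩ : ∃ w, w ∉ Subgroup.zpowers z ∧ w ^ 3 = 1 := by
    obtain ⟨a, ha⟩ : ∃ a, a ∉ Subgroup.zpowers z := by
      by_contra! h4
      have := (h z le_rfl).1
      rw [(Subgroup.eq_top_iff' _).2 h4, Subgroup.index_top] at this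
      omega
    obtain ⟨j, hj⟩ := mem_zpowers_pow_of_pow_eq_one (p := 3 ^ (m + 1)) (n := 3) (by positivity) hm
      ((h z le_rfl).2.1 a) (by
        rw [← pow_mul, ← pow_succ', ← hm]; exact orderOf_dvd_iff_pow_eq_one.1 (hmax a))
    refine ⟨a * (z ^ j)⁻¹, fun h4 => ha ((mul_mem_cancel_right
      (inv_mem (Subgroup.zpow_mem_zpowers z j))).1 h4), ?_⟩
    rw [mul_pow, ← hj, inv_pow, ← zpow_natCast (z ^ j), ← zpow_mul, mul_comm j, zpow_mul,
      zpow_natCast, mul_inv_cancel]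
  have h4 : (z * w) ^ 3 ^ (m + 1) = z ^ 3 ^ (m + 1) := by
    rw [mul_pow, pow_succ' 3, pow_mul w, hw3, one_pow, mul_one]
  have h5 : orderOf (z * w) = orderOf z := by
    obtain ⟨j, hj, h5⟩ := (Nat.dvd_prime_pow Nat.prime_three).1 (hm ▸ hmax (z * w))
    rw [h5, hm]
    congr 1
    by_contra h6
    have h7 := orderOf_dvd_iff_pow_eq_one.1 (h5 ▸ pow_dvd_pow 3 (by omega : j ≤ m + 1))
    rw [h4, ← orderOf_dvd_iff_pow_eq_one, hm, Nat.pow_dvd_pow_iff_le_right (by norm_num)] at h7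
    omega
  obtain ⟨t, ht, ht1, ht2⟩ := (h z le_rfl).2.2
  obtain ⟨s, hs, hs1, hs2⟩ := (h (z * w) h5.ge).2.2
  set z₀ := z ^ 3 ^ (m + 1)
  have hfix : ∀ {σ : MulAut A}, σ z₀ = z₀ → ∀ y ∈ Subgroup.zpowers z₀, σ y = y := fun h y hy =>
    (Subgroup.zpowers_le.2 h : _ ≤ MonoidHom.eqLocus (MulEquiv.toMonoidHom _) (MonoidHom.id A)) hy
  have ht0 := hfix (σ := t) (by rw [map_pow, ht1])
  have hs0 := hfix (σ := s) (by rw [← h4, map_pow, hs1])
  have ht3 : ∀ y, y ^ 3 = 1 → t y * y ∈ Subgroup.zpowers z₀ := fun y hy =>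
    mem_zpowers_pow_of_pow_eq_one three_ne_zero (hm.trans (pow_succ' 3 _)) (ht2 y)
      (by rw [mul_pow, ← map_pow, hy, map_one, one_mul])
  have hs3 : ∀ y, y ^ 3 = 1 → s y * y ∈ Subgroup.zpowers z₀ := fun y hy =>
    h4 ▸ mem_zpowers_pow_of_pow_eq_one three_ne_zero ((h5.trans hm).trans (pow_succ' 3 _)) (hs2 y)
      (by rw [mul_pow, ← map_pow, hy, map_one, one_mul])
  have h6 := MulAut.eq_one_of_omega hA hE (pow_card_eq_one_of_mem (mul_mem hs ht)) fun y hy =>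
    MulAut.apply_eq_of_stab hA hE (pow_card_eq_one_of_mem (mul_mem hs ht)) (by
      have h6 : y⁻¹ * (s * t) y = (t y * y) * (s y * y)⁻¹ := by
        rw [← hs0 _ (ht3 y hy), map_mul, MulAut.mul_apply, mul_inv_rev, mul_comm y⁻¹ (s y)⁻¹,
          ← mul_assoc, mul_inv_cancel_right, mul_comm]
      have h7 := h6 ▸ mul_mem (ht3 y hy) (inv_mem (hs3 y hy))
      exact (congrArg s (ht0 _ h7)).trans (hs0 _ h7))
  have h7 := DFunLike.congr_fun h6 z
  rw [MulAut.mul_apply, ht1, MulAut.one_apply] at h7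
  rw [map_mul, h7, mul_right_inj] at hs1
  have h8 := hs3 w hw3
  rw [hs1] at h8
  have h9 := mul_mem h8 h8
  rw [← mul_assoc, ← sq, ← pow_succ, hw3, one_mul] at h9
  exact hw (Subgroup.zpowers_le.2 (Subgroup.npow_mem_zpowers z _) h9)

theorem forall_mem_of_orderOf_seven (hA : IsPGroup 2 A) (hc : Nat.card A ≤ 16) {τ : MulAut A}
    (hτ : orderOf τ = 7) (K : A → Subgroup A) (h1 : ∀ x, x ∈ K x) (h2 : ∀ x y, y ∈ K x → x ∈ K y)
    (h3 : ∀ x y, y ∈ K x → τ y ∈ K (τ x))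
    (h4 : ∀ x y y', x * x = 1 → y ∉ K x → y' ∉ K x → y * y' ∈ K x) (x y : A) : y ∈ K x := by
  classical
  have : Fact (Nat.Prime 7) := ⟨by norm_num⟩
  have h7 : τ ^ 7 = 1 := hτ ▸ pow_orderOf_eq_one τ
  have h3' : ∀ (i : ℕ) x y, y ∈ K x → (τ ^ i) y ∈ K ((τ ^ i) x) := fun i => by
    induction i with
    | zero => exact fun _ _ h => h
    | succ i ih => exact fun x y h => by rw [pow_succ']; exact h3 _ _ (ih x y h)
  let δ : A →* A := τ.toMonoidHom / MonoidHom.id A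
  have hδ : ∀ a, δ a = τ a / a := fun _ => rfl
  have hker : ∀ {a}, a ∈ δ.ker ↔ τ a = a := div_eq_one
  have hW : ∀ w ∈ δ.range, ∀ i : ℕ, (τ ^ i) w ∈ δ.range := by
    rintro _ ⟨a, rfl⟩ i
    refine ⟨(τ ^ i) a, ?_⟩
    rw [hδ, hδ, map_div, ← MulAut.mul_apply, ← MulAut.mul_apply, ← pow_succ, ← pow_succ']
  have hfix : ∀ {a} {i : ℕ}, τ a ≠ a → (τ ^ i) a = a → 7 ∣ i := fun {a i} ha h => by
    by_contra h5
    obtain ⟨j, hj⟩ := exists_pow_eq_self_of_coprime (x := τ) (n := i)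
      (hτ ▸ ((Nat.Prime.coprime_iff_not_dvd Fact.out).2 h5).symm)
    exact ha (hj ▸ (Subgroup.pow_mem (MulAction.stabilizer (MulAut A) a) h j :))
  obtain ⟨x₀, hx₀, hx₀'⟩ : ∃ w ∈ δ.range, τ w ≠ w := by
    by_contra! h
    rw [MulAut.eq_one_of_stab hA (by norm_num) h7 fun a => h _ ⟨a, by
      rw [hδ, div_eq_mul_inv, mul_comm]⟩, orderOf_one] at hτ
    omega
  have hcard : Nat.card δ.range * Nat.card δ.ker = Nat.card A := by
    rw [← Subgroup.index_ker, Subgroup.index_mul_card]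
  have hmod : Nat.card A ≡ Nat.card δ.ker [MOD 7] := by
    convert card_modEq_card_fixed (r := 7) (k := 1) h7 using 3
    ext a
    exact hker
  obtain ⟨a, ha⟩ := hA.exists_card_eq
  obtain ⟨b, hb⟩ := (hA.to_subgroup δ.range).exists_card_eq
  obtain ⟨c, hc'⟩ := (hA.to_subgroup δ.ker).exists_card_eq
  have hb0 : b ≠ 0 := by
    rintro rfl
    rw [Subgroup.card_eq_one.1 hb, Subgroup.mem_bot] at hx₀
    exact hx₀' (by rw [hx₀, map_one])
  rw [ha, hb, hc', ← pow_add] at hcard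
  obtain rfl := Nat.pow_right_injective le_rfl hcard
  have h5 : b + c ≤ 4 := (Nat.pow_le_pow_iff_right one_lt_two).1 (ha ▸ hc)
  rw [ha, hc'] at hmod
  have h6 : b = 3 ∧ c ≤ 1 := by
    have : b ≤ 4 := by omega
    have : c ≤ 3 := by omega
    interval_cases b <;> interval_cases c <;> simp_all [Nat.ModEq]
  obtain ⟨rfl, h6⟩ := h6
  have hinj : ∀ i < 7, ∀ j < 7, (τ ^ i) x₀ = (τ ^ j) x₀ → i = j := by
    have : ∀ i j, i ≤ j → j < 7 → (τ ^ i) x₀ = (τ ^ j) x₀ → i = j := fun i j hij hj h => by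
      obtain ⟨k, rfl⟩ := Nat.exists_eq_add_of_le hij
      rw [pow_add, MulAut.mul_apply, EmbeddingLike.apply_eq_iff_eq] at h
      have := hfix hx₀' h.symm
      omega
    exact fun i hi j hj h => (le_total i j).elim (fun h' => this i j h' hj h)
      fun h' => (this j i h' hi h.symm).symm
  have hx1 : ∀ i : ℕ, (τ ^ i) x₀ ≠ 1 := fun i h => hx₀' (by
    rw [EmbeddingLike.map_eq_one_iff] at h; rw [h, map_one])
  have horb : ∀ w ∈ δ.range, w ≠ 1 → ∃ i : ℕ, w = (τ ^ i) x₀ := fun w hw hw1 => by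
    have := Fintype.ofFinite A
    have h8 := Finset.eq_of_subset_of_card_le
      (s := (Finset.range 7).image fun i => (τ ^ i) x₀)
      (t := (Finset.univ.filter (· ∈ δ.range)).erase 1) (fun w hw => by
        obtain ⟨i, -, rfl⟩ := Finset.mem_image.1 hw
        exact Finset.mem_erase.2 ⟨hx1 i, Finset.mem_filter.2 ⟨Finset.mem_univ _, hW _ hx₀ i⟩⟩) (by
        rw [Finset.card_image_of_injOn fun i hi j hj => hinj i (Finset.mem_range.1 hi) j
          (Finset.mem_range.1 hj), Finset.card_erase_of_mem (Finset.mem_filter.2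
            ⟨Finset.mem_univ _, one_mem _⟩), ← Fintype.card_subtype,
          ← Nat.card_eq_fintype_card, hb]
        rfl)
    obtain ⟨i, -, h9⟩ := Finset.mem_image.1 (h8 ▸ Finset.mem_erase.2
      ⟨hw1, Finset.mem_filter.2 ⟨Finset.mem_univ _, hw⟩⟩)
    exact ⟨i, h9.symm⟩
  have hsq : ∀ i : ℕ, (τ ^ i) x₀ * (τ ^ i) x₀ = 1 := fun i => by
    obtain ⟨w, hw, h8⟩ := exists_orderOf_eq_prime_of_dvd_card (p := 2) (H := δ.range)
      (by rw [hb]; norm_num)
    obtain ⟨j, rfl⟩ := horb w hw fun h => by simp [h] at h8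
    rw [MulEquiv.orderOf_eq] at h8
    rw [← map_mul, ← sq, ← h8, pow_orderOf_eq_one, map_one]
  have hthree : ∀ i : ℕ, ¬ 7 ∣ i → (τ ^ i) x₀ * (τ ^ (2 * i)) x₀ ≠ x₀ := fun i hi h => by
    have h8 := congrArg (τ ^ i) h
    rw [map_mul, ← MulAut.mul_apply, ← MulAut.mul_apply, ← pow_add, ← pow_add, ← two_mul] at h8
    have h9 : (τ ^ (i + 2 * i)) x₀ = x₀ := by
      rw [← mul_right_inj ((τ ^ (2 * i)) x₀), h8, ← mul_left_inj ((τ ^ (2 * i)) x₀), h,
        mul_right_comm, hsq, one_mul]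
    have := hfix hx₀' h9
    omega
  obtain ⟨i, hi, h8⟩ : ∃ i : ℕ, ¬ 7 ∣ i ∧ (τ ^ i) x₀ ∈ K x₀ := by
    by_cases h8 : (τ ^ 1) x₀ ∈ K x₀
    · exact ⟨1, by norm_num, h8⟩
    by_cases h9 : (τ ^ (2 * 1)) x₀ ∈ K x₀
    · exact ⟨2, by norm_num, h9⟩
    obtain ⟨i, hi⟩ := horb _ (mul_mem (hW _ hx₀ 1) (hW _ hx₀ (2 * 1))) fun h => by
      have := hinj 1 (by norm_num) 2 (by norm_num) (mul_left_cancel ((hsq 1).trans h.symm))
      omega
    refine ⟨i, fun ⟨j, hj⟩ => hthree 1 (by norm_num) ?_, hi ▸ h4 _ _ _ (hsq 0) h8 h9⟩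
    rw [hi, hj, pow_mul, h7, one_pow, MulAut.one_apply]
  have h9 : δ.range ≤ K ((τ ^ i) x₀) := by
    have := Fintype.ofFinite A
    set U := δ.range ⊓ K ((τ ^ i) x₀)
    have m0 : x₀ ∈ U := ⟨hx₀, h2 _ _ h8⟩
    have m1 : (τ ^ i) x₀ ∈ U := ⟨hW _ hx₀ i, h1 _⟩
    have m2 : (τ ^ (2 * i)) x₀ ∈ U := ⟨hW _ hx₀ _, by rw [two_mul, pow_add]; exact h3' i _ _ h8⟩
    have n1 : (τ ^ i) x₀ ≠ x₀ := fun h => hi (hfix hx₀' h)
    have n2 : (τ ^ (2 * i)) x₀ ≠ x₀ := fun h => by have := hfix hx₀' h; omega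
    have n3 : (τ ^ (2 * i)) x₀ ≠ (τ ^ i) x₀ := fun h => n1 (by
      rwa [two_mul, pow_add, MulAut.mul_apply, EmbeddingLike.apply_eq_iff_eq] at h)
    have h10 := Finset.card_le_card (s := {1, x₀, (τ ^ i) x₀, (τ ^ (2 * i)) x₀,
      (τ ^ i) x₀ * (τ ^ (2 * i)) x₀}) (t := Finset.univ.filter (· ∈ U)) fun a ha => by
        simp only [Finset.mem_insert, Finset.mem_singleton] at ha
        refine Finset.mem_filter.2 ⟨Finset.mem_univ _, ?_⟩
        rcases ha with rfl | rfl | rfl | rfl | rfl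
        exacts [one_mem _, m0, m1, m2, mul_mem m1 m2]
    have n4 : (τ ^ i) x₀ * (τ ^ (2 * i)) x₀ ≠ 1 := fun h =>
      n3 (mul_left_cancel (h.trans (hsq i).symm))
    have n5 : 1 ≠ x₀ := (hx1 0).symm
    rw [Finset.card_insert_of_notMem (by simp [n5, (hx1 _).symm, n4.symm]),
      Finset.card_insert_of_notMem (by simp [n1.symm, n2.symm, (hthree i hi).symm]),
      Finset.card_insert_of_notMem (by simp [n3.symm, hx1]),
      Finset.card_pair (by simp [hx1]), ← Fintype.card_subtype, ← Nat.card_eq_fintype_card] at h10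
    obtain ⟨j, hj, h11⟩ := (Nat.dvd_prime_pow Nat.prime_two).1
      (hb ▸ Subgroup.card_dvd_of_le (inf_le_left : U ≤ _))
    have h12 : j = 3 := by rw [h11] at h10; interval_cases j <;> omega
    exact (Subgroup.eq_of_le_of_card_ge (inf_le_left : U ≤ _) (by rw [hb, h11, h12])).ge.trans
      inf_le_right
  have h10 : ∀ w ∈ δ.range, δ.range ≤ K w := fun w hw w' hw' => by
    by_cases h : w = 1
    · exact h2 _ _ (h ▸ one_mem _)
    obtain ⟨j, rfl⟩ := horb w hw h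
    have h10 := h3' (j + 6 * i) _ _ (h9 (hW _ hw' (6 * (j + 6 * i))))
    rwa [← MulAut.mul_apply, ← MulAut.mul_apply, ← pow_add, ← pow_add,
      show j + 6 * i + 6 * (j + 6 * i) = 7 * (j + 6 * i) by ring,
      show j + 6 * i + i = j + 7 * i by ring, pow_add, pow_mul, pow_mul, h7, one_pow, one_pow,
      mul_one] at h10
  have hcyc : IsCyclic δ.ker := isCyclic_of_card_dvd_prime (p := 2) (by
    rw [hc']; interval_cases c <;> norm_num)
  obtain ⟨g, hg⟩ := (Subgroup.isCyclic_iff_exists_zpowers_eq_top _).1 hcyc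
  have hg1 : τ g = g := hker.1 (hg ▸ Subgroup.mem_zpowers g)
  have hg2 : g * g = 1 := by
    rw [← sq, ← orderOf_dvd_iff_pow_eq_one, ← Nat.card_zpowers, hg, hc']
    interval_cases c <;> norm_num
  have h11 : δ.range ≤ K g := by
    rintro _ ⟨a, rfl⟩
    have h11 : ∀ (i : ℕ) a, a ∈ K g → (τ ^ i) a ∈ K g := fun i a ha => by
      have := h3' i _ _ ha
      rwa [show (τ ^ i) g = g from Subgroup.pow_mem (MulAction.stabilizer (MulAut A) g) hg1 i]
        at this
    by_cases h : a ∈ K g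
    · exact div_mem (h11 1 a h) h
    rw [hδ, div_eq_mul_inv]
    refine h4 _ _ _ hg2 (fun h' => h ?_) fun h' => h (inv_mem_iff.1 h')
    have := h11 6 _ h'
    rwa [← MulAut.mul_apply, ← pow_succ, h7] at this
  have htop : δ.range ⊔ Subgroup.zpowers g = ⊤ := by
    rw [hg]
    refine (Subgroup.isComplement'_of_card_mul_and_disjoint (by rw [hb, hc', ha, pow_add])
      (Subgroup.disjoint_def.2 fun {w} hw hw' => ?_)).sup_eq_top
    by_contra h
    obtain ⟨j, rfl⟩ := horb w hw h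
    have := hker.1 hw'
    rw [← MulAut.mul_apply, ← pow_succ', pow_succ, MulAut.mul_apply,
      EmbeddingLike.apply_eq_iff_eq] at this
    exact hx₀' this
  have h12 : ∀ w, δ.range ≤ K w → g ∈ K w → ∀ y, y ∈ K w := fun w h h' y =>
    sup_le h (Subgroup.zpowers_le.2 h') (htop ▸ Subgroup.mem_top y)
  exact h12 x (fun w hw => h2 _ _ (h12 w (h10 w hw) (h2 _ _ (h11 hw)) x))
    (h2 _ _ (h12 g h11 (h1 g) x)) y

end comm

section ext
open scoped commutatorElement
variable {D : Type u} [Group D] {Q : Type v} [CommGroup Q] {ρ : D →* Q} {z : D}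
  (hρ : Function.Surjective ρ) (hker : ∀ d, ρ d = 1 ↔ d ∈ Subgroup.zpowers z)
  (hz : z ∈ Subgroup.center D)
include hker hz

theorem commutatorElement_mem_zpowers (a b : D) : ⁅a, b⁆ ∈ Subgroup.zpowers z :=
  (hker _).1 (by rw [map_commutatorElement, commutatorElement_eq_one_iff_mul_comm, mul_comm])

theorem commutatorElement_mul_right_of_central (a b c : D) : ⁅a, b * c⁆ = ⁅a, b⁆ * ⁅a, c⁆ := by
  have := Subgroup.mem_center_iff.1 (Subgroup.zpowers_le.2 hz
    (commutatorElement_mem_zpowers hker hz a c)) b⁻¹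
  calc ⁅a, b * c⁆ = ⁅a, b⁆ * (b * (⁅a, c⁆ * b⁻¹)) := by simp only [commutatorElement_def]; group
    _ = _ := by rw [← this, mul_inv_cancel_left]

theorem commutatorElement_congr_right (a : D) {b b' : D} (h : ρ b = ρ b') : ⁅a, b⁆ = ⁅a, b'⁆ := by
  have h1 := Subgroup.mem_center_iff.1 (Subgroup.zpowers_le.2 hz ((hker (b⁻¹ * b')).1 (by
    rw [map_mul, map_inv, h, inv_mul_cancel]))) a
  rw [← mul_inv_cancel_left b b', commutatorElement_mul_right_of_central hker hz,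
    commutatorElement_eq_one_iff_mul_comm.2 h1, mul_one]

theorem commutatorElement_congr_left {a a' : D} (h : ρ a = ρ a') (b : D) : ⁅a, b⁆ = ⁅a', b⁆ := by
  rw [← commutatorElement_inv, commutatorElement_congr_right hker hz b h, commutatorElement_inv]

variable {σ : MulAut D} {τ : MulAut Q} (hσ : σ z = z) (hτ : ∀ d, ρ (σ d) = τ (ρ d))
include hσ

theorem commutatorElement_aut (a b : D) : ⁅σ a, σ b⁆ = ⁅a, b⁆ := by
  obtain ⟨k, hk⟩ := commutatorElement_mem_zpowers hker hz a b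
  rw [← map_commutatorElement, ← hk, map_zpow, hσ]

include hρ hτ
variable [Finite Q]

theorem comm_of_orderOf_seven [Finite D] (hQ : IsPGroup 2 Q) (hc : Nat.card Q ≤ 16)
    (h7 : orderOf τ = 7) (a b : D) : a * b = b * a := by
  choose s hs using hρ
  let K : Q → Subgroup Q := fun x => (Subgroup.centralizer {s x}).map ρ
  have hK : ∀ a b, ρ b ∈ K (ρ a) ↔ ⁅a, b⁆ = 1 := fun a b => by
    rw [← commutatorElement_congr_left hker hz (hs (ρ a))]
    refine ⟨fun ⟨c, hc, h⟩ => ?_, fun h => ⟨b, Subgroup.mem_centralizer_singleton_iff.2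
      (commutatorElement_eq_one_iff_mul_comm.1 h).symm, rfl⟩⟩
    rw [← commutatorElement_congr_right hker hz _ h, commutatorElement_eq_one_iff_mul_comm]
    exact (Subgroup.mem_centralizer_singleton_iff.1 hc).symm
  refine commutatorElement_eq_one_iff_mul_comm.1 ((hK a b).1 (forall_mem_of_orderOf_seven hQ hc h7
    K (fun x => ?_) (fun x y h => ?_) (fun x y h => ?_) (fun x y y' h h1 h2 => ?_) _ _))
  · rw [← hs x, hK, commutatorElement_self]
  · rw [← hs x, ← hs y, hK] at h ⊢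
    rw [← commutatorElement_inv, h, inv_one]
  · rw [← hs x, ← hs y] at h ⊢
    rw [← hτ, ← hτ, hK, commutatorElement_aut hker hz hσ, ← hK]
    exact h
  · have h3 : ∀ b : D, ⁅s x, b⁆ * ⁅s x, b⁆ = 1 := fun b => by
      rw [← inv_eq_one, mul_inv_rev, commutatorElement_inv,
        ← commutatorElement_mul_right_of_central hker hz,
        commutatorElement_congr_right hker hz b (b' := 1) (by rw [map_mul, hs, h, map_one]),
        commutatorElement_one_right]
    rw [← hs x, ← hs y, hK] at h1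
    rw [← hs x, ← hs y', hK] at h2
    rw [← hs x, ← hs y, ← hs y', ← map_mul, hK, commutatorElement_mul_right_of_central hker hz]
    have h4 : ∀ b : D, ⁅s x, b⁆ ≠ 1 → Nat.card (Subgroup.zpowers ⁅s x, b⁆) = 2 := fun b hb => by
      rw [Nat.card_zpowers, orderOf_eq_prime ((sq _).trans (h3 b)) hb]
    have h5 := eq_of_card_eq_of_isCyclic (P := Subgroup.zpowers z) inferInstance
      (Subgroup.zpowers_le.2 (commutatorElement_mem_zpowers hker hz (s x) (s y)))
      (Subgroup.zpowers_le.2 (commutatorElement_mem_zpowers hker hz (s x) (s y')))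
      ((h4 _ h1).trans (h4 _ h2).symm)
    obtain ⟨k, hk⟩ : ⁅s x, s y'⁆ ∈ Subgroup.zpowers ⁅s x, s y⁆ := h5 ▸ Subgroup.mem_zpowers _
    obtain ⟨j, rfl | rfl⟩ := Int.even_or_odd' k <;>
      simp only [zpow_add, zpow_mul, zpow_two, h3, one_zpow, one_mul, zpow_one] at hk
    · exact absurd hk.symm h2
    · rw [← hk, h3]

theorem aut_eq_one_of_card_le_sq {p : ℕ} [hp : Fact p.Prime] (hQ : IsPGroup p Q)
    (hc : Nat.card Q ≤ p ^ 2) (hD : ¬ ∀ a b : D, a * b = b * a) {n : ℕ} (hn : ¬ p ∣ n)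
    (h : τ ^ n = 1) {x : Q} (hx : x ≠ 1) (h1 : τ x = x) : τ = 1 := by
  obtain ⟨a, rfl⟩ := hρ x
  have key : ∀ U : Subgroup Q, ρ a ∈ U → U ≠ ⊤ → U = Subgroup.zpowers (ρ a) ∧ U.index ∣ p := by
    intro U hU hU'
    obtain ⟨i, hi⟩ := (hQ.to_subgroup U).exists_card_eq
    obtain ⟨j, hj⟩ := hQ.exists_card_eq
    have h2 := card_lt_of_ne_top hU'
    rw [hi, hj, Nat.pow_lt_pow_iff_right hp.out.one_lt] at h2
    rw [hj, Nat.pow_le_pow_iff_right hp.out.one_lt] at hc
    have h3 : i ≠ 0 := by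
      rintro rfl
      exact hx (Subgroup.mem_bot.1 (Subgroup.card_eq_one.1 hi ▸ hU))
    obtain rfl : i = 1 := by omega
    obtain rfl : j = 2 := by omega
    refine ⟨eq_zpowers_of_card_prime (hi.trans (pow_one p)) hU hx, dvd_of_eq ?_⟩
    have := U.card_mul_index
    rw [hi, hj, pow_one, sq] at this
    exact Nat.eq_of_mul_eq_mul_left hp.out.pos this
  have h2 : (Subgroup.centralizer {a}).map ρ ≠ ⊤ := fun h2 => hD fun b c => by
    have ha : a ∈ Subgroup.center D := Subgroup.mem_center_iff.2 fun d => by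
      obtain ⟨d', hd, h3⟩ : ρ d ∈ (Subgroup.centralizer {a}).map ρ := h2 ▸ Subgroup.mem_top _
      rw [eq_comm, ← commutatorElement_eq_one_iff_mul_comm,
        ← commutatorElement_congr_right hker hz a h3, commutatorElement_eq_one_iff_mul_comm]
      exact (Subgroup.mem_centralizer_singleton_iff.1 hd).symm
    have : IsCyclic (Q ⧸ Subgroup.zpowers (ρ a)) := isCyclic_of_card_dvd_prime (p := p) (by
      by_cases h3 : Subgroup.zpowers (ρ a) = ⊤
      · rw [← Subgroup.index, h3, Subgroup.index_top]; exact one_dvd _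
      · exact (key _ (Subgroup.mem_zpowers _) h3).2)
    refine (((QuotientGroup.mk' (Subgroup.zpowers (ρ a))).comp ρ
      ).isMulCommutative_of_isCyclic_of_ker_le_center fun d hd => ?_).is_comm.comm b c
    obtain ⟨k, hk⟩ := (QuotientGroup.eq_one_iff _).1 hd
    rw [← mul_inv_cancel_left (a ^ k) d]
    exact mul_mem (zpow_mem ha k) (Subgroup.zpowers_le.2 hz ((hker _).1 (by
      rw [map_mul, map_inv, map_zpow, ← hk, inv_mul_cancel])))
  refine MulAut.eq_one_of_stab hQ hn h fun q => ?_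
  obtain ⟨b, rfl⟩ := hρ q
  have h3 : (ρ b)⁻¹ * τ (ρ b) ∈ (Subgroup.centralizer {a}).map ρ := by
    refine ⟨b⁻¹ * σ b, Subgroup.mem_centralizer_singleton_iff.2
      (commutatorElement_eq_one_iff_mul_comm.1 ?_).symm, by rw [map_mul, map_inv, hτ]⟩
    rw [commutatorElement_mul_right_of_central hker hz, ← commutatorElement_congr_left hker hz
      ((hτ a).trans h1) (σ b), commutatorElement_aut hker hz hσ,
      ← commutatorElement_mul_right_of_central hker hz, inv_mul_cancel, commutatorElement_one_right]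
  rw [(key _ (Subgroup.mem_map_of_mem ρ (Subgroup.mem_centralizer_singleton_iff.2 rfl)) h2).1]
    at h3
  obtain ⟨k, hk⟩ := h3
  rw [← hk, map_zpow, h1]

end ext

end Cfsg
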