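import Mathlib

/-! Recognition of `PSL(2, p)` from a doubly transitive action on `p + 1` points. -/

set_option autoImplicit false

namespace Cfsg

open scoped MatrixGroups
open OnePoint

section Mob

variable {F : Type*} [Field F] [DecidableEq F]

/-- The action of `SL(2, F)` on the projective line. -/
noncomputable def mobPerm (F : Type*) [Field F] [DecidableEq F] :
    SL(2, F) →* Equiv.Perm (OnePoint F) :=
  (MulAction.toPermHom (GL (Fin 2) F) (OnePoint F)).comp Matrix.SpecialLinearGroup.toGL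

theorem mobPerm_infty (A : SL(2, F)) :
    mobPerm F A ∞ = if A 1 0 = 0 then ∞ else ((A 0 0 / A 1 0 : F) : OnePoint F) :=
  OnePoint.smul_infty_eq_ite _

theorem mobPerm_coe (A : SL(2, F)) (k : F) :
    mobPerm F A (k : OnePoint F) = if A 1 0 * k + A 1 1 = 0 then ∞ else
      (((A 0 0 * k + A 0 1) / (A 1 0 * k + A 1 1) : F) : OnePoint F) :=
  OnePoint.smul_some_eq_ite

theorem mobPerm_ker : (mobPerm F).ker = Subgroup.center SL(2, F) := by
  ext A
  rw [MonoidHom.mem_ker, Matrix.SpecialLinearGroup.mem_center_iff]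
  have hdet : A 0 0 * A 1 1 - A 0 1 * A 1 0 = 1 := by
    have := A.det_coe
    rwa [Matrix.det_fin_two] at this
  constructor
  · intro h
    have h1 : mobPerm F A ∞ = ∞ := by rw [h]; rfl
    have h2 : mobPerm F A ((0 : F) : OnePoint F) = ((0 : F) : OnePoint F) := by rw [h]; rfl
    have h3 : mobPerm F A ((1 : F) : OnePoint F) = ((1 : F) : OnePoint F) := by rw [h]; rfl
    rw [mobPerm_infty] at h1
    rw [mobPerm_coe] at h2 h3
    have h10 : A 1 0 = 0 := by
      by_contra hc
      simp [hc] at h1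
    have h11 : A 1 1 ≠ 0 := by
      intro hc
      simp [h10, hc] at hdet
    have h01 : A 0 1 = 0 := by
      simpa [h10, h11] using h2
    have h00 : A 0 0 = A 1 1 := by
      simp only [h10, h01, zero_add, h11, if_false, mul_one, add_zero,
        OnePoint.coe_eq_coe] at h3
      rwa [div_eq_one_iff_eq h11] at h3
    refine ⟨A 1 1, ?_, ?_⟩
    · rw [h10, h00] at hdet
      simpa [pow_two] using hdet
    · ext i j
      fin_cases i <;> fin_cases j <;> simp [h10, h01, h00]
  · rintro ⟨r, hr, hA⟩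
    have h00 : A 0 0 = r := by rw [show A 0 0 = A.1 0 0 from rfl, ← hA]; simp
    have h11 : A 1 1 = r := by rw [show A 1 1 = A.1 1 1 from rfl, ← hA]; simp
    have h01 : A 0 1 = 0 := by rw [show A 0 1 = A.1 0 1 from rfl, ← hA]; simp
    have h10 : A 1 0 = 0 := by rw [show A 1 0 = A.1 1 0 from rfl, ← hA]; simp
    have hr0 : r ≠ 0 := by
      rintro rfl
      simp at hr
    ext x
    induction x using OnePoint.rec with
    | infty => simp [mobPerm_infty, h10]
    | coe k => simp [mobPerm_coe, h10, h11, h00, h01, hr0]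

/-- `PSL(2, F)` is the image of `SL(2, F)` in the permutations of the projective line. -/
noncomputable def pslEquivRange (F : Type*) [Field F] [DecidableEq F] :
    Matrix.ProjectiveSpecialLinearGroup (Fin 2) F ≃* (mobPerm F).range :=
  (QuotientGroup.quotientMulEquivOfEq (mobPerm_ker (F := F)).symm).trans
    (QuotientGroup.quotientKerEquivRange (mobPerm F))

/-- An element of `SL(2, F)` from its entries. -/
def mobMk (a b c d : F) (h : a * d - b * c = 1) : SL(2, F) :=
  ⟨!![a, b; c, d], by rw [Matrix.det_fin_two_of]; exact h⟩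

omit [DecidableEq F] in
@[simp] theorem mobMk_00 (a b c d : F) (h : a * d - b * c = 1) : mobMk a b c d h 0 0 = a := rfl
omit [DecidableEq F] in
@[simp] theorem mobMk_01 (a b c d : F) (h : a * d - b * c = 1) : mobMk a b c d h 0 1 = b := rfl
omit [DecidableEq F] in
@[simp] theorem mobMk_10 (a b c d : F) (h : a * d - b * c = 1) : mobMk a b c d h 1 0 = c := rfl
omit [DecidableEq F] in
@[simp] theorem mobMk_11 (a b c d : F) (h : a * d - b * c = 1) : mobMk a b c d h 1 1 = d := rfl

/-- translation -/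
noncomputable def mobT (a : F) : Equiv.Perm (OnePoint F) :=
  mobPerm F (mobMk 1 a 0 1 (by simp))

/-- multiplication by a square -/
noncomputable def mobD (s : Fˣ) : Equiv.Perm (OnePoint F) :=
  mobPerm F (mobMk (s : F) 0 0 (s : F)⁻¹ (by simp))

/-- the Weyl element -/
noncomputable def mobW (s : Fˣ) : Equiv.Perm (OnePoint F) :=
  mobPerm F (mobMk 0 (-(s : F)) (s : F)⁻¹ 0 (by simp))

@[simp] theorem mobT_infty (a : F) : mobT a ∞ = ∞ := by simp [mobT, mobPerm_infty]
@[simp] theorem mobT_coe (a k : F) : mobT a (k : OnePoint F) = ((k + a : F) : OnePoint F) := by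
  simp [mobT, mobPerm_coe]
@[simp] theorem mobD_infty (s : Fˣ) : mobD s ∞ = ∞ := by simp [mobD, mobPerm_infty]
@[simp] theorem mobD_coe (s : Fˣ) (k : F) :
    mobD s (k : OnePoint F) = (((s : F) ^ 2 * k : F) : OnePoint F) := by
  simp only [mobD, mobPerm_coe]
  simp
  ring
@[simp] theorem mobW_infty (s : Fˣ) : mobW s ∞ = ((0 : F) : OnePoint F) := by
  simp [mobW, mobPerm_infty]
@[simp] theorem mobW_zero (s : Fˣ) : mobW s ((0 : F) : OnePoint F) = ∞ := by
  simp [mobW, mobPerm_coe]
theorem mobW_coe (s : Fˣ) {k : F} (hk : k ≠ 0) :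
    mobW s (k : OnePoint F) = ((-(s : F) ^ 2 / k : F) : OnePoint F) := by
  simp only [mobW, mobPerm_coe]
  simp [hk]
  field_simp

theorem le_of_bruhat {K L : Subgroup (Equiv.Perm (OnePoint F))} {w : Equiv.Perm (OnePoint F)}
    (hK : ∀ a, mobT a ∈ K) (hL : ∀ a, mobT a ∈ L) (hwK : w ∈ K) (hwL : w ∈ L)
    (hw : w ((0 : F) : OnePoint F) = ∞)
    (h : ∀ g ∈ K, g ∞ = ∞ → g ((0 : F) : OnePoint F) = ((0 : F) : OnePoint F) → g ∈ L) :
    K ≤ L := by
  have h1 : ∀ g ∈ K, g ∞ = ∞ → g ∈ L := by
    intro g hg hi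
    have h0 : g ((0 : F) : OnePoint F) ≠ ∞ := by
      intro hc
      exact OnePoint.coe_ne_infty _ (g.injective (hc.trans hi.symm))
    obtain ⟨a, ha⟩ := OnePoint.ne_infty_iff_exists.1 h0
    have := h (mobT (-a) * g) (K.mul_mem (hK _) hg) (by simp [hi]) (by simp [← ha])
    exact (L.mul_mem_cancel_left (hL _)).1 this
  intro g hg
  by_cases hi : g ∞ = ∞
  · exact h1 g hg hi
  · obtain ⟨a, ha⟩ := OnePoint.ne_infty_iff_exists.1 hi
    have := h1 (w * (mobT (-a) * g)) (K.mul_mem hwK (K.mul_mem (hK _) hg)) (by simp [← ha, hw])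
    exact (L.mul_mem_cancel_left (hL _)).1 ((L.mul_mem_cancel_left hwL).1 this)

theorem exists_mobD_of_range {g : Equiv.Perm (OnePoint F)} (hg : g ∈ (mobPerm F).range)
    (hi : g ∞ = ∞) (h0 : g ((0 : F) : OnePoint F) = ((0 : F) : OnePoint F)) :
    ∃ s : Fˣ, g = mobD s := by
  obtain ⟨A, rfl⟩ := hg
  have hdet : A 0 0 * A 1 1 - A 0 1 * A 1 0 = 1 := by
    have := A.det_coe
    rwa [Matrix.det_fin_two] at this
  rw [mobPerm_infty] at hi
  rw [mobPerm_coe] at h0
  have h10 : A 1 0 = 0 := by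
    by_contra hc
    simp [hc] at hi
  have h11 : A 1 1 ≠ 0 := by
    intro hc
    simp [h10, hc] at hdet
  have h01 : A 0 1 = 0 := by
    simpa [h10, h11] using h0
  rw [h10, mul_zero, sub_zero] at hdet
  have h00 : A 0 0 ≠ 0 := left_ne_zero_of_mul_eq_one hdet
  refine ⟨Units.mk0 _ h00, ?_⟩
  unfold mobD
  congr 1
  ext i j
  fin_cases i <;> fin_cases j <;> simp [h10, h01]
  exact (eq_inv_of_mul_eq_one_right hdet)

/-- The key computation: the Weyl element is `x ↦ -s² / x`. -/
theorem exists_eq_mobW {p : ℕ} [Fact p.Prime] (hp : p ≠ 2)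
    {K : Subgroup (Equiv.Perm (OnePoint (ZMod p)))} {w : Equiv.Perm (OnePoint (ZMod p))}
    (hT : ∀ a, mobT a ∈ K) (hwK : w ∈ K) (hw : w ∞ = ((0 : ZMod p) : OnePoint (ZMod p)))
    (hw2 : w * w = 1) (hwD : ∀ s : (ZMod p)ˣ, w * mobD s * w = mobD s⁻¹)
    (h : ∀ g ∈ K, g ∞ = ∞ → g ((0 : ZMod p) : OnePoint (ZMod p)) =
      ((0 : ZMod p) : OnePoint (ZMod p)) → ∃ s, g = mobD s) :
    ∃ s, w = mobW s := by
  have hww : ∀ x, w (w x) = x := fun x => by
    rw [← Equiv.Perm.mul_apply, hw2]; rfl
  have hw0 : w ((0 : ZMod p) : OnePoint (ZMod p)) = ∞ := by rw [← hw, hww]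
  have hex : ∀ x : ZMod p, ∃ y : ZMod p, x ≠ 0 → w x = y := by
    intro x
    by_cases hx : x = 0
    · exact ⟨0, fun h => (h hx).elim⟩
    · have : w x ≠ ∞ := by
        intro hc
        rw [← hw0] at hc
        exact hx (OnePoint.coe_injective (w.injective hc))
      obtain ⟨y, hy⟩ := OnePoint.ne_infty_iff_exists.1 this
      exact ⟨y, fun _ => hy.symm⟩
  choose f hf using hex
  have hf0 : ∀ x, x ≠ 0 → f x ≠ 0 := by
    intro x hx hc
    have := hf x hx
    rw [hc, ← hw] at this
    exact OnePoint.coe_ne_infty _ (w.injective this)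
  have hff : ∀ x, x ≠ 0 → f (f x) = x := by
    intro x hx
    have := hww x
    rw [hf x hx, hf _ (hf0 x hx)] at this
    exact OnePoint.coe_injective this
  have hfs : ∀ (s : ZMod p) (x : ZMod p), s ≠ 0 → x ≠ 0 → f (s ^ 2 * x) = f x / s ^ 2 := by
    intro s x hs hx
    have h1 := congrArg (fun g : Equiv.Perm (OnePoint (ZMod p)) => g (f x))
      (hwD (Units.mk0 s hs))
    simp only [Equiv.Perm.mul_apply] at h1
    rw [hf _ (hf0 x hx), hff x hx, mobD_coe, mobD_coe,
      hf _ (mul_ne_zero (pow_ne_zero _ (Units.ne_zero _)) hx)] at h1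
    have h2 := OnePoint.coe_injective h1
    simp only [Units.val_mk0, Units.val_inv_eq_inv_val] at h2
    rw [h2]
    field_simp
  have hm1 : (-1 : ZMod p) ≠ 0 := neg_ne_zero.2 one_ne_zero
  set c := f 1 with hc
  set x₀ := f (-1) with hx₀
  have hc0 : c ≠ 0 := hf0 _ one_ne_zero
  have hx00 : x₀ ≠ 0 := hf0 _ hm1
  obtain ⟨s, hs⟩ := h (mobT (-c) * w * mobT 1 * w * mobT x₀ * w)
    (K.mul_mem (K.mul_mem (K.mul_mem (K.mul_mem (K.mul_mem (hT _) hwK) (hT _)) hwK) (hT _)) hwK)
    (by
      simp only [Equiv.Perm.mul_apply, hw, mobT_coe, zero_add]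
      rw [hf _ hx00, hff _ hm1]
      simp [hw0])
    (by
      simp only [Equiv.Perm.mul_apply, hw0, mobT_infty, hw, mobT_coe, zero_add]
      rw [hf _ one_ne_zero]
      simp [hc])
  have hs' : ∀ z : ZMod p, z - x₀ ≠ 0 →
      mobT (-c) (w (mobT 1 (w z))) = (((s : ZMod p) ^ 2 * f (z - x₀) : ZMod p) : OnePoint _) := by
    intro z hz
    have h1 := congrArg (fun g : Equiv.Perm (OnePoint (ZMod p)) => g (f (z - x₀))) hs
    simp only [Equiv.Perm.mul_apply] at h1
    rw [hf _ (hf0 _ hz), hff _ hz, mobT_coe, sub_add_cancel, mobD_coe] at h1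
    exact h1
  have e0 : -c = (s : ZMod p) ^ 2 * f (-x₀) := by
    have := hs' 0 (by simpa using hx00)
    rw [hw0, mobT_infty, hw, mobT_coe, zero_add, zero_sub] at this
    exact OnePoint.coe_injective this
  have hsq : ∀ y : ZMod p, y ≠ 0 → IsSquare y → f y = c / y := by
    rintro y hy ⟨r, rfl⟩
    have hr : r ≠ 0 := left_ne_zero_of_mul hy
    have := hfs r 1 hr one_ne_zero
    rwa [mul_one, pow_two] at this
  have hchar : ringChar (ZMod p) ≠ 2 := by rwa [ZMod.ringChar_zmod_n]
  have hquot : ∀ a b : ZMod p, a ≠ 0 → b ≠ 0 → ¬ IsSquare a → ¬ IsSquare b → IsSquare (a / b) := by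
    intro a b ha hb h1 h2
    have h3 : quadraticChar (ZMod p) (a * b) = 1 := by
      rw [map_mul, quadraticChar_neg_one_iff_not_isSquare.2 h1,
        quadraticChar_neg_one_iff_not_isSquare.2 h2]
      norm_num
    obtain ⟨r, hr⟩ := (quadraticChar_one_iff_isSquare (mul_ne_zero ha hb)).1 h3
    refine ⟨r / b, ?_⟩
    field_simp
    rw [pow_two, ← hr]
  have key : (∀ x : ZMod p, x ≠ 0 → f x = c / x) ∧ f (-x₀) = 1 := by
    by_cases hcs : IsSquare c
    · -- `w` preserves squares
      have hns : ∀ x : ZMod p, x ≠ 0 → ¬ IsSquare x → ¬ IsSquare (f x) := by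
        intro x hx h1 h2
        apply h1
        rw [← hff x hx, hsq _ (hf0 x hx) h2]
        exact hcs.div h2
      have hneg : IsSquare (-1 : ZMod p) := by
        by_contra hn
        have h1 : IsSquare (-x₀) := by
          have := hquot x₀ (-1) hx00 hm1 (hns _ hm1 hn) hn
          rwa [div_neg, div_one] at this
        have h2 : IsSquare (-c) := by
          rw [e0, hsq _ (neg_ne_zero.2 hx00) h1]
          exact (IsSquare.sq _).mul (hcs.div h1)
        apply hn
        have := h2.div hcs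
        rwa [neg_div, div_self hc0] at this
      have hx0c : x₀ = -c := by rw [hx₀, hsq _ hm1 hneg, div_neg, div_one]
      have hfc : f (-x₀) = 1 := by rw [hx0c, neg_neg, hc, hff _ one_ne_zero]
      refine ⟨?_, hfc⟩
      rw [hfc, mul_one] at e0
      -- the key relation
      have hrel : ∀ z : ZMod p, z ≠ 0 → IsSquare z → z + c ≠ 0 → f (z + c) = c / (z + c) := by
        intro z hz hzs hzc
        have h1 := hs' z (by rwa [hx0c, sub_neg_eq_add])
        have h2 : c / z + 1 ≠ 0 := by
          have : c / z + 1 = (z + c) / z := by field_simp; ring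
          rw [this]
          exact div_ne_zero hzc hz
        rw [hf _ hz, hsq _ hz hzs, mobT_coe, hf _ h2, mobT_coe, hx0c, sub_neg_eq_add, ← e0] at h1
        have h3 := OnePoint.coe_injective h1
        obtain ⟨r, hr⟩ := hzs
        have hr0 : r ≠ 0 := left_ne_zero_of_mul (hr ▸ hz)
        have h4 : c / z + 1 = r⁻¹ ^ 2 * (z + c) := by rw [hr]; field_simp; ring
        rw [h4, hfs _ _ (inv_ne_zero hr0) hzc] at h3
        have h5 : f (z + c) / r⁻¹ ^ 2 = f (z + c) * z := by rw [hr]; field_simp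
        rw [h5] at h3
        field_simp
        linear_combination h3
      by_contra hcon
      push Not at hcon
      obtain ⟨x, hx, hxc⟩ := hcon
      have hxs : ¬ IsSquare x := fun h => hxc (hsq x hx h)
      have hall : ∀ y : ZMod p, y ≠ 0 → f y = c / y → IsSquare y := by
        intro y hy hyc
        by_contra hys
        obtain ⟨r, hr⟩ := hquot x y hx hy hxs hys
        have hr0 : r ≠ 0 := left_ne_zero_of_mul (hr ▸ div_ne_zero hx hy)
        have h1 : x = r ^ 2 * y := by rw [pow_two, ← hr]; field_simp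
        apply hxc
        rw [h1, hfs _ _ hr0 hy, hyc]
        field_simp
      have hstep : ∀ k : ℕ, IsSquare ((k : ZMod p) * c) := by
        intro k
        induction k with
        | zero => simp
        | succ k ih =>
          by_cases h1 : (k : ZMod p) * c = 0
          · push_cast
            rw [add_mul, h1, zero_add, one_mul]
            exact hcs
          · by_cases h2 : (k : ZMod p) * c + c = 0
            · push_cast
              rw [add_mul, one_mul, h2]
              exact IsSquare.zero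
            · push_cast
              rw [add_mul, one_mul]
              exact hall _ h2 (hrel _ h1 ih h2)
      apply hxs
      have := hstep (x / c).val
      rwa [ZMod.natCast_zmod_val, div_mul_cancel₀ _ hc0] at this
    · have h1 : ∀ x : ZMod p, x ≠ 0 → f x = c / x := by
        intro x hx
        by_cases hxs : IsSquare x
        · exact hsq x hx hxs
        · have h2 := hquot c x hc0 hx hcs hxs
          have h3 := hsq _ (div_ne_zero hc0 hx) h2
          have h4 : c / (c / x) = x := by field_simp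
          rw [h4] at h3
          rw [← hff (c / x) (div_ne_zero hc0 hx), h3]
      refine ⟨h1, ?_⟩
      rw [hx₀, h1 _ hm1, div_neg, div_one, neg_neg, h1 _ hc0, div_self hc0]
  refine ⟨s, ?_⟩
  rw [key.2, mul_one] at e0
  ext x
  induction x using OnePoint.rec with
  | infty => rw [hw, mobW_infty]
  | coe k =>
    by_cases hk : k = 0
    · rw [hk, hw0, mobW_zero]
    · rw [hf k hk, mobW_coe _ hk, key.1 k hk, ← e0, neg_neg]

theorem eq_range_mobPerm {p : ℕ} [Fact p.Prime] (hp : p ≠ 2)
    {K : Subgroup (Equiv.Perm (OnePoint (ZMod p)))} {w : Equiv.Perm (OnePoint (ZMod p))}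
    (hT : ∀ a, mobT a ∈ K) (hD : ∀ s, mobD s ∈ K) (hwK : w ∈ K)
    (hw : w ∞ = ((0 : ZMod p) : OnePoint (ZMod p)))
    (hw2 : w * w = 1) (hwD : ∀ s : (ZMod p)ˣ, w * mobD s * w = mobD s⁻¹)
    (h : ∀ g ∈ K, g ∞ = ∞ → g ((0 : ZMod p) : OnePoint (ZMod p)) =
      ((0 : ZMod p) : OnePoint (ZMod p)) → ∃ s, g = mobD s) :
    K = (mobPerm (ZMod p)).range := by
  obtain ⟨s, rfl⟩ := exists_eq_mobW hp hT hwK hw hw2 hwD h
  apply le_antisymm
  · refine le_of_bruhat hT (fun a => ⟨_, rfl⟩) hwK ⟨_, rfl⟩ (mobW_zero s) ?_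
    intro g hg h1 h2
    obtain ⟨t, rfl⟩ := h g hg h1 h2
    exact ⟨_, rfl⟩
  · refine le_of_bruhat (fun a => ⟨_, rfl⟩) hT ⟨_, rfl⟩ hwK (mobW_zero s) ?_
    intro g hg h1 h2
    obtain ⟨t, rfl⟩ := exists_mobD_of_range hg h1 h2
    exact hD t

end Mob

/-- **Recognition of `PSL(2, p)`** -/
theorem nonempty_mulEquiv_psl2 {G : Type*} [Group G] [Finite G] {p : ℕ} [hpp : Fact p.Prime]
    (hp : p ≠ 2) {Ω : Type*} [MulAction G Ω] [FaithfulSMul G Ω] (hΩ : Nat.card Ω = p + 1)
    {α β : Ω} {u w : G} (hu : orderOf u = p) (huα : u • α = α) (huβ : u • β ≠ β)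
    (hnorm : ∀ g : G, g • α = α → g • β = β → g * u * g⁻¹ ∈ Subgroup.zpowers u)
    (hQ : 2 * Nat.card ↥(MulAction.stabilizer G α ⊓ MulAction.stabilizer G β) + 1 = p)
    (hw : w • α = β) (hw2 : w * w = 1)
    (hinv : ∀ x : G, x • α = α → x • β = β → w * x * w = x⁻¹) :
    Nonempty (G ≃* Matrix.ProjectiveSpecialLinearGroup (Fin 2) (ZMod p)) := by
  classical
  have : Finite Ω := Nat.finite_of_card_ne_zero (by omega)
  have hαβ : α ≠ β := by
    rintro rfl
    exact huβ huα
  let pw : ZMod p → G := fun a => u ^ a.val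
  have pw_nat : ∀ n : ℕ, pw (n : ZMod p) = u ^ n := by
    intro n
    simp only [pw, ZMod.val_natCast]
    rw [← hu, pow_mod_orderOf]
  have pw_add : ∀ a b, pw (a + b) = pw a * pw b := by
    intro a b
    rw [← ZMod.natCast_zmod_val a, ← ZMod.natCast_zmod_val b, ← Nat.cast_add, pw_nat, pw_nat,
      pw_nat, pow_add]
  have pw_zero : pw 0 = 1 := by simp [pw]
  have pw_α : ∀ a, pw a • α = α := fun a =>
    (MulAction.stabilizer G α).pow_mem (show u ∈ MulAction.stabilizer G α from huα) _
  have pw_β : ∀ a, pw a • β = β → a = 0 := by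
    intro a ha
    by_contra h0
    apply huβ
    have h1 : pw (((a⁻¹).val * a.val : ℕ) : ZMod p) = u := by
      have : (((a⁻¹).val * a.val : ℕ) : ZMod p) = ((1 : ℕ) : ZMod p) := by
        push_cast
        rw [ZMod.natCast_zmod_val, ZMod.natCast_zmod_val, inv_mul_cancel₀ h0]
      rw [this, pw_nat, pow_one]
    rw [pw_nat, mul_comm, pow_mul] at h1
    rw [← h1]
    exact (MulAction.stabilizer G β).pow_mem (show pw a ∈ MulAction.stabilizer G β from ha) _
  let e₀ : OnePoint (ZMod p) → Ω := fun x => OnePoint.rec α (fun a => pw a • β) x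
  have e₀i : e₀ ∞ = α := rfl
  have e₀c : ∀ a : ZMod p, e₀ a = pw a • β := fun a => rfl
  have hne : ∀ a, pw a • β ≠ α := by
    intro a ha
    rw [← pw_α a] at ha
    exact hαβ (MulAction.injective _ ha).symm
  have hinj : Function.Injective e₀ := by
    intro x y hxy
    induction x using OnePoint.rec with
    | infty =>
      induction y using OnePoint.rec with
      | infty => rfl
      | coe b => exact (hne b hxy.symm).elim
    | coe a =>
      induction y using OnePoint.rec with
      | infty => exact (hne a hxy).elim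
      | coe b =>
        rw [e₀c, e₀c] at hxy
        have : pw (-b + a) • β = β := by
          rw [pw_add, mul_smul, hxy, ← mul_smul, ← pw_add, neg_add_cancel, pw_zero, one_smul]
        rw [(neg_add_eq_zero.1 (pw_β _ this))]
  have hbij : Function.Bijective e₀ := by
    refine hinj.bijective_of_nat_card_le ?_
    rw [hΩ]
    have : Nat.card (OnePoint (ZMod p)) = Nat.card (Option (ZMod p)) := rfl
    rw [this, Finite.card_option, Nat.card_zmod]
  let e : OnePoint (ZMod p) ≃ Ω := Equiv.ofBijective e₀ hbij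
  have ei : e ∞ = α := rfl
  have ec : ∀ a : ZMod p, e a = pw a • β := fun a => rfl
  have e0 : e ((0 : ZMod p) : OnePoint (ZMod p)) = β := by rw [ec, pw_zero, one_smul]
  let ρ : G →* Equiv.Perm (OnePoint (ZMod p)) :=
    (e.symm.permCongrHom : _ →* _).comp (MulAction.toPermHom G Ω)
  have hρ : ∀ g x, e (ρ g x) = g • e x := by
    intro g x
    simp [ρ]
  have hρ' : ∀ g x y, ρ g x = y ↔ g • e x = e y := by
    intro g x y
    rw [← hρ, e.injective.eq_iff]
  have hρinj : Function.Injective ρ :=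
    e.symm.permCongrHom.injective.comp MulAction.toPerm_injective
  set Q := MulAction.stabilizer G α ⊓ MulAction.stabilizer G β with hQdef
  have hκ : ∀ x : Q, ∃ k : (ZMod p)ˣ, ∀ a : ZMod p,
      ρ x a = (((k : ZMod p) * a : ZMod p) : OnePoint (ZMod p)) := by
    rintro ⟨x, hx1, hx2⟩
    obtain ⟨j, hj⟩ := (mem_powers_iff_mem_zpowers.2 (hnorm x hx1 hx2))
    have h1 : ∀ a : ZMod p, ρ x a = (((j : ZMod p) * a : ZMod p) : OnePoint (ZMod p)) := by
      intro a
      rw [hρ', ec, ec]
      have : pw ((j : ZMod p) * a) = x * pw a * x⁻¹ := by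
        rw [← ZMod.natCast_zmod_val a, ← Nat.cast_mul, pw_nat, pw_nat, pow_mul]
        simp only at hj
        rw [hj, conj_pow]
      rw [this, mul_smul, mul_smul, (MulAction.stabilizer G β).inv_mem hx2]
    have h2 : (j : ZMod p) ≠ 0 := by
      intro h0
      have : ρ x ((1 : ZMod p) : OnePoint (ZMod p)) = ρ x ((0 : ZMod p) : OnePoint (ZMod p)) := by
        rw [h1, h1, h0, zero_mul, zero_mul]
      have := OnePoint.coe_injective ((ρ x).injective this)
      simp at this
    exact ⟨Units.mk0 _ h2, h1⟩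
  choose κ₀ hκ₀ using hκ
  let κ : Q →* (ZMod p)ˣ := MonoidHom.mk' κ₀ (by
    intro x y
    have h1 := hκ₀ (x * y) 1
    rw [Subgroup.coe_mul, map_mul, Equiv.Perm.mul_apply, hκ₀, hκ₀] at h1
    have := OnePoint.coe_injective h1
    ext
    simpa using this.symm)
  have hκ : ∀ (x : Q) (a : ZMod p),
      ρ x a = (((κ x : ZMod p) * a : ZMod p) : OnePoint (ZMod p)) := hκ₀
  have hκi : ∀ x : Q, ρ x ∞ = ∞ := fun x => (hρ' _ _ _).2 x.2.1
  have hκD : ∀ (x : Q) (s : (ZMod p)ˣ), κ x = s ^ 2 → ρ x = mobD s := by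
    intro x s hs
    ext y
    induction y using OnePoint.rec with
    | infty => rw [hκi, mobD_infty]
    | coe a => rw [hκ, mobD_coe, hs, Units.val_pow_eq_pow_val]
  have hκinj : Function.Injective κ := by
    rw [injective_iff_map_eq_one]
    intro x hx
    have := hκD x 1 (by rw [hx, one_pow])
    have h2 : mobD (1 : (ZMod p)ˣ) = 1 := by
      ext y
      induction y using OnePoint.rec with
      | infty => simp
      | coe a => simp
    rw [h2, ← map_one ρ] at this
    exact Subtype.ext (hρinj this)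
  have hcard : Nat.card κ.range = Nat.card Q :=
    (Nat.card_congr (MonoidHom.ofInjective hκinj).toEquiv).symm
  have hQpos : 0 < Nat.card Q := Nat.card_pos
  have hidx : κ.range.index = 2 := by
    have h1 := κ.range.card_mul_index
    rw [hcard, Nat.card_eq_fintype_card (α := (ZMod p)ˣ), ZMod.card_units] at h1
    have h2 : p - 1 = Nat.card Q * 2 := by omega
    exact Nat.eq_of_mul_eq_mul_left hQpos (h1.trans h2)
  have hDx : ∀ s : (ZMod p)ˣ, ∃ x : Q, ρ x = mobD s := by
    intro s
    obtain ⟨x, hx⟩ := Subgroup.sq_mem_of_index_two hidx s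
    exact ⟨x, hκD x s hx⟩
  have hK : ρ.range = (mobPerm (ZMod p)).range := by
    refine eq_range_mobPerm hp (w := ρ w) ?_ ?_ ⟨w, rfl⟩ ?_ ?_ ?_ ?_
    · intro a
      refine ⟨pw a, ?_⟩
      ext y
      induction y using OnePoint.rec with
      | infty => rw [mobT_infty, hρ', ei, pw_α]
      | coe b => rw [mobT_coe, hρ', ec, ec, add_comm, pw_add, mul_smul]
    · intro s
      obtain ⟨x, hx⟩ := hDx s
      exact ⟨x, hx⟩
    · rw [hρ', ei, e0, hw]
    · rw [← map_mul, hw2, map_one]
    · intro s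
      obtain ⟨x, hx⟩ := hDx s
      have h1 : κ x = s ^ 2 := by
        have h2 := hκ x 1
        rw [hx, mobD_coe] at h2
        have := OnePoint.coe_injective h2
        ext
        simpa using this.symm
      rw [← hx, ← map_mul, ← map_mul, hinv x x.2.1 x.2.2]
      exact hκD x⁻¹ s⁻¹ (by rw [map_inv, h1, inv_pow])
    · rintro _ ⟨g, rfl⟩ h1 h2
      rw [hρ', ei] at h1
      rw [hρ', e0] at h2
      let x : Q := ⟨g, h1, h2⟩
      have h3 : κ x ^ (p / 2) = 1 := by
        have : p / 2 = Nat.card Q := by omega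
        rw [this, ← map_pow, pow_card_eq_one', map_one]
      obtain ⟨s, hs⟩ := (ZMod.euler_criterion_units p (κ x)).2 h3
      exact ⟨s, hκD x s hs.symm⟩
  exact ⟨(MonoidHom.ofInjective hρinj).trans
    ((MulEquiv.subgroupCongr hK).trans (pslEquivRange (ZMod p)).symm)⟩

end Cfsg
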