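import Cfsg.Agent.Grp.Misc

/-! Groups with an abelian normal subgroup of prime index; groups of order `p ^ 4`. -/

set_option autoImplicit false

namespace Cfsg

open scoped Pointwise commutatorElement

universe u

variable {G : Type u} [Group G] [Finite G]

omit [Finite G] in
theorem inf_centralizer_eq_center_of_sup_zpowers {A : Subgroup G} (hA : IsMulCommutative A)
    {x : G} (h : A ⊔ Subgroup.zpowers x = ⊤) (hZ : Subgroup.center G ≤ A) :
    A ⊓ Subgroup.centralizer ({x} : Set G) = Subgroup.center G := by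
  refine le_antisymm ?_ (le_inf hZ (Subgroup.center_le_centralizer _))
  intro a ha
  rw [← Subgroup.centralizer_univ, ← Subgroup.coe_top, ← h, centralizer_sup, centralizer_zpowers]
  exact ⟨fun b hb => setLike_mul_comm hb ha.1, ha.2⟩

/-- `|A| = |G'| |Z(G)|` for an abelian normal subgroup `A` of prime index in a nonabelian group -/
theorem card_eq_card_commutator_mul_card_center {A : Subgroup G} [A.Normal]
    (hA : IsMulCommutative A) (hi : A.index.Prime) (hG : ¬ IsMulCommutative G) :
    Nat.card A = Nat.card (commutator G) * Nat.card (Subgroup.center G) := by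
  have hne : A ≠ ⊤ := by
    rintro rfl
    rw [Subgroup.index_top] at hi
    exact Nat.not_prime_one hi
  obtain ⟨x, hx⟩ : ∃ x, x ∉ A := by
    by_contra h
    push Not at h
    exact hne ((Subgroup.eq_top_iff' A).2 h)
  have hZ : Subgroup.center G ≤ A := by
    intro z hz
    by_contra hzA
    have h1 := isMulCommutative_sup_zpowers hA (x := z) (Subgroup.center_le_centralizer _ hz)
    rw [sup_zpowers_eq_top_of_index_prime hi hzA] at h1
    exact hG ⟨⟨fun a b => setLike_mul_comm (s := (⊤ : Subgroup G)) trivial trivial⟩⟩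
  have h := sup_zpowers_eq_top_of_index_prime hi hx
  rw [card_eq_card_commutator_mul hA h, inf_centralizer_eq_center_of_sup_zpowers hA h hZ]

/-- a nonabelian group of order `p ^ 4` has an abelian normal subgroup of index `p` -/
theorem exists_comm_index_eq_of_card_eq_pow_four {p : ℕ} [Fact p.Prime]
    (hG : Nat.card G = p ^ 4) (hc : ¬ IsMulCommutative G) :
    ∃ A : Subgroup G, A.Normal ∧ IsMulCommutative A ∧ A.index = p := by
  have hp : p.Prime := Fact.out
  have hP : IsPGroup p G := IsPGroup.of_card hG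
  have hcard : ∀ H : Subgroup G, ∀ k : ℕ, k < 4 → Nat.card H = p ^ k → H < ⊤ := by
    intro H k hk h
    refine lt_top_iff_ne_top.2 ?_
    rintro rfl
    rw [Subgroup.card_top, hG] at h
    exact hk.ne' (Nat.pow_right_injective hp.two_le h)
  obtain ⟨Z, hZn, -, -, hZi, hZc⟩ := exists_normal_relIndex_eq_of_isPGroup hP
    (hcard ⊥ 0 (by norm_num) (by simp))
  have hZ : Nat.card Z = p := by rw [← hZi, Subgroup.relIndex_bot_left]
  have hZc' : Z ≤ Subgroup.center G := by
    rw [le_bot_iff, Subgroup.commutator_eq_bot_iff_le_centralizer] at hZc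
    intro z hz
    rw [Subgroup.mem_center_iff]
    exact fun g => hZc hz g trivial
  obtain ⟨N, hNn, hZN, -, hNi, hNc⟩ := exists_normal_relIndex_eq_of_isPGroup hP
    (hcard Z 1 (by norm_num) (by rw [hZ, pow_one]))
  obtain ⟨n, hnN, hnZ⟩ : ∃ n ∈ N, n ∉ Z := by
    by_contra h
    push Not at h
    rw [Subgroup.relIndex_eq_one.2 h] at hNi
    exact hp.one_lt.ne hNi
  have hCi : (Subgroup.centralizer ({n} : Set G)).index ≤ p := by
    rw [← hZ]
    refine index_centralizer_le_card fun g => hNc ?_
    rw [Subgroup.commutator_comm]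
    exact Subgroup.commutator_mem_commutator trivial hnN
  have hZcomm : IsMulCommutative Z :=
    ⟨⟨fun a b => Subtype.ext (Subgroup.mem_center_iff.1 (hZc' b.2) a)⟩⟩
  have hB : IsMulCommutative (Z ⊔ Subgroup.zpowers n : Subgroup G) :=
    isMulCommutative_sup_zpowers hZcomm fun z hz => (Subgroup.mem_center_iff.1 (hZc' hz) n).symm
  have hB2 : p * p ∣ Nat.card (Z ⊔ Subgroup.zpowers n : Subgroup G) := by
    rw [← hZ]
    nth_rw 2 [hZ]
    refine mul_card_dvd_of_lt_of_isPGroup (hP.to_subgroup _) (lt_of_le_of_ne le_sup_left fun h => hnZ ?_)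
    rw [h]
    exact Subgroup.mem_sup_right (Subgroup.mem_zpowers n)
  have key : ∃ A : Subgroup G, IsMulCommutative A ∧ p ^ 3 ∣ Nat.card A := by
    by_cases h : Subgroup.centralizer ({n} : Set G) ≤ Z ⊔ Subgroup.zpowers n
    · refine ⟨_, hB, dvd_trans ?_ (Subgroup.card_dvd_of_le h)⟩
      obtain ⟨k, hk⟩ := hP.index (Subgroup.centralizer ({n} : Set G))
      have h1 := (Subgroup.centralizer ({n} : Set G)).card_mul_index
      rw [hk] at hCi
      rw [hk, hG] at h1
      have hk1 : k ≤ 1 := (Nat.pow_le_pow_iff_right hp.one_lt).1 (by rwa [pow_one])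
      have h2 : Nat.card (Subgroup.centralizer ({n} : Set G)) = p ^ (4 - k) := by
        refine Nat.eq_of_mul_eq_mul_right (pow_pos hp.pos k) ?_
        rw [h1, ← pow_add]
        congr 1
        omega
      rw [h2]
      exact pow_dvd_pow p (by omega)
    · obtain ⟨y, hy, hyB⟩ := SetLike.not_le_iff_exists.1 h
      have hy' : y ∈ Subgroup.centralizer ((Z ⊔ Subgroup.zpowers n : Subgroup G) : Set G) := by
        rw [centralizer_sup, centralizer_zpowers]
        exact ⟨fun z hz => (Subgroup.mem_center_iff.1 (hZc' hz) y).symm, hy⟩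
      refine ⟨_, isMulCommutative_sup_zpowers hB hy', dvd_trans ?_
        (mul_card_dvd_of_lt_of_isPGroup (H := Z ⊔ Subgroup.zpowers n) (hP.to_subgroup _)
          (lt_of_le_of_ne le_sup_left fun h => hyB ?_))⟩
      · rw [pow_succ, sq]
        exact Nat.mul_dvd_mul_right hB2 p
      · rw [h]
        exact Subgroup.mem_sup_right (Subgroup.mem_zpowers y)
  obtain ⟨A, hA, hA3⟩ := key
  have hAi : A.index = p := by
    obtain ⟨k, hk⟩ := hP.index A
    have h1 := A.card_mul_index
    have hk0 : k ≠ 0 := by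
      rintro rfl
      rw [pow_zero, Subgroup.index_eq_one] at hk
      subst hk
      exact hc ⟨⟨fun a b => setLike_mul_comm (s := (⊤ : Subgroup G)) trivial trivial⟩⟩
    have h2 : p ^ 3 * p ^ k ∣ p ^ 4 := by
      rw [← hG, ← h1, hk]
      exact Nat.mul_dvd_mul_right hA3 _
    rw [← pow_add, Nat.pow_dvd_pow_iff_le_right hp.one_lt] at h2
    rw [hk, show k = 1 by omega, pow_one]
  refine ⟨A, Subgroup.normal_of_index_eq_minFac_card ?_, hA, hAi⟩
  rw [hAi, hG, hp.pow_minFac (by norm_num)]

theorem card_commutator_mul_card_center_of_card_eq_pow_four {p : ℕ} [Fact p.Prime]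
    (hG : Nat.card G = p ^ 4) (hc : ¬ IsMulCommutative G) :
    Nat.card (commutator G) * Nat.card (Subgroup.center G) = p ^ 3 := by
  have hp : p.Prime := Fact.out
  obtain ⟨A, hn, hA, hi⟩ := exists_comm_index_eq_of_card_eq_pow_four hG hc
  rw [← card_eq_card_commutator_mul_card_center hA (hi ▸ hp) hc]
  refine Nat.eq_of_mul_eq_mul_right hp.pos ?_
  rw [← pow_succ, ← hG, ← A.card_mul_index, hi]

end Cfsg
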