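import Cfsg.Agent.Grp.NormalComplement
import Cfsg.Agent.Blk.PrinBrauer

/-! Simple groups of order 60, and uniqueness of a perfect double cover of a group whose Sylow
2-subgroups have order 4. -/

set_option autoImplicit false
open scoped commutatorElement

namespace Cfsg

universe u v w

theorem psl25_of_simple_card_sixty {L : Type u} [Group L] [Finite L] [IsSimpleGroup L]
    (hperf : commutator L = ⊤) (hc : Nat.card L = 60) :
    Nonempty (L ≃* Matrix.ProjectiveSpecialLinearGroup (Fin 2) (ZMod 5)) := by
  have : Fact (Nat.Prime 5) := ⟨by norm_num⟩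
  obtain ⟨P⟩ : Nonempty (Sylow 5 L) := inferInstance
  have hP : Nat.card P = 5 := by
    rw [P.card_eq_multiplicity, hc]
    have : Nat.factorization 60 5 = 1 := by
      rw [show (60 : ℕ) = 5 * 12 by norm_num, Nat.factorization_mul (by norm_num) (by norm_num)]
      simp [Nat.Prime.factorization_self (by norm_num : Nat.Prime 5),
        Nat.factorization_eq_zero_of_not_dvd (by norm_num : ¬ 5 ∣ 12)]
    rw [this]; norm_num
  have hO : pPrimeCore 5 L = ⊥ := by
    rcases (inferInstance : (pPrimeCore 5 L).Normal).eq_bot_or_eq_top with h | h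
    · exact h
    · rw [pPrimeCore_eq_top_iff, hc] at h
      norm_num at h
  have hn : Nat.card (Sylow 5 L) = 5 + 1 := by
    have h1 := card_sylow_modEq_one 5 L
    have h2 := P.card_dvd_index
    have h3 := (P : Subgroup L).card_mul_index
    rw [hc, hP] at h3
    have h4 : (P : Subgroup L).index = 12 := by omega
    rw [h4] at h2
    have h5 : Nat.card (Sylow 5 L) ≠ 1 := by
      intro h5
      have h6 := index_sylN_ne_one_of_perfect hperf P hP
      apply h6
      rw [← h5, Sylow.card_eq_index_normalizer P]; rfl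
    have h6 := Nat.le_of_dvd (by norm_num) h2
    unfold Nat.ModEq at h1
    generalize Nat.card (Sylow 5 L) = n at *
    interval_cases n <;> simp_all
  exact (psl2_of_card_sylow hperf P hP hO hn).2

/-- In a group `S` with a central subgroup `V` of index dividing `4`, the commutator subgroup has at
most one nontrivial element. -/
theorem eq_of_mem_commutator_of_index_four {S : Type u} [Group S] [Finite S] {L : Type v} [Group L]
    (f : S →* L) (hf : f.ker ≤ Subgroup.center S) (h4 : Nat.card f.range ∣ 4) :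
    ∃ c : S, ∀ x ∈ commutator S, x = 1 ∨ x = c := by
  by_cases hcomm : ∀ a b : S, a * b = b * a
  · refine ⟨1, fun x hx => Or.inl ?_⟩
    have : commutator S = ⊥ := by
      rw [commutator_def, Subgroup.commutator_eq_bot_iff_le_centralizer]
      intro a _ b _
      exact hcomm b a
    rw [this] at hx
    exact hx
  push Not at hcomm
  obtain ⟨a, b, hab⟩ := hcomm
  have hZ : ∀ {x : S}, f x = 1 → ∀ y, y * x = x * y := fun hx y =>
    Subgroup.mem_center_iff.1 (hf hx) y
  -- the image is `{1, a, b, ab}`
  have hrel : ∀ {x y : S}, f x = f y → ∃ z, (∀ w, w * z = z * w) ∧ x = y * z := fun {x y} e =>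
    ⟨y⁻¹ * x, hZ (by simp [e]), by group⟩
  have h1 : f a ≠ 1 := fun e => hab (hZ e b).symm
  have h2 : f b ≠ 1 := fun e => hab (hZ e a)
  have h3 : f a ≠ f b := fun e => by
    obtain ⟨z, hz, rfl⟩ := hrel e
    exact hab (by rw [mul_assoc, ← hz b])
  have h5 : f (a * b) ≠ 1 := fun e => by
    apply hab
    have := hZ e a
    rw [mul_assoc] at this
    exact mul_left_cancel this
  have h6 : f (a * b) ≠ f a := fun e => h2 (by simpa using e)
  have h7 : f (a * b) ≠ f b := fun e => h1 (by simpa using e)
  classical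
  have : Finite f.range := Finite.of_surjective _ f.rangeRestrict_surjective
  have := Fintype.ofFinite f.range
  have hall : ∀ x : S, f x = 1 ∨ f x = f a ∨ f x = f b ∨ f x = f (a * b) := by
    intro x
    by_contra hx
    push Not at hx
    have hle := Nat.le_of_dvd (by norm_num) h4
    have := Finset.card_le_univ ({f.rangeRestrict x, 1, f.rangeRestrict a, f.rangeRestrict b,
      f.rangeRestrict (a * b)} : Finset f.range)
    rw [← Nat.card_eq_fintype_card, Finset.card_insert_of_notMem, Finset.card_insert_of_notMem,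
      Finset.card_insert_of_notMem, Finset.card_pair] at this
    · omega
    · exact fun e => h7 (congrArg Subtype.val e).symm
    · simp only [Finset.mem_insert, Finset.mem_singleton, not_or]
      exact ⟨fun e => h3 (congrArg Subtype.val e), fun e => h6 (congrArg Subtype.val e).symm⟩
    · simp only [Finset.mem_insert, Finset.mem_singleton, not_or]
      exact ⟨fun e => h1 (congrArg Subtype.val e).symm, fun e => h2 (congrArg Subtype.val e).symm,
        fun e => h5 (congrArg Subtype.val e).symm⟩
    · simp only [Finset.mem_insert, Finset.mem_singleton, not_or]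
      exact ⟨fun e => hx.1 (congrArg Subtype.val e), fun e => hx.2.1 (congrArg Subtype.val e),
        fun e => hx.2.2.1 (congrArg Subtype.val e), fun e => hx.2.2.2 (congrArg Subtype.val e)⟩
  -- `a * a` is central
  have haa : f (a * a) = 1 := by
    rcases hall (a * a) with e | e | e | e
    · exact e
    · exact absurd (by simpa using e) h1
    · obtain ⟨z, hz, e'⟩ := hrel e.symm
      exact absurd (by rw [e', mul_assoc (a * a), ← hz a]; group) hab
    · exact absurd (by simpa using e) h3
  have hba : f (b * a) = f (a * b) := by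
    rcases hall (b * a) with e | e | e | e
    · exfalso
      apply hab
      have := hZ e b
      rw [mul_assoc] at this
      exact (mul_left_cancel this).symm
    · exact absurd (by simpa using e) h2
    · exact absurd (by simpa using e) h1
    · exact e
  obtain ⟨c, hc, hcab⟩ := hrel hba
  have hcc : c * c = 1 := by
    have e1 := hZ haa b
    have e2 : b * (a * a) = a * a * b * (c * c) := by
      calc b * (a * a) = b * a * a := by group
        _ = a * b * c * a := by rw [hcab]
        _ = a * (b * a) * c := by rw [mul_assoc (a * b), ← hc a]; group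
        _ = a * a * b * (c * c) := by rw [hcab]; group
    rw [e1] at e2
    exact (mul_eq_left.1 e2.symm)
  let C : Subgroup S :=
    { carrier := {x | x = 1 ∨ x = c}
      one_mem' := Or.inl rfl
      mul_mem' := by
        rintro x y (rfl | rfl) (rfl | hy)
        · simp
        · simp [hy]
        · simp
        · left; rw [hy, hcc]
      inv_mem' := by
        rintro x (rfl | rfl)
        · simp
        · right; exact inv_eq_of_mul_eq_one_right hcc }
  have : C.Normal := ⟨by
    rintro x (rfl | rfl) g
    · left; simp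
    · right; rw [hc g]; simp⟩
  refine ⟨c, fun x hx => ?_⟩
  have hle : commutator S ≤ C := by
    rw [← Subgroup.Normal.quotient_commutative_iff_commutator_le]
    have hq : ∀ x : S, ∃ z, (∀ w, w * z = z * w) ∧
        (x = z ∨ x = a * z ∨ x = b * z ∨ x = a * b * z) := by
      intro x
      rcases hall x with e | e | e | e
      · exact ⟨x, hZ e, Or.inl rfl⟩
      · obtain ⟨z, hz, e'⟩ := hrel e
        exact ⟨z, hz, by tauto⟩
      · obtain ⟨z, hz, e'⟩ := hrel e
        exact ⟨z, hz, by tauto⟩
      · obtain ⟨z, hz, e'⟩ := hrel e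
        exact ⟨z, hz, by tauto⟩
    have hAB : Commute (a : S ⧸ C) (b : S ⧸ C) := by
      have : (c : S ⧸ C) = 1 := (QuotientGroup.eq_one_iff c).2 (Or.inr rfl)
      show ((a * b : S) : S ⧸ C) = ((b * a : S) : S ⧸ C)
      rw [hcab, QuotientGroup.mk_mul C (a * b), this, mul_one]
    have key : ∀ x : S, ∀ y : S ⧸ C, Commute (a : S ⧸ C) y → Commute (b : S ⧸ C) y →
        Commute (x : S ⧸ C) y := by
      intro x y ha hb
      obtain ⟨y, rfl⟩ := QuotientGroup.mk_surjective y
      obtain ⟨z, hz, hx⟩ := hq x
      have hzy : Commute (z : S ⧸ C) (y : S ⧸ C) := by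
        show ((z * y : S) : S ⧸ C) = ((y * z : S) : S ⧸ C)
        rw [hz y]
      rcases hx with rfl | rfl | rfl | rfl
      · exact hzy
      · exact ha.mul_left hzy
      · exact hb.mul_left hzy
      · exact (ha.mul_left hb).mul_left hzy
    refine ⟨⟨fun x y => ?_⟩⟩
    obtain ⟨x, rfl⟩ := QuotientGroup.mk_surjective x
    obtain ⟨y, rfl⟩ := QuotientGroup.mk_surjective y
    exact key x y (key y a (Commute.refl _) hAB.symm).symm (key y b hAB (Commute.refl _)).symm
  exact hle hx

theorem central_of_ker_pair {H : Type u} {L : Type w} [Group H] [Group L] (f : H →* L) {z : H}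
    (k : ∀ x, f x = 1 ↔ x = 1 ∨ x = z) {x : H} (hx : f x = 1) :
    (∀ g, g * x = x * g) ∧ x * x = 1 := by
  rcases (k x).1 hx with rfl | rfl
  · simp
  constructor
  · intro g
    rcases (k (g * x * g⁻¹)).1 (by simp [hx]) with e | e
    · have : x = 1 := by simpa using e
      simp [this]
    · exact mul_inv_eq_iff_eq_mul.1 e
  · rcases (k (x * x)).1 (by simp [hx]) with e | e
    · exact e
    · have : x = 1 := by simpa using e
      simp [this]

theorem nonempty_mulEquiv_of_double_cover {H₁ : Type u} {H₂ : Type v} {L : Type w} [Group H₁]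
    [Group H₂] [Group L] [Finite H₁] [Finite H₂] (h8 : ¬ 8 ∣ Nat.card L)
    (f₁ : H₁ →* L) (f₂ : H₂ →* L) (s₁ : Function.Surjective f₁) (s₂ : Function.Surjective f₂)
    (p₁ : commutator H₁ = ⊤) (p₂ : commutator H₂ = ⊤) {z₁ : H₁} {z₂ : H₂} (n₁ : z₁ ≠ 1)
    (n₂ : z₂ ≠ 1) (k₁ : ∀ x, f₁ x = 1 ↔ x = 1 ∨ x = z₁) (k₂ : ∀ x, f₂ x = 1 ↔ x = 1 ∨ x = z₂) :
    Nonempty (H₁ ≃* H₂) := by
  have : Finite L := Finite.of_surjective _ s₁
  have : Fact (Nat.Prime 2) := ⟨Nat.prime_two⟩
  let F : Subgroup (H₁ × H₂) :=
    MonoidHom.eqLocus (f₁.comp (MonoidHom.fst H₁ H₂)) (f₂.comp (MonoidHom.snd H₁ H₂))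
  have hF : ∀ x : F, f₁ x.1.1 = f₂ x.1.2 := fun x => x.2
  let π₁ : F →* H₁ := (MonoidHom.fst H₁ H₂).comp F.subtype
  let π₂ : F →* H₂ := (MonoidHom.snd H₁ H₂).comp F.subtype
  let φ : F →* L := f₁.comp π₁
  have hπ₁ : Function.Surjective π₁ := fun a => by
    obtain ⟨b, hb⟩ := s₂ (f₁ a)
    exact ⟨⟨(a, b), hb.symm⟩, rfl⟩
  have hπ₂ : Function.Surjective π₂ := fun b => by
    obtain ⟨a, ha⟩ := s₁ (f₂ b)
    exact ⟨⟨(a, b), ha⟩, rfl⟩
  have hker : ∀ x : F, φ x = 1 → (∀ g, g * x = x * g) ∧ x * x = 1 := by
    intro x hx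
    have a1 := central_of_ker_pair f₁ k₁ (x := x.1.1) hx
    have a2 := central_of_ker_pair f₂ k₂ (x := x.1.2) ((hF x).symm.trans hx)
    exact ⟨fun g => Subtype.ext (Prod.ext (a1.1 _) (a2.1 _)), Subtype.ext (Prod.ext a1.2 a2.2)⟩
  obtain ⟨S⟩ : Nonempty (Sylow 2 F) := inferInstance
  have hkS : φ.ker ≤ (S : Subgroup F) := by
    have : IsPGroup 2 φ.ker := fun x => ⟨1, Subtype.ext (by
      simpa [pow_two] using (hker x.1 x.2).2)⟩
    exact this.le_sylow_of_normal S
  obtain ⟨c, hc⟩ := eq_of_mem_commutator_of_index_four (φ.comp (S : Subgroup F).subtype)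
    (fun x hx => Subgroup.mem_center_iff.2 fun g => Subtype.ext ((hker x.1 hx).1 g.1))
    (by
      have h1 : IsPGroup 2 (φ.comp (S : Subgroup F).subtype).range :=
        S.isPGroup'.of_surjective _ (MonoidHom.rangeRestrict_surjective _)
      obtain ⟨k, hk⟩ := h1.exists_card_eq
      have h2 := Subgroup.card_subgroup_dvd_card (φ.comp (S : Subgroup F).subtype).range
      rw [hk] at h2 ⊢
      have : k ≤ 2 := by
        by_contra hlt
        exact h8 ((pow_dvd_pow 2 (by omega : 3 ≤ k)).trans h2)
      exact pow_dvd_pow 2 this)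
  have hD : ∀ x ∈ commutator F, φ x = 1 → x = 1 ∨ x = c := by
    intro x hx h1
    have := commutator_inf_center_inf_sylow_le S
      (show x ∈ commutator F ⊓ Subgroup.center F ⊓ (S : Subgroup F) from
        ⟨⟨hx, Subgroup.mem_center_iff.2 (hker x h1).1⟩, hkS h1⟩)
    rw [← Subgroup.map_subtype_commutator] at this
    obtain ⟨y, hy, rfl⟩ := this
    rcases hc y hy with rfl | rfl
    · left; rfl
    · right; rfl
  have hs₁ : Function.Surjective (π₁.comp (commutator F).subtype) := by
    intro a
    have : a ∈ (commutator F).map π₁ := by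
      rw [commutator_def, Subgroup.map_commutator, Subgroup.map_top_of_surjective _ hπ₁,
        ← commutator_def, p₁]
      exact Subgroup.mem_top a
    obtain ⟨x, hx, rfl⟩ := this
    exact ⟨⟨x, hx⟩, rfl⟩
  have hs₂ : Function.Surjective (π₂.comp (commutator F).subtype) := by
    intro a
    have : a ∈ (commutator F).map π₂ := by
      rw [commutator_def, Subgroup.map_commutator, Subgroup.map_top_of_surjective _ hπ₂,
        ← commutator_def, p₂]
      exact Subgroup.mem_top a
    obtain ⟨x, hx, rfl⟩ := this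
    exact ⟨⟨x, hx⟩, rfl⟩
  have hc₁ : π₁ c = z₁ := by
    obtain ⟨d, hd⟩ := hs₁ z₁
    have hd' : π₁ d = z₁ := hd
    rcases hD d.1 d.2 (show f₁ (π₁ d) = 1 by rw [hd']; exact (k₁ _).2 (Or.inr rfl)) with e | e
    · rw [e, map_one] at hd'; exact absurd hd'.symm n₁
    · rw [← e, hd']
  have hc₂ : π₂ c = z₂ := by
    obtain ⟨d, hd⟩ := hs₂ z₂
    have hd' : π₂ d = z₂ := hd
    rcases hD d.1 d.2 ((hF d.1).trans
      (show f₂ (π₂ d) = 1 by rw [hd']; exact (k₂ _).2 (Or.inr rfl))) with e | e
    · rw [e, map_one] at hd'; exact absurd hd'.symm n₂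
    · rw [← e, hd']
  have hi₁ : Function.Injective (π₁.comp (commutator F).subtype) := by
    rw [injective_iff_map_eq_one]
    intro x hx
    have hx' : π₁ x = 1 := hx
    rcases hD x.1 x.2 (show f₁ (π₁ x) = 1 by rw [hx', map_one]) with e | e
    · exact Subtype.ext e
    · rw [e, hc₁] at hx'; exact absurd hx' n₁
  have hi₂ : Function.Injective (π₂.comp (commutator F).subtype) := by
    rw [injective_iff_map_eq_one]
    intro x hx
    have hx' : π₂ x = 1 := hx
    rcases hD x.1 x.2 ((hF x.1).trans (show f₂ (π₂ x) = 1 by rw [hx', map_one])) with e | e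
    · exact Subtype.ext e
    · rw [e, hc₂] at hx'; exact absurd hx' n₂
  exact ⟨(MulEquiv.ofBijective _ ⟨hi₁, hs₁⟩).symm.trans (MulEquiv.ofBijective _ ⟨hi₂, hs₂⟩)⟩

theorem mem_center_sl25_iff (x : Matrix.SpecialLinearGroup (Fin 2) (ZMod 5)) :
    x ∈ Subgroup.center (Matrix.SpecialLinearGroup (Fin 2) (ZMod 5)) ↔ x = 1 ∨ x = -1 := by
  constructor
  · intro hx
    obtain ⟨r, hr, e⟩ := Matrix.SpecialLinearGroup.mem_center_iff.1 hx
    have : r = 1 ∨ r = -1 := by
      simp only [Fintype.card_fin] at hr
      exact (by decide : ∀ r : ZMod 5, r ^ 2 = 1 → r = 1 ∨ r = -1) r hr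
    rcases this with rfl | rfl
    · left
      apply Subtype.ext
      rw [← e]; simp
    · right
      apply Subtype.ext
      rw [← e, map_neg, map_one]; simp
  · rintro (rfl | rfl)
    · exact Subgroup.one_mem _
    · rw [Subgroup.mem_center_iff]; intro g; simp

theorem sl25_of_double_cover {H : Type u} [Group H] [Finite H] (p : commutator H = ⊤)
    (f : H →* Matrix.ProjectiveSpecialLinearGroup (Fin 2) (ZMod 5)) (s : Function.Surjective f)
    (h8 : ¬ 8 ∣ Nat.card (Matrix.ProjectiveSpecialLinearGroup (Fin 2) (ZMod 5)))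
    {z : H} (n : z ≠ 1) (k : ∀ x, f x = 1 ↔ x = 1 ∨ x = z) :
    Nonempty (H ≃* Matrix.SpecialLinearGroup (Fin 2) (ZMod 5)) := by
  refine nonempty_mulEquiv_of_double_cover h8 f (QuotientGroup.mk' _) s
    (QuotientGroup.mk'_surjective _) p ?_ n (z₂ := -1) ?_ k ?_
  · have h1 : (-1 : Matrix.SpecialLinearGroup (Fin 2) (ZMod 5)) ∈ commutator _ := by
      let a : Matrix.SpecialLinearGroup (Fin 2) (ZMod 5) := ⟨!![2, 0; 0, 3], by decide⟩
      let b : Matrix.SpecialLinearGroup (Fin 2) (ZMod 5) := ⟨!![0, 1; -1, 0], by decide⟩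
      have : a * b = -1 * (b * a) := by decide
      have e : ⁅a, b⁆ = -1 := by
        rw [commutatorElement_def, this]; group
      rw [← e]
      exact Subgroup.commutator_mem_commutator (Subgroup.mem_top _) (Subgroup.mem_top _)
    have h2 : commutator (Matrix.ProjectiveSpecialLinearGroup (Fin 2) (ZMod 5)) = ⊤ := by
      rw [commutator_def, ← Subgroup.map_top_of_surjective _ s, ← Subgroup.map_commutator,
        ← commutator_def, p]
    rw [eq_top_iff]
    intro x _
    have : (QuotientGroup.mk' (Subgroup.center _) x) ∈ (commutator _).map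
        (QuotientGroup.mk' (Subgroup.center (Matrix.SpecialLinearGroup (Fin 2) (ZMod 5)))) := by
      rw [commutator_def, Subgroup.map_commutator,
        Subgroup.map_top_of_surjective _ (QuotientGroup.mk'_surjective _), ← commutator_def]
      exact h2 ▸ Subgroup.mem_top _
    obtain ⟨y, hy, e⟩ := this
    have h3 := QuotientGroup.eq.1 e
    rw [mem_center_sl25_iff] at h3
    have : x = y * (y⁻¹ * x) := by group
    rw [this]
    refine Subgroup.mul_mem _ hy ?_
    rcases h3 with e | e
    · rw [e]; exact Subgroup.one_mem _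
    · rw [e]; exact h1
  · decide
  · intro x
    rw [← mem_center_sl25_iff]
    exact QuotientGroup.eq_one_iff x

end Cfsg
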