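import Cfsg.Agent.Grp.Basic

/-!
# Regular wreath products: base group, functoriality, Kaloujnine–Krasner embedding
-/

set_option autoImplicit false

namespace Cfsg

open RegularWreathProduct

universe u v w

variable {D : Type u} {Q : Type v} [Group D] [Group Q]

/-- the base group of the wreath product -/
def wreathBase (D : Type u) (Q : Type v) [Group D] [Group Q] : (Q → D) →* D ≀ᵣ Q where
  toFun f := ⟨f, 1⟩
  map_one' := rfl
  map_mul' f g := by ext <;> simp

@[simp] theorem wreathBase_left (f : Q → D) : (wreathBase D Q f).left = f := rfl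
@[simp] theorem wreathBase_right (f : Q → D) : (wreathBase D Q f).right = 1 := rfl

theorem wreathBase_injective : Function.Injective (wreathBase D Q) := fun _ _ h => congrArg left h

theorem range_wreathBase : (wreathBase D Q).range = (rightHom : D ≀ᵣ Q →* Q).ker := by
  ext w
  constructor
  · rintro ⟨f, rfl⟩; rfl
  · intro h
    exact ⟨w.left, RegularWreathProduct.ext rfl (Eq.symm h)⟩

theorem rightHom_surjective : Function.Surjective (rightHom : D ≀ᵣ Q →* Q) :=
  fun q => ⟨inl q, rfl⟩

theorem index_range_wreathBase : (wreathBase D Q).range.index = Nat.card Q := by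
  rw [range_wreathBase, Subgroup.index_ker, MonoidHom.range_eq_top.2 rightHom_surjective,
    Subgroup.card_top]

instance normal_range_wreathBase : (wreathBase D Q).range.Normal := by
  rw [range_wreathBase]; infer_instance

theorem inl_mul_wreathBase (q : Q) (f : Q → D) :
    inl q * wreathBase D Q f * (inl q)⁻¹ = wreathBase D Q (fun x => f (q⁻¹ * x)) := by
  ext <;> simp

/-- functoriality of the wreath product in the first argument -/
def wreathMap {D' : Type w} [Group D'] (φ : D →* D') (Q : Type v) [Group Q] :
    D ≀ᵣ Q →* D' ≀ᵣ Q where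
  toFun w := ⟨fun x => φ (w.left x), w.right⟩
  map_one' := by ext <;> simp
  map_mul' a b := by ext <;> simp

@[simp] theorem wreathMap_left {D' : Type w} [Group D'] (φ : D →* D') (w : D ≀ᵣ Q) (x : Q) :
    (wreathMap φ Q w).left x = φ (w.left x) := rfl

@[simp] theorem wreathMap_right {D' : Type w} [Group D'] (φ : D →* D') (w : D ≀ᵣ Q) :
    (wreathMap φ Q w).right = w.right := rfl

theorem wreathMap_injective {D' : Type w} [Group D'] {φ : D →* D'} (h : Function.Injective φ) :
    Function.Injective (wreathMap φ Q) := fun a b hab =>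
  RegularWreathProduct.ext (funext fun x => h (congrFun (congrArg left hab) x))
    (congrArg (right (D := D')) hab)

theorem wreathMap_surjective {D' : Type w} [Group D'] {φ : D →* D'} (h : Function.Surjective φ) :
    Function.Surjective (wreathMap φ Q) := fun w => by
  choose f hf using fun x => h (w.left x)
  exact ⟨⟨f, w.right⟩, RegularWreathProduct.ext (funext hf) rfl⟩

/-- **Kaloujnine–Krasner**: `G` embeds in `N ≀ (G / N)`. -/
theorem exists_injective_wreath {G : Type u} [Group G] (N : Subgroup G) [N.Normal] :
    ∃ φ : G →* N ≀ᵣ (G ⧸ N), Function.Injective φ := by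
  have hmem : ∀ (g : G) (x : G ⧸ N), x.out⁻¹ * g * ((g : G ⧸ N)⁻¹ * x).out ∈ N := fun g x => by
    rw [← QuotientGroup.eq_one_iff]
    simp
  refine ⟨{ toFun := fun g => ⟨fun x => ⟨_, hmem g x⟩, g⟩
            map_one' := by ext <;> simp
            map_mul' := fun a b => by ext <;> simp [mul_assoc] }, ?_⟩
  rw [injective_iff_map_eq_one]
  intro g hg
  have h1 : (g : G ⧸ N) = 1 := congrArg right hg
  have h2 := congrArg Subtype.val (congrFun (congrArg left hg) 1)
  simp only [MonoidHom.coe_mk, OneHom.coe_mk, h1, inv_one, mul_one, one_left, Pi.one_apply,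
    OneMemClass.coe_one] at h2
  simpa [mul_assoc, inv_mul_eq_one] using h2

end Cfsg
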