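import Cfsg.Agent.Blk.Steinberg
import Mathlib.LinearAlgebra.Matrix.SchurComplement
import Mathlib.LinearAlgebra.Matrix.GeneralLinearGroup.Card

/-! Unipotent and parabolic subgroups of `SL(n, F)`, and its Steinberg character. -/

set_option autoImplicit false
set_option linter.style.haveILetI false

namespace Cfsg

open Matrix
open scoped MonoidAlgebra MatrixGroups

universe v

variable {F : Type v} [Field F] {ι : Type} [Fintype ι] [DecidableEq ι]

/-- the entry `(k, l)` vanishes unless `c k ≤ d l` -/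
def MatPat (c d : ι → ℤ) (M : Matrix ι ι F) : Prop := ∀ k l, d l < c k → M k l = 0

omit [DecidableEq ι] in
theorem MatPat.mul {c d e : ι → ℤ} {M N : Matrix ι ι F} (h : MatPat c d M) (h' : MatPat d e N) :
    MatPat c e (M * N) := fun k l hkl => by
  rw [Matrix.mul_apply]
  refine Finset.sum_eq_zero fun j _ => ?_
  by_cases hj : d j < c k
  · rw [h k j hj, zero_mul]
  · rw [h' j l (by omega), mul_zero]

omit [Fintype ι] [DecidableEq ι] in
theorem MatPat.mono {c d c' d' : ι → ℤ} {M : Matrix ι ι F} (h : MatPat c d M)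
    (h' : ∀ k l, d' l < c' k → d l < c k) : MatPat c' d' M := fun k l hkl => h k l (h' k l hkl)

omit [Fintype ι] in
theorem matPat_one (c : ι → ℤ) : MatPat c c (1 : Matrix ι ι F) := fun _ _ h =>
  one_apply_ne (by rintro rfl; exact lt_irrefl _ h)

theorem MatPat.inv {c : ι → ℤ} {g : Matrix.SpecialLinearGroup ι F} (h : MatPat c c g.1) :
    MatPat c c (g⁻¹).1 := by
  have h1 : (g⁻¹).1 * g.1 = 1 := congrArg Subtype.val (inv_mul_cancel g)
  haveI := invertibleOfLeftInverse _ _ h1
  rw [← inv_eq_left_inv h1]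
  exact fun k l hkl => blockTriangular_inv_of_blockTriangular (b := c) (fun i j hij => h i j hij) hkl

/-- parabolic subgroup -/
def slParab (F : Type v) [Field F] (c : ι → ℤ) : Subgroup (Matrix.SpecialLinearGroup ι F) where
  carrier := {g | MatPat c c g.1}
  one_mem' := matPat_one c
  mul_mem' h h' := MatPat.mul h h'
  inv_mem' h := MatPat.inv h

theorem MatPat.of_sub_one {c : ι → ℤ} {M : Matrix ι ι F} (h : MatPat (c + 1) c (M - 1)) :
    MatPat c c M := fun k l hkl => by
  have := h k l (by simp; omega)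
  rwa [Matrix.sub_apply, matPat_one c k l hkl, sub_zero] at this

/-- unipotent radical -/
def slUnip (F : Type v) [Field F] (c : ι → ℤ) : Subgroup (Matrix.SpecialLinearGroup ι F) where
  carrier := {g | MatPat (c + 1) c (g.1 - 1)}
  one_mem' := fun _ _ _ => by simp
  mul_mem' {g g'} h h' := fun k l hkl => by
    have h1 : (g * g').1 - 1 = (g.1 - 1) * g'.1 + (g'.1 - 1) := by
      rw [Matrix.SpecialLinearGroup.coe_mul]; noncomm_ring
    rw [h1, Matrix.add_apply, (MatPat.mul h (MatPat.of_sub_one h')) k l hkl, h' k l hkl, add_zero]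
  inv_mem' {g} h := fun k l hkl => by
    have h1 : (g⁻¹).1 - 1 = -((g.1 - 1) * (g⁻¹).1) := by
      rw [sub_mul, ← Matrix.SpecialLinearGroup.coe_mul, mul_inv_cancel, Matrix.SpecialLinearGroup.coe_one]
      noncomm_ring
    rw [h1, Matrix.neg_apply, (MatPat.mul h (MatPat.of_sub_one h).inv) k l hkl, neg_zero]

theorem mem_slUnip {c : ι → ℤ} {g : Matrix.SpecialLinearGroup ι F} :
    g ∈ slUnip F c ↔ ∀ k l, c l ≤ c k → g k l = (1 : Matrix ι ι F) k l :=
  forall₂_congr fun k l => imp_congr (by simp) sub_eq_zero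

theorem slUnip_le_slParab (c : ι → ℤ) : slUnip F c ≤ slParab F c := fun _ h => MatPat.of_sub_one h

theorem slParab_le_normalizer (c : ι → ℤ) :
    slParab F c ≤ Subgroup.normalizer (slUnip F c : Set (Matrix.SpecialLinearGroup ι F)) := by
  have key : ∀ g ∈ slParab F c, ∀ u ∈ slUnip F c, g * u * g⁻¹ ∈ slUnip F c := fun g hg u hu => by
    have h1 : (g * u * g⁻¹).1 - 1 = g.1 * (u.1 - 1) * (g⁻¹).1 := by
      rw [mul_sub, sub_mul, mul_one, ← Matrix.SpecialLinearGroup.coe_mul g, ← Matrix.SpecialLinearGroup.coe_mul g,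
        mul_inv_cancel]
      rfl
    change MatPat _ _ _
    rw [h1]
    exact ((MatPat.mono hg fun k l => by simp).mul hu).mul (MatPat.inv hg)
  intro g hg
  refine Subgroup.mem_normalizer_iff.2 fun u => ⟨key g hg u, fun h => ?_⟩
  simpa [mul_assoc] using key _ ((slParab F c).inv_mem hg) _ h

section Emb

variable {a b : ι}

/-- the inclusion of two coordinates -/
def slEmbMat (F : Type v) [Field F] (a b : ι) : Matrix ι (Fin 2) F :=
  of fun k r => if k = ![a, b] r then 1 else 0

theorem slEmbMat_transpose_mul (h : a ≠ b) : (slEmbMat F a b)ᵀ * slEmbMat F a b = 1 := by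
  ext i j
  simp only [slEmbMat, Matrix.mul_apply, Matrix.transpose_apply, Matrix.of_apply, ite_mul, one_mul,
    zero_mul, Finset.sum_ite_eq', Finset.mem_univ, if_true]
  fin_cases i <;> fin_cases j <;> simp [h, h.symm]

/-- `SL(2, F)` acting on two coordinates -/
def slEmb (F : Type v) [Field F] (h : a ≠ b) : SL(2, F) →* Matrix.SpecialLinearGroup ι F where
  toFun A := ⟨1 + slEmbMat F a b * ((A.1 - 1) * (slEmbMat F a b)ᵀ), by
    rw [det_one_add_mul_comm, Matrix.mul_assoc, slEmbMat_transpose_mul h, Matrix.mul_one,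
      add_sub_cancel, A.2]⟩
  map_one' := Subtype.ext (by simp)
  map_mul' A B := Subtype.ext (by
    have h1 : slEmbMat F a b * ((A.1 - 1) * (slEmbMat F a b)ᵀ) *
        (slEmbMat F a b * ((B.1 - 1) * (slEmbMat F a b)ᵀ)) =
        slEmbMat F a b * ((A.1 - 1) * (B.1 - 1) * (slEmbMat F a b)ᵀ) := by
      simp only [Matrix.mul_assoc]
      rw [← Matrix.mul_assoc (slEmbMat F a b)ᵀ, slEmbMat_transpose_mul h, Matrix.one_mul]
    have h2 : (A * B).1 - 1 = (A.1 - 1) + (B.1 - 1) + (A.1 - 1) * (B.1 - 1) := by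
      rw [Matrix.SpecialLinearGroup.coe_mul]; noncomm_ring
    change 1 + _ = (1 + _) * (1 + _)
    rw [h2, add_mul, mul_add, mul_add, h1]
    simp only [Matrix.add_mul, Matrix.mul_add, Matrix.one_mul, Matrix.mul_one]
    abel)

theorem slEmb_apply (h : a ≠ b) (A : SL(2, F)) (k l : ι) :
    slEmb F h A k l = if k = a then (if l = a then A 0 0 else if l = b then A 0 1 else 0)
      else if k = b then (if l = a then A 1 0 else if l = b then A 1 1 else 0)
      else if k = l then 1 else 0 := by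
  change (1 + slEmbMat F a b * ((A.1 - 1) * (slEmbMat F a b)ᵀ) : Matrix ι ι F) k l = _
  simp only [Matrix.add_apply, Matrix.mul_apply, Fin.sum_univ_two, slEmbMat, Matrix.transpose_apply, Matrix.of_apply, Matrix.one_apply,
    Matrix.sub_apply, cons_val_zero, cons_val_one]
  have := h.symm
  by_cases h1 : k = a <;> by_cases h2 : l = a <;> by_cases h3 : k = b <;> by_cases h4 : l = b <;>
    simp [h1, h2, h3, h4, h, this, Ne.symm]

theorem matPat_slEmb (h : a ≠ b) (A : SL(2, F)) {c d : ι → ℤ}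
    (h0 : ∀ k, k ≠ a → k ≠ b → c k ≤ d k) (h1 : d a < c a → A 0 0 = 0)
    (h2 : d b < c a → A 0 1 = 0) (h3 : d a < c b → A 1 0 = 0) (h4 : d b < c b → A 1 1 = 0) :
    MatPat c d (slEmb F h A).1 := fun k l hkl => by
  rw [slEmb_apply]
  split_ifs <;> subst_vars <;> first | rfl | tauto | (have := h0 _ ‹_› ‹_›; omega)

theorem slEmb_mem_slParab (h : a ≠ b) (A : SL(2, F)) {c : ι → ℤ} (h2 : c b < c a → A 0 1 = 0)
    (h3 : c a < c b → A 1 0 = 0) : slEmb F h A ∈ slParab F c :=
  matPat_slEmb h A (fun _ _ _ => le_rfl) (fun h => absurd h (lt_irrefl _)) h2 h3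
    fun h => absurd h (lt_irrefl _)

theorem slEmb_slX (h : a ≠ b) (t : F) :
    slEmb F h (slX t) = Matrix.SpecialLinearGroup.transvection h t := by
  ext k l
  rw [slEmb_apply, Matrix.SpecialLinearGroup.transvection_coe]
  have := h.symm
  simp only [Matrix.add_apply, Matrix.one_apply, Matrix.single_apply, coe_slX]
  by_cases h1 : k = a <;> by_cases h2 : l = a <;> by_cases h3 : k = b <;> by_cases h4 : l = b <;>
    simp [h1, h2, h3, h4, h, this, Ne.symm]

theorem slEmb_slY (h : a ≠ b) (t : F) :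
    slEmb F h (slY t) = Matrix.SpecialLinearGroup.transvection h.symm t := by
  ext k l
  rw [slEmb_apply, Matrix.SpecialLinearGroup.transvection_coe]
  have := h.symm
  simp only [Matrix.add_apply, Matrix.one_apply, Matrix.single_apply, coe_slY]
  by_cases h1 : k = a <;> by_cases h2 : l = a <;> by_cases h3 : k = b <;> by_cases h4 : l = b <;>
    simp [h1, h2, h3, h4, h, this, Ne.symm]

theorem slEmb_slH (h : a ≠ b) {t : F} (ht : t ≠ 0) :
    slEmb F h (slH (Units.mk0 t ht)) = Matrix.SpecialLinearGroup.diag2n h t ht := by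
  ext k l
  rw [slEmb_apply, Matrix.SpecialLinearGroup.diag2n_coe]
  have := h.symm
  simp only [Matrix.diagonal_apply, coe_slH]
  split_ifs <;> simp_all

theorem transvection_mem_slUnip (h : a ≠ b) (t : F) {c : ι → ℤ} (hc : c a < c b) :
    Matrix.SpecialLinearGroup.transvection h t ∈ slUnip F c := mem_slUnip.2 fun k l hkl => by
  rw [Matrix.SpecialLinearGroup.transvection_coe, Matrix.add_apply, Matrix.single_apply, if_neg, add_zero]
  rintro ⟨rfl, rfl⟩
  omega

theorem eq_zero_of_transvection_mem_slUnip (h : a ≠ b) {t : F} {c : ι → ℤ} (hc : c b ≤ c a)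
    (ht : Matrix.SpecialLinearGroup.transvection h t ∈ slUnip F c) : t = 0 := by
  simpa [Matrix.SpecialLinearGroup.transvection_coe] using mem_slUnip.1 ht a b hc

theorem exists_eq_mul_transvection (h : a ≠ b) {c c' : ι → ℤ} (hc : c a < c b)
    (hc' : ∀ k l, c' l ≤ c' k → c l ≤ c k ∨ (k = a ∧ l = b)) {u : Matrix.SpecialLinearGroup ι F}
    (hu : u ∈ slUnip F c) :
    ∃ t, ∃ v ∈ slUnip F c', u = v * Matrix.SpecialLinearGroup.transvection h t := by
  refine ⟨u a b, u * Matrix.SpecialLinearGroup.transvection h (-u a b), mem_slUnip.2 fun k l hkl => ?_,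
    by rw [← Matrix.SpecialLinearGroup.transvection_inv, inv_mul_cancel_right]⟩
  rcases hc' k l hkl with h1 | ⟨rfl, rfl⟩
  · exact mem_slUnip.1 ((slUnip F c).mul_mem hu (transvection_mem_slUnip h _ hc)) k l h1
  · have h1 := mem_slUnip.1 hu k k le_rfl
    refine (mul_transvection_apply_same k l k (-u k l) u.1).trans ?_
    rw [h1, one_apply_eq, one_apply_ne h, mul_one, add_neg_cancel]

theorem transvection_eq_commutator {m : ι} (h : a ≠ b) (h1 : a ≠ m) (h2 : m ≠ b) (t : F) :
    Matrix.SpecialLinearGroup.transvection h t = Matrix.SpecialLinearGroup.transvection h1 t *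
      Matrix.SpecialLinearGroup.transvection h2 1 * Matrix.SpecialLinearGroup.transvection h1 (-t) *
      Matrix.SpecialLinearGroup.transvection h2 (-1) := by
  refine Subtype.ext ?_
  simp only [Matrix.SpecialLinearGroup.coe_mul, Matrix.SpecialLinearGroup.transvection_coe, mul_add, add_mul,
    mul_one, one_mul, single_mul_single_same, single_mul_single_of_ne _ _ _ _ h.symm,
    single_mul_single_of_ne _ _ _ _ h1.symm, single_mul_single_of_ne _ _ _ _ h2.symm, zero_mul,
    add_zero, mul_neg, neg_neg, ← single_neg, neg_mul, neg_zero]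
  abel

end Emb

theorem slH_eq_prod (b : Fˣ) : slH b = slX (b : F) * slY (-((b⁻¹ : Fˣ) : F)) * slX (b : F) *
    slX (-1) * slY 1 * slX (-1) :=
  sl2_ext (by simp [coe_slX, coe_slH, coe_slY])

section Card

variable (F) [Fintype F]

theorem card_slUnip_neg (c : ι → ℤ) : Nat.card (slUnip F (-c)) = Nat.card (slUnip F c) :=
  Nat.card_congr (Equiv.subtypeEquiv ⟨Matrix.SpecialLinearGroup.transpose,
    Matrix.SpecialLinearGroup.transpose, fun _ => rfl, fun _ => rfl⟩ fun g => by
      rw [mem_slUnip, mem_slUnip, forall_comm]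
      exact forall₂_congr fun k l => imp_congr (by simp) (by
        rw [Matrix.one_apply, Matrix.one_apply, if_congr eq_comm rfl rfl]
        rfl))

theorem card_slUnip (n : ℕ) : Nat.card (slUnip F fun k : Fin n => (k : ℤ)) =
    Fintype.card F ^ ∑ k : Fin n, (k : ℕ) := by
  have h1 : Nat.card (slUnip F fun k : Fin n => (k : ℤ)) =
      Nat.card ({kl : Fin n × Fin n // kl.1 < kl.2} → F) := by
    refine Nat.card_eq_of_bijective (fun g kl => g.1 kl.1.1 kl.1.2) ⟨fun g g' h => ?_, fun f => ?_⟩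
    · ext k l
      by_cases hkl : k < l
      · exact congrFun h ⟨(k, l), hkl⟩
      · rw [mem_slUnip.1 g.2 k l (by simpa using hkl), mem_slUnip.1 g'.2 k l (by simpa using hkl)]
    · refine ⟨⟨⟨of fun k l => if h : k < l then f ⟨(k, l), h⟩ else (1 : Matrix _ _ F) k l, ?_⟩,
        mem_slUnip.2 fun k l hkl => dif_neg (by simpa using hkl)⟩, funext fun kl => dif_pos kl.2⟩
      rw [det_of_isUpperTriangular fun k l (hkl : l < k) => by
        rw [Matrix.of_apply, dif_neg (not_lt.2 hkl.le), one_apply_ne hkl.ne']]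
      simp
  rw [h1, Nat.card_eq_fintype_card, Fintype.card_fun, Fintype.card_subtype, Finset.card_filter,
    Fintype.sum_prod_type_right]
  congr 1
  refine Finset.sum_congr rfl fun l _ => ?_
  rw [← Finset.card_filter, ← Fin.card_Iio l]
  congr 1
  ext k
  simp

theorem card_slUnip_eq_pow (n p : ℕ) [hp : Fact p.Prime] [CharP F p] :
    Nat.card (slUnip F fun k : Fin n => (k : ℤ)) =
      p ^ (Nat.card (Matrix.SpecialLinearGroup (Fin n) F)).factorization p := by
  obtain ⟨a, -, ha⟩ := FiniteField.card F p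
  refine Nat.dvd_antisymm ?_ ?_
  · have h1 := (slUnip F fun k : Fin n => (k : ℤ)).card_subgroup_dvd_card
    rw [card_slUnip, ha, ← pow_mul] at h1 ⊢
    exact pow_dvd_pow _ ((hp.out.pow_dvd_iff_le_factorization Nat.card_pos.ne').1 h1)
  · have h1 := (Nat.ordProj_dvd _ p).trans (Subgroup.card_dvd_of_injective
      (Matrix.SpecialLinearGroup.toGL (n := Fin n) (R := F))
      Matrix.SpecialLinearGroup.toGL_injective)
    rw [card_GL_field, Finset.prod_congr rfl fun (i : Fin n) _ =>
      show _ = Fintype.card F ^ (i : ℕ) * (Fintype.card F ^ (n - i) - 1) by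
        rw [Nat.mul_sub_one, ← pow_add, Nat.add_sub_cancel' i.2.le], Finset.prod_mul_distrib,
      Finset.prod_pow_eq_pow_sum] at h1
    rw [card_slUnip]
    refine Nat.Coprime.dvd_of_dvd_mul_right (Nat.Coprime.pow_left _
      (Nat.Coprime.prod_right fun i _ => ?_)) h1
    refine hp.out.coprime_iff_not_dvd.2 fun h => hp.out.one_lt.ne' (Nat.dvd_one.1 ?_)
    have h2 : p ∣ Fintype.card F ^ (n - i) := by
      rw [ha, ← pow_mul]
      exact dvd_pow_self p (Nat.mul_ne_zero a.ne_zero (Nat.sub_ne_zero_of_lt i.2))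
    exact (Nat.dvd_add_right h).1 (by rwa [Nat.sub_add_cancel (Nat.one_le_pow _ _ Fintype.card_pos)])

end Card

/-- adjacent pairs of indices -/
abbrev AdjPair (n : ℕ) : Type := {i : Fin n × Fin n // (i.1 : ℕ) + 1 = i.2}

theorem AdjPair.ne {n : ℕ} (i : AdjPair n) : i.1.1 ≠ i.1.2 := fun h => by
  have := i.2
  rw [h] at this
  omega

/-- merges two adjacent indices -/
def AdjPair.wt {n : ℕ} (i : AdjPair n) (k : Fin n) : ℤ := if k ≤ i.1.1 then k else k - 1

theorem AdjPair.wt_eq {n : ℕ} (i : AdjPair n) : i.wt i.1.1 = i.wt i.1.2 := by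
  have := i.2
  simp only [AdjPair.wt, Fin.le_def]
  split_ifs <;> omega

theorem AdjPair.wt_le_iff {n : ℕ} (i : AdjPair n) (k l : Fin n) :
    i.wt l ≤ i.wt k ↔ (l : ℤ) ≤ k ∨ (k = i.1.1 ∧ l = i.1.2) := by
  have := i.2
  simp only [AdjPair.wt, Fin.le_def, Fin.ext_iff]
  split_ifs <;> omega

theorem closure_slUnip_union (n : ℕ) (hn : 2 ≤ n) :
    Subgroup.closure ((slUnip F (fun k : Fin n => (k : ℤ)) : Set _) ∪
      Set.range fun i : AdjPair n => slEmb F i.ne (slN F)) = ⊤ := by
  set H := Subgroup.closure ((slUnip F (fun k : Fin n => (k : ℤ)) : Set _) ∪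
      Set.range fun i : AdjPair n => slEmb F i.ne (slN F))
  have h1 : ∀ (a b : Fin n) (h : a ≠ b) (t : F), a < b →
      Matrix.SpecialLinearGroup.transvection h t ∈ H := fun a b h t hab =>
    Subgroup.subset_closure (Or.inl (transvection_mem_slUnip h t (by simpa using hab)))
  have h2 : ∀ (d : ℕ) (a b : Fin n) (h : a ≠ b) (t : F), (a : ℕ) = b + d + 1 →
      Matrix.SpecialLinearGroup.transvection h t ∈ H := by
    have h0 : ∀ (a b : Fin n) (h : a ≠ b) (t : F), (a : ℕ) = b + 1 →
        Matrix.SpecialLinearGroup.transvection h t ∈ H := fun a b h t hab => by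
      have h3 : slEmb F h.symm (slN F) ∈ H :=
        Subgroup.subset_closure (Or.inr ⟨⟨(b, a), hab.symm⟩, rfl⟩)
      rw [← slEmb_slY h.symm, eq_mul_inv_of_mul_eq (slY_mul_slN t), map_mul, map_mul, map_inv,
        slEmb_slX]
      exact H.mul_mem (H.mul_mem h3 (h1 _ _ _ _ (by rw [Fin.lt_def]; omega))) (H.inv_mem h3)
    intro d
    induction d with
    | zero => exact h0
    | succ d ih =>
      intro a b h t hab
      have h3 : a ≠ ⟨b + d + 1, by omega⟩ := fun e => by rw [Fin.ext_iff] at e; simp at e; omega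
      have h4 : (⟨b + d + 1, by omega⟩ : Fin n) ≠ b := fun e => by
        rw [Fin.ext_iff] at e; simp at e; omega
      rw [transvection_eq_commutator h h3 h4]
      exact H.mul_mem (H.mul_mem (H.mul_mem (h0 _ _ _ _ hab) (ih _ _ _ _ rfl)) (h0 _ _ _ _ hab))
        (ih _ _ _ _ rfl)
  have h3 : ∀ (a b : Fin n) (h : a ≠ b) (t : F),
      Matrix.SpecialLinearGroup.transvection h t ∈ H := fun a b h t => by
    rcases lt_or_gt_of_ne h with hab | hab
    · exact h1 a b h t hab
    · exact h2 (a - b - 1) a b h t (by rw [Fin.lt_def] at hab; omega)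
  haveI : Nontrivial (Fin n) := Fin.nontrivial_iff_two_le.2 hn
  refine eq_top_iff.2 fun g _ => Matrix.SpecialLinearGroup.diagonal_transvection_induction'
    (· ∈ H) g (fun a b h t ht => ?_) h3 fun _ _ => H.mul_mem
  rw [← slEmb_slH, slH_eq_prod]
  simp only [map_mul, slEmb_slX, slEmb_slY]
  exact H.mul_mem (H.mul_mem (H.mul_mem (H.mul_mem (H.mul_mem (h3 _ _ _ _) (h3 _ _ _ _))
    (h3 _ _ _ _)) (h3 _ _ _ _)) (h3 _ _ _ _)) (h3 _ _ _ _)

theorem exists_conj_slUnip [Fintype F] (n : ℕ) : ∃ g : Matrix.SpecialLinearGroup (Fin n) F,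
    ∀ u, u ∈ slUnip F (-fun k : Fin n => (k : ℤ)) ↔
      g * u * g⁻¹ ∈ slUnip F fun k : Fin n => (k : ℤ) := by
  obtain ⟨p, hp⟩ := CharP.exists F
  haveI := Fact.mk (CharP.char_is_prime F p)
  have h1 := card_slUnip_eq_pow F n p
  obtain ⟨g, hg⟩ := MulAction.exists_smul_eq (Matrix.SpecialLinearGroup (Fin n) F)
    (Sylow.ofCard _ ((card_slUnip_neg F _).trans h1)) (Sylow.ofCard _ h1)
  refine ⟨g, fun u => ?_⟩
  rw [← Sylow.coe_ofCard _ h1, ← hg, Sylow.coe_subgroup_smul, Sylow.coe_ofCard]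
  exact (Subgroup.smul_mem_pointwise_smul_iff (a := MulAut.conj g)).symm

/-- the data for the Steinberg character of `SL(n, F)` -/
noncomputable def slStData (F : Type v) [Field F] [Fintype F] (n : ℕ) (hn : 2 ≤ n) :
    StData (Matrix.SpecialLinearGroup (Fin n) F) F (AdjPair n) where
  U := slUnip F fun k => (k : ℤ)
  Um := slUnip F (-fun k : Fin n => (k : ℤ))
  V i := slUnip F i.wt
  Vm i := slUnip F (-i.wt)
  φ i := slEmb F i.ne
  V_le i _ hg := mem_slUnip.2 fun k l h => mem_slUnip.1 hg k l ((i.wt_le_iff k l).2 (Or.inl h))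
  Vm_le i _ hg := mem_slUnip.2 fun k l h => mem_slUnip.1 hg k l
    (neg_le_neg ((i.wt_le_iff l k).2 (Or.inl (neg_le_neg_iff.1 h))))
  norm_V i A := slParab_le_normalizer _ (slEmb_mem_slParab _ _
    (fun h => absurd i.wt_eq h.ne') fun h => absurd i.wt_eq h.ne)
  norm_Vm i A := slParab_le_normalizer _ (slEmb_mem_slParab _ _
    (fun h => absurd (congrArg Neg.neg i.wt_eq) h.ne') fun h =>
      absurd (congrArg Neg.neg i.wt_eq) h.ne)
  norm_U _ _ := slParab_le_normalizer _ (slEmb_mem_slParab _ _ (fun _ => rfl) fun _ => rfl)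
  norm_Um _ _ := slParab_le_normalizer _ (slEmb_mem_slParab _ _ (fun _ => rfl) fun _ => rfl)
  x_mem i t := slEmb_slX i.ne t ▸ transvection_mem_slUnip _ _ (by have := i.2; simp; omega)
  y_mem i t := slEmb_slY i.ne t ▸ transvection_mem_slUnip _ _ (by have := i.2; simp; omega)
  dec i u hu := by
    simp only [slEmb_slX]
    exact exists_eq_mul_transvection i.ne (by have := i.2; simp; omega)
      (fun k l h => (i.wt_le_iff k l).1 h) hu
  decm i u hu := by
    simp only [slEmb_slY]
    exact exists_eq_mul_transvection i.ne.symm (by have := i.2; simp; omega)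
      (fun k l h => ((i.wt_le_iff l k).1 (neg_le_neg_iff.1 h)).imp neg_le_neg And.symm) hu
  uniq i t ht := eq_zero_of_transvection_mem_slUnip i.ne i.wt_eq.ge (slEmb_slX i.ne t ▸ ht)
  gen := closure_slUnip_union n hn
  conj := (exists_conj_slUnip n).imp fun _ h u hu => (h u).1 hu
  conj' := (exists_conj_slUnip n).imp fun g h u hu => (h (g⁻¹ * u * g)).2 (by simpa [mul_assoc] using hu)

section Steinberg

variable [Fintype F] {n : ℕ}

/-- position in the ordering given by a permutation -/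
def permWt (σ : Equiv.Perm (Fin n)) (k : Fin n) : ℤ := -((σ⁻¹ k : Fin n) : ℤ)

open Classical in
/-- the sum over a coset of the group of lower triangular matrices -/
noncomputable def slCell (F : Type v) [Field F] [Fintype F] (σ : Equiv.Perm (Fin n)) :
    ℂ[Matrix.SpecialLinearGroup (Fin n) F] :=
  gaOfFun fun g => if MatPat (permWt σ) (-fun k : Fin n => (k : ℤ)) g.1 then 1 else 0

theorem of_mul_slCell {σ τ : Equiv.Perm (Fin n)} {a : Matrix.SpecialLinearGroup (Fin n) F}
    (h1 : MatPat (permWt τ) (permWt σ) a.1) (h2 : MatPat (permWt σ) (permWt τ) (a⁻¹).1) :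
    MonoidAlgebra.of ℂ _ a * slCell F σ = slCell F τ := ga_ext fun g => by
  classical
  simp only [MonoidAlgebra.of_apply, MonoidAlgebra.coeff_single_mul_apply, one_mul, slCell,
    coeff_gaOfFun]
  refine if_congr ⟨fun h => ?_, fun h => h2.mul h⟩ rfl rfl
  have := h1.mul h
  rwa [← Matrix.SpecialLinearGroup.coe_mul, mul_inv_cancel_left] at this

theorem of_mul_slCell_of_mem {σ : Equiv.Perm (Fin n)} {a : Matrix.SpecialLinearGroup (Fin n) F}
    (h : a ∈ slParab F (permWt σ)) : MonoidAlgebra.of ℂ _ a * slCell F σ = slCell F σ :=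
  of_mul_slCell h (MatPat.inv h)

theorem slN_mul_slCell {a b : Fin n} (h : a ≠ b) (σ : Equiv.Perm (Fin n)) :
    MonoidAlgebra.of ℂ _ (slEmb F h (slN F)) * slCell F σ = slCell F (Equiv.swap a b * σ) := by
  refine of_mul_slCell ?_ (map_inv (slEmb F h) (slN F) ▸ ?_)
  · exact matPat_slEmb h _ (fun k h1 h2 => by simp [permWt, Equiv.swap_apply_of_ne_of_ne h1 h2])
      (fun _ => rfl) (by simp [permWt]) (by simp [permWt]) fun _ => rfl
  · exact matPat_slEmb h _ (fun k h1 h2 => by simp [permWt, Equiv.swap_apply_of_ne_of_ne h1 h2])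
      (fun _ => by simp [coe_slN]) (by simp [permWt]) (by simp [permWt]) fun _ => by simp [coe_slN]

theorem exists_steinberg_SL (hn : 2 ≤ n) :
    ∃ χ : IrrCharacter (Matrix.SpecialLinearGroup (Fin n) F),
      charDegree χ.1 = Nat.card (slUnip F fun k : Fin n => (k : ℤ)) := by
  classical
  refine StData.exists_irr_charDegree_eq (D := slStData F n hn)
    (∑ σ : Equiv.Perm (Fin n), ((Equiv.Perm.sign σ : ℤ) : ℂ) • slCell F σ) (fun i => ?_)
    (fun u hu g => ?_) fun u hu => ?_
  · refine ⟨∑ σ with σ⁻¹ i.1.2 < σ⁻¹ i.1.1, ((Equiv.Perm.sign σ : ℤ) : ℂ) • slCell F σ, ?_,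
      fun t => ?_, fun b => ?_⟩
    · rw [← Finset.sum_filter_add_sum_filter_not Finset.univ
        fun σ : Equiv.Perm (Fin n) => σ⁻¹ i.1.2 < σ⁻¹ i.1.1, sub_eq_add_neg, Finset.mul_sum,
        ← Finset.sum_neg_distrib]
      congr 1
      symm
      refine Finset.sum_nbij' (Equiv.swap i.1.1 i.1.2 * ·) (Equiv.swap i.1.1 i.1.2 * ·)
        (fun σ hσ => ?_) (fun σ hσ => ?_) (fun σ _ => by simp [← mul_assoc])
        (fun σ _ => by simp [← mul_assoc]) fun σ _ => ?_
      · simpa [-Equiv.Perm.coe_inv] using (Finset.mem_filter.1 hσ).2.le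
      · simpa [-Equiv.Perm.coe_inv] using
          lt_of_le_of_ne (not_lt.1 (Finset.mem_filter.1 hσ).2) (σ⁻¹.injective.ne i.ne)
      · have h1 : (slStData F n hn).n (MonoidAlgebra.of ℂ _) i * slCell F σ = _ :=
          slN_mul_slCell i.ne σ
        rw [mul_smul_comm, h1, Equiv.Perm.sign_mul, Equiv.Perm.sign_swap i.ne]
        simp
    · rw [Finset.mul_sum]
      refine Finset.sum_congr rfl fun σ hσ => ?_
      have := (Finset.mem_filter.1 hσ).2
      have h1 : (slStData F n hn).x (MonoidAlgebra.of ℂ _) i t * slCell F σ = _ :=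
        of_mul_slCell_of_mem (slEmb_mem_slParab i.ne (slX t)
          (fun h => by simp only [permWt] at h; omega) fun _ => rfl)
      rw [mul_smul_comm, h1]
    · rw [Finset.mul_sum]
      refine Finset.sum_congr rfl fun σ _ => ?_
      have h1 : (slStData F n hn).h (MonoidAlgebra.of ℂ _) i b * slCell F σ = _ :=
        of_mul_slCell_of_mem (slEmb_mem_slParab i.ne (slH b) (fun _ => rfl) fun _ => rfl)
      rw [mul_smul_comm, h1]
  · simp only [MonoidAlgebra.coeff_sum, Finsupp.coe_finsetSum, Finset.sum_apply,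
      MonoidAlgebra.coeff_smul, Finsupp.coe_smul, Pi.smul_apply, slCell, coeff_gaOfFun]
    refine Finset.sum_congr rfl fun σ _ => congrArg _ (if_congr ⟨fun h => ?_, fun h =>
      h.mul (slUnip_le_slParab _ hu)⟩ rfl rfl)
    have := h.mul (MatPat.inv (slUnip_le_slParab _ hu))
    rwa [← Matrix.SpecialLinearGroup.coe_mul, mul_inv_cancel_right] at this
  · have key : ∀ σ, MatPat (permWt σ) (-fun k : Fin n => (k : ℤ)) u.1 → σ = 1 ∧ u = 1 := by
      intro σ h
      have h1 : ∀ k : Fin n, (k : ℕ) ≤ σ⁻¹ k := fun k => by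
        by_contra hc
        have h2 := h k k (by simp only [permWt, Pi.neg_apply]; omega)
        rw [mem_slUnip.1 hu k k le_rfl, one_apply_eq] at h2
        exact one_ne_zero h2
      have h2 : σ = 1 := inv_eq_one.1 (Equiv.ext fun k => Fin.ext
        ((Finset.sum_eq_sum_iff_of_le fun k _ => h1 k).1
          (Equiv.sum_comp σ⁻¹ fun k : Fin n => (k : ℕ)).symm k (Finset.mem_univ k)).symm)
      subst h2
      refine ⟨rfl, ?_⟩
      ext k l
      by_cases hkl : k < l
      · rw [h k l (by simpa [permWt] using hkl)]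
        exact (one_apply_ne hkl.ne).symm
      · exact mem_slUnip.1 hu k l (by simpa using hkl)
    simp only [MonoidAlgebra.coeff_sum, Finsupp.coe_finsetSum, Finset.sum_apply,
      MonoidAlgebra.coeff_smul, Finsupp.coe_smul, Pi.smul_apply, slCell, coeff_gaOfFun]
    constructor
    · intro h
      obtain ⟨σ, -, h1⟩ := Finset.exists_ne_zero_of_sum_ne_zero h
      by_contra hc
      exact h1 (by rw [if_neg fun h2 => hc (key σ h2).2, smul_zero])
    · intro h
      rw [Finset.sum_eq_single 1 (fun σ _ h1 => by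
        rw [if_neg fun h2 => h1 (key σ h2).1, smul_zero]) (by simp), if_pos]
      · simp
      · rw [h]
        exact matPat_one _

end Steinberg

section Radical

/-- elements acting trivially on `W` and on `V / W` -/
def slTrans (W : Submodule F (ι → F)) : Subgroup (Matrix.SpecialLinearGroup ι F) where
  carrier := {g | (∀ v, g • v - v ∈ W) ∧ ∀ w ∈ W, g • w = w}
  one_mem' := ⟨fun v => by simp, fun w _ => one_smul _ w⟩
  mul_mem' {g g'} h h' := ⟨fun v => by
    have := W.add_mem (h.1 (g' • v)) (h'.1 v)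
    rwa [sub_add_sub_cancel, ← mul_smul] at this, fun w hw => by
    rw [mul_smul, h'.2 w hw, h.2 w hw]⟩
  inv_mem' {g} h := ⟨fun v => by
    have := W.neg_mem (h.1 (g⁻¹ • v))
    rwa [smul_inv_smul, neg_sub] at this, fun w hw => by rw [inv_smul_eq_iff, h.2 w hw]⟩

theorem isPGroup_slTrans (p : ℕ) [CharP F p] (W : Submodule F (ι → F)) :
    IsPGroup p (slTrans W) := fun g => ⟨1, Subtype.ext (by
  have h1 : ∀ (j : ℕ) (v : ι → F), g.1 ^ j • v = v + j • (g.1 • v - v) := fun j v => by
    induction j with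
    | zero => simp
    | succ j ih =>
      rw [pow_succ', mul_smul, ih, smul_add, smul_comm g.1 j, g.2.2 _ (g.2.1 v), succ_nsmul]
      abel
  refine Subtype.ext (toLin'.injective (LinearMap.ext fun v => ?_))
  have h2 := h1 p v
  rw [charP_nsmul_eq_zero (R := F), add_zero] at h2
  change g.1 ^ p ^ 1 • v = (1 : Matrix.SpecialLinearGroup ι F) • v
  rw [pow_one, h2, one_smul])⟩

theorem conj_mem_slTrans {W : Submodule F (ι → F)} {y g : Matrix.SpecialLinearGroup ι F}
    (hy : ∀ w, w ∈ W ↔ y • w ∈ W) (hg : g ∈ slTrans W) : y * g * y⁻¹ ∈ slTrans W :=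
  ⟨fun v => by
    have := (hy _).1 (hg.1 (y⁻¹ • v))
    rwa [smul_sub, smul_inv_smul, ← mul_smul, ← mul_smul] at this, fun w hw => by
    rw [mul_smul, mul_smul, hg.2 _ ((hy _).2 (by rwa [smul_inv_smul])), smul_inv_smul]⟩

theorem exists_mem_slTrans {W : Submodule F (ι → F)} {w : ι → F} (hw : w ∈ W)
    {f : Module.Dual F (ι → F)} (hf : f ∈ W.dualAnnihilator) :
    ∃ g ∈ slTrans W, ∀ v, g • v = v + f v • w := by
  have h1 : ∀ v, (fun j => f (Pi.single j 1)) ⬝ᵥ v = f v := fun v => by
    rw [LinearMap.pi_apply_eq_sum_univ f v, dotProduct]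
    refine Finset.sum_congr rfl fun j _ => ?_
    rw [smul_eq_mul, mul_comm]
    congr 2
    ext i
    simp [Pi.single_apply, eq_comm]
  have h0 := (Submodule.mem_dualAnnihilator f).1 hf
  let g : Matrix.SpecialLinearGroup ι F := ⟨1 + vecMulVec w fun j => f (Pi.single j 1), by
    rw [vecMulVec_eq Unit, det_one_add_replicateCol_mul_replicateRow, h1, h0 w hw, add_zero]⟩
  have h2 : ∀ v, g • v = v + f v • w := fun v => by
    change (1 + vecMulVec w fun j => f (Pi.single j 1)) *ᵥ v = _
    rw [add_mulVec, one_mulVec, vecMulVec_mulVec, h1, op_smul_eq_smul]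
  exact ⟨g, ⟨fun v => by rw [h2, add_sub_cancel_left]; exact W.smul_mem _ hw,
    fun v hv => by rw [h2, h0 v hv, zero_smul, add_zero]⟩, h2⟩

theorem mem_center_of_centralizes_slTrans (p : ℕ) [hp : Fact p.Prime] [CharP F p]
    {W : Submodule F (ι → F)} (h0 : W ≠ ⊥) (h1 : W ≠ ⊤) {x : Matrix.SpecialLinearGroup ι F}
    (hx : ∀ g ∈ slTrans W, g * x = x * g) (hx' : ¬ p ∣ orderOf x) :
    x ∈ Subgroup.center (Matrix.SpecialLinearGroup ι F) := by
  have key : ∀ w ∈ W, ∀ f ∈ W.dualAnnihilator, ∀ v, f (x • v) • w = f v • x • w := by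
    intro w hw f hf v
    obtain ⟨g, hg, h2⟩ := exists_mem_slTrans hw hf
    have h3 := congrArg (· • v) (hx g hg)
    simp only [mul_smul, h2, smul_add, add_right_inj] at h3
    rw [h3, smul_comm]
  obtain ⟨v0, hv0⟩ : ∃ v, v ∉ W := by
    by_contra hc
    push Not at hc
    exact h1 (eq_top_iff.2 fun v _ => hc v)
  obtain ⟨f0, hf0, hf1⟩ : ∃ f ∈ W.dualAnnihilator, f v0 ≠ 0 := by
    by_contra hc
    push Not at hc
    exact hv0 ((Subspace.forall_mem_dualAnnihilator_apply_eq_zero_iff W v0).1 hc)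
  obtain ⟨w0, hw0, hw1⟩ := (Submodule.ne_bot_iff W).1 h0
  obtain ⟨c, hc⟩ : ∃ c, c = f0 (x • v0) / f0 v0 := ⟨_, rfl⟩
  have h2 : ∀ w ∈ W, x • w = c • w := fun w hw => by
    rw [hc, div_eq_inv_mul, mul_smul, key w hw f0 hf0, inv_smul_smul₀ hf1]
  have h3 : ∀ v, x • v - c • v ∈ W := fun v =>
    (Subspace.forall_mem_dualAnnihilator_apply_eq_zero_iff W _).1 fun f hf => by
      have h4 := key w0 hw0 f hf v
      rw [h2 w0 hw0, ← mul_smul, ← sub_eq_zero, ← sub_smul, smul_eq_zero, or_iff_left hw1] at h4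
      rw [map_sub, f.map_smul c, smul_eq_mul, mul_comm, h4]
  have h4 : ∀ (j : ℕ) (v : ι → F), x ^ (j + 1) • v = c ^ (j + 1) • v +
      (j + 1) • c ^ j • (x • v - c • v) := fun j v => by
    induction j with
    | zero => simp
    | succ j ih =>
      rw [pow_succ' x, mul_smul, ih, smul_add, smul_comm x, smul_comm x, smul_comm x, h2 _ (h3 v)]
      generalize x • v = y
      module
  have h5 : x ^ p ∈ Subgroup.center (Matrix.SpecialLinearGroup ι F) := by
    refine Subgroup.mem_center_iff.2 fun g => Subtype.ext (toLin'.injective (LinearMap.ext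
      fun v => ?_))
    have h6 : ∀ v : ι → F, x ^ p • v = c ^ p • v := fun v => by
      have := h4 (p - 1) v
      rwa [Nat.sub_add_cancel hp.out.pos, charP_nsmul_eq_zero (R := F), add_zero] at this
    change (g * x ^ p) • v = (x ^ p * g) • v
    rw [mul_smul, mul_smul, h6, h6, smul_comm]
  obtain ⟨m, hm⟩ := exists_pow_eq_self_of_coprime (hp.out.coprime_iff_not_dvd.2 hx')
  exact hm ▸ Subgroup.pow_mem _ h5 m

theorem le_of_radical {G : Type*} [Group G] [Finite G] {p : ℕ} [Fact p.Prime] {Q A : Subgroup G}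
    (hQ : IsPGroup p Q) (hA : IsPGroup p A)
    (hN : Subgroup.normalizer (Q : Set G) ≤ Subgroup.normalizer (A : Set G))
    (h : ∀ R : Subgroup G, IsPGroup p R → (R.subgroupOf (Subgroup.normalizer (Q : Set G))).Normal →
      R ⊓ Subgroup.normalizer (Q : Set G) ≤ Q) : A ≤ Q := by
  have hR : IsPGroup p (Q ⊔ A : Subgroup G) :=
    IsPGroup.to_sup_of_normal_right' hQ hA (Subgroup.le_normalizer.trans hN)
  have h1 := h _ hR (Subgroup.normal_subgroupOf_of_le_normalizer ((le_inf le_rfl hN).trans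
    (Subgroup.normalizer_inf_normalizer_le_normalizer_sup Q A)))
  haveI := hR.isNilpotent
  by_contra hc
  have h2 := Group.normalizerCondition_of_isNilpotent (G := (Q ⊔ A : Subgroup G))
    (Q.subgroupOf (Q ⊔ A)) (lt_top_iff_ne_top.2 fun e => hc
      (le_sup_right.trans (Subgroup.subgroupOf_eq_top.1 e)))
  rw [← Subgroup.subgroupOf_normalizer_eq le_sup_left] at h2
  exact h2.not_ge fun y hy => h1 ⟨y.2, hy⟩

end Radical

end Cfsg
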