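import Cfsg.Agent.Grp.Misc

/-! Explicit formulas for the transfer homomorphism. -/

set_option autoImplicit false

namespace Cfsg

open scoped Pointwise commutatorElement

universe u v

variable {G : Type u} [Group G] {A : Type v} [CommGroup A] {H : Subgroup G}

theorem inv_mul_mul_section_mem (f : G ⧸ H → G) (hf : ∀ q, (f q : G ⧸ H) = q) (g : G)
    (q : G ⧸ H) : (f q)⁻¹ * (g * f (g⁻¹ • q)) ∈ H := by
  rw [← QuotientGroup.eq, hf, ← smul_eq_mul, ← MulAction.Quotient.smul_coe, hf, smul_inv_smul]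

/-- the transfer computed from any section of `G → G ⧸ H` -/
theorem transfer_eq_prod_section [H.FiniteIndex] [Fintype (G ⧸ H)] (ϕ : H →* A)
    (f : G ⧸ H → G) (hf : ∀ q, (f q : G ⧸ H) = q) (g : G) :
    MonoidHom.transfer ϕ g =
      ∏ q : G ⧸ H, ϕ ⟨(f q)⁻¹ * (g * f (g⁻¹ • q)), inv_mul_mul_section_mem f hf g q⟩ := by
  rw [MonoidHom.transfer_def ϕ ⟨Set.range f, Subgroup.isComplement_range_left hf⟩ g,
    Subgroup.leftTransversals.diff]
  refine Finset.prod_congr (congrArg (@Finset.univ _) (Subsingleton.elim _ _)) fun q _ => ?_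
  congr 1
  apply Subtype.ext
  simp only [Subgroup.smul_apply_eq_smul_apply_inv_smul, smul_eq_mul]
  rw [Subgroup.IsComplement.leftQuotientEquiv_apply hf, Subgroup.IsComplement.leftQuotientEquiv_apply hf]

theorem smul_quotient_eq_of_mem [H.Normal] {g : G} (hg : g ∈ H) (q : G ⧸ H) : g • q = q := by
  obtain ⟨a, rfl⟩ := QuotientGroup.mk_surjective q
  rw [MulAction.Quotient.smul_coe, smul_eq_mul, QuotientGroup.eq]
  have := ‹H.Normal›.conj_mem _ (H.inv_mem hg) a⁻¹
  simpa [mul_assoc] using this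

/-- the transfer to a normal subgroup, evaluated on that subgroup -/
theorem transfer_eq_prod_of_normal [hn : H.Normal] [H.FiniteIndex] [Fintype (G ⧸ H)] (ϕ : H →* A)
    (f : G ⧸ H → G) (hf : ∀ q, (f q : G ⧸ H) = q) {g : G} (hg : g ∈ H) :
    MonoidHom.transfer ϕ g =
      ∏ q : G ⧸ H, ϕ ⟨(f q)⁻¹ * g * f q, hn.conj_mem' _ hg _⟩ := by
  rw [transfer_eq_prod_section ϕ f hf]
  refine Finset.prod_congr rfl fun q _ => ?_
  congr 1
  apply Subtype.ext
  simp only [smul_quotient_eq_of_mem (H.inv_mem hg), mul_assoc]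

/-- if `ϕ` kills the conjugates of `g ∈ H` by elements outside the normal subgroup `H`, the
transfer of `g` is `ϕ g` -/
theorem transfer_eq_of_normal_of_forall [hn : H.Normal] [H.FiniteIndex] (ϕ : H →* A)
    {g : G} (hg : g ∈ H) (h : ∀ u : G, u ∉ H → ϕ ⟨u⁻¹ * g * u, hn.conj_mem' _ hg _⟩ = 1) :
    MonoidHom.transfer ϕ g = ϕ ⟨g, hg⟩ := by
  let _ := H.fintypeQuotientOfFiniteIndex
  rw [transfer_eq_prod_of_normal ϕ Quotient.out (fun q => Quotient.out_eq' q) hg,
    Fintype.prod_eq_single (1 : G ⧸ H)]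
  · have h1 : Quotient.out (1 : G ⧸ H) ∈ H := by
      rw [← QuotientGroup.eq_one_iff]; exact Quotient.out_eq' _
    have h2 : (⟨(Quotient.out (1 : G ⧸ H))⁻¹ * g * Quotient.out (1 : G ⧸ H),
        hn.conj_mem' _ hg _⟩ : H) = (⟨_, h1⟩ : H)⁻¹ * ⟨g, hg⟩ * ⟨_, h1⟩ := rfl
    rw [h2, map_mul, map_mul, map_inv, mul_right_comm, inv_mul_cancel, one_mul]
  · intro q hq
    refine h _ fun h1 => hq ?_
    rw [← QuotientGroup.eq_one_iff] at h1
    rw [← h1]; exact (Quotient.out_eq' q).symm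

end Cfsg
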