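import Mathlib

/-! Dickson's counting argument for finite subgroups of `GL(2, F)` of order prime to the
characteristic. -/

set_option autoImplicit false
namespace Cfsg
universe u

theorem dickson_arith_two {d₁ d₂ f₁ f₂ h : ℕ} (h1 : 2 ≤ d₁) (h2 : 2 ≤ d₂) (hf₁ : f₁ = 1 ∨ f₁ = 2)
    (hf₂ : f₂ = 1 ∨ f₂ = 2) (hh : 0 < h)
    (e : (1 - 1 / (d₁ : ℚ)) / f₁ + (1 - 1 / (d₂ : ℚ)) / f₂ = 1 - 1 / (h : ℚ)) :
    h ≤ 2 * d₁ ∨ h ≤ 2 * d₂ ∨ h = 12 := by
  by_contra hc
  push Not at hc
  obtain ⟨c1, c2, c3⟩ := hc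
  have hd₁ : (0 : ℚ) < d₁ := by exact_mod_cast (by omega : 0 < d₁)
  have hd₂ : (0 : ℚ) < d₂ := by exact_mod_cast (by omega : 0 < d₂)
  have hh' : (0 : ℚ) < h := by exact_mod_cast hh
  have key : ∀ {a b : ℕ}, 2 ≤ a → 2 ≤ b → 2 * a < h → 2 * b < h →
      2 * b * h + a * h = a * b * h + 2 * a * b → False := by
    intro a b ha hb ca cb e
    have h3 : a ≤ 3 := by
      by_contra h4
      push Not at h4
      obtain ⟨a, rfl⟩ : ∃ a', a = a' + 4 := ⟨a - 4, by omega⟩
      obtain ⟨b, rfl⟩ : ∃ b', b = b' + 2 := ⟨b - 2, by omega⟩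
      nlinarith [Nat.zero_le (a * b * h), Nat.zero_le (a * h), Nat.zero_le (b * h), Nat.zero_le (a * b)]
    interval_cases a
    · nlinarith
    · have h4 : b ≤ 2 := by
        by_contra h4
        push Not at h4
        nlinarith
      interval_cases b
      omega
  rcases hf₁ with rfl | rfl <;> rcases hf₂ with rfl | rfl
  · have e' : (d₂ * h + d₁ * h : ℚ) = d₁ * d₂ * h + d₁ * d₂ := by
      field_simp at e
      push_cast at e
      linarith
    have e'' : d₂ * h + d₁ * h = d₁ * d₂ * h + d₁ * d₂ := by exact_mod_cast e'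
    obtain ⟨a, rfl⟩ : ∃ a', d₁ = a' + 2 := ⟨d₁ - 2, by omega⟩
    obtain ⟨b, rfl⟩ : ∃ b', d₂ = b' + 2 := ⟨d₂ - 2, by omega⟩
    nlinarith [Nat.zero_le (a * b * h), Nat.zero_le (a * h), Nat.zero_le (b * h), Nat.zero_le (a * b)]
  · have e' : (2 * d₂ * h + d₁ * h : ℚ) = d₁ * d₂ * h + 2 * d₁ * d₂ := by
      field_simp at e
      push_cast at e
      linarith
    exact key h1 h2 c1 c2 (by exact_mod_cast e')
  · have e' : (2 * d₁ * h + d₂ * h : ℚ) = d₂ * d₁ * h + 2 * d₂ * d₁ := by
      field_simp at e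
      push_cast at e
      linarith
    exact key h2 h1 c2 c1 (by exact_mod_cast e')
  · have e' : (d₂ * h + d₁ * h : ℚ) = 2 * d₁ * d₂ := by
      field_simp at e
      push_cast at e
      linarith
    have e'' : d₂ * h + d₁ * h = 2 * d₁ * d₂ := by exact_mod_cast e'
    nlinarith

theorem dickson_arith_three_aux {a b c h : ℕ} (ha : 2 ≤ a) (hb : 2 ≤ b) (hc : 2 ≤ c)
    (c3 : 2 * c < h)
    (e : h * (b * c + a * c + a * b) = h * (a * b * c) + 2 * (a * b * c)) : c ≤ 5 := by
  by_contra h6
  push Not at h6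
  have hd₁ : (0 : ℚ) < a := by exact_mod_cast (by omega : 0 < a)
  have hd₂ : (0 : ℚ) < b := by exact_mod_cast (by omega : 0 < b)
  have hd₃ : (0 : ℚ) < c := by exact_mod_cast (by omega : 0 < c)
  have hh' : (0 : ℚ) < h := by exact_mod_cast (by omega : 0 < h)
  have e' : 1 / (a : ℚ) + 1 / b + 1 / c = 1 + 2 / h := by
    have : (h : ℚ) * (b * c + a * c + a * b) = h * (a * b * c) + 2 * (a * b * c) := by
      exact_mod_cast e
    field_simp
    linarith
  have hw : 2 / (h : ℚ) < 1 / c := by
    rw [div_lt_div_iff₀ hh' hd₃]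
    exact_mod_cast (by omega : 2 * c < 1 * h)
  have hw0 : 0 < 2 / (h : ℚ) := by positivity
  have t6 : 1 / (c : ℚ) ≤ 1 / 6 := one_div_le_one_div_of_le (by norm_num) (by exact_mod_cast h6)
  have a2 : 1 / (a : ℚ) ≤ 1 / 2 := one_div_le_one_div_of_le (by norm_num) (by exact_mod_cast ha)
  have b2 : 1 / (b : ℚ) ≤ 1 / 2 := one_div_le_one_div_of_le (by norm_num) (by exact_mod_cast hb)
  rcases Nat.lt_or_ge a 3 with h3 | h3
  · rcases Nat.lt_or_ge b 3 with h4 | h4
    · obtain rfl : a = 2 := by omega
      obtain rfl : b = 2 := by omega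
      push_cast at e'
      linarith
    · have b3 : 1 / (b : ℚ) ≤ 1 / 3 := one_div_le_one_div_of_le (by norm_num) (by exact_mod_cast h4)
      linarith
  · have a3 : 1 / (a : ℚ) ≤ 1 / 3 := one_div_le_one_div_of_le (by norm_num) (by exact_mod_cast h3)
    linarith

theorem dickson_arith_three {d₁ d₂ d₃ f₁ f₂ f₃ h : ℕ} (h1 : 2 ≤ d₁) (h2 : 2 ≤ d₂) (h3 : 2 ≤ d₃)
    (hf₁ : f₁ = 1 ∨ f₁ = 2) (hf₂ : f₂ = 1 ∨ f₂ = 2) (hf₃ : f₃ = 1 ∨ f₃ = 2) (hh : 0 < h)
    (e : (1 - 1 / (d₁ : ℚ)) / f₁ + (1 - 1 / (d₂ : ℚ)) / f₂ + (1 - 1 / (d₃ : ℚ)) / f₃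
      = 1 - 1 / (h : ℚ)) :
    h ≤ 2 * d₁ ∨ h ≤ 2 * d₂ ∨ h ≤ 2 * d₃ ∨ h = 12 ∨ h = 24 ∨ h = 60 := by
  have hd₁ : (0 : ℚ) < d₁ := by exact_mod_cast (by omega : 0 < d₁)
  have hd₂ : (0 : ℚ) < d₂ := by exact_mod_cast (by omega : 0 < d₂)
  have hd₃ : (0 : ℚ) < d₃ := by exact_mod_cast (by omega : 0 < d₃)
  have hh' : (0 : ℚ) < h := by exact_mod_cast hh
  have a2 : 1 / (d₁ : ℚ) ≤ 1 / 2 := one_div_le_one_div_of_le (by norm_num) (by exact_mod_cast h1)
  have b2 : 1 / (d₂ : ℚ) ≤ 1 / 2 := one_div_le_one_div_of_le (by norm_num) (by exact_mod_cast h2)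
  have c2 : 1 / (d₃ : ℚ) ≤ 1 / 2 := one_div_le_one_div_of_le (by norm_num) (by exact_mod_cast h3)
  have hw0 : 0 < 1 / (h : ℚ) := by positivity
  rcases hf₁ with rfl | rfl <;> rcases hf₂ with rfl | rfl <;> rcases hf₃ with rfl | rfl
  any_goals (exfalso; push_cast at e; linarith)
  by_contra hc
  push Not at hc
  obtain ⟨c1, c2, c3, c4, c5, c6⟩ := hc
  have e' : h * (d₂ * d₃ + d₁ * d₃ + d₁ * d₂) = h * (d₁ * d₂ * d₃) + 2 * (d₁ * d₂ * d₃) := by
    have : (h : ℚ) * (d₂ * d₃ + d₁ * d₃ + d₁ * d₂) = h * (d₁ * d₂ * d₃) + 2 * (d₁ * d₂ * d₃) := by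
      field_simp at e
      push_cast at e
      linarith
    exact_mod_cast this
  have k3 := dickson_arith_three_aux h1 h2 h3 c3 e'
  have k2 := dickson_arith_three_aux h1 h3 h2 c2 (by rw [← mul_right_comm d₁ d₂ d₃, ← e']; ring)
  have k1 := dickson_arith_three_aux h2 h3 h1 c1
    (by rw [show d₂ * d₃ * d₁ = d₁ * d₂ * d₃ by ring, ← e']; ring)
  interval_cases d₁ <;> interval_cases d₂ <;> interval_cases d₃ <;> omega


section Abstract
variable {K : Type u} [Group K]

theorem dickson_conj_notMem_center {y : K} (hy : y ∉ Subgroup.center K) (g : K) :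
    g * y * g⁻¹ ∉ Subgroup.center K := fun h => hy <| by
  have := (Subgroup.normal_of_characteristic (Subgroup.center K)).conj_mem _ h g⁻¹
  simpa [mul_assoc] using this

theorem dickson_commute_conj {a b : K} (h : Commute a b) (g : K) :
    Commute (g * a * g⁻¹) (g * b * g⁻¹) := by
  have := h.map (MulAut.conj g).toMonoidHom
  simpa using this

open Classical in
/-- the union of the conjugates of `C(x)`, minus the centre -/
noncomputable def dicksonS [Fintype K] (x : K) : Finset K :=
  Finset.univ.filter fun y => y ∉ Subgroup.center K ∧ ∃ g : K, Commute x (g * y * g⁻¹)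

open Classical in
/-- the normalizer of `C(x)` -/
noncomputable def dicksonN [Fintype K] (x : K) : Finset K :=
  Finset.univ.filter fun g => Commute x (g * x * g⁻¹)

theorem mem_dicksonS [Fintype K] {x y : K} :
    y ∈ dicksonS x ↔ y ∉ Subgroup.center K ∧ ∃ g : K, Commute x (g * y * g⁻¹) := by
  simp [dicksonS]

theorem mem_dicksonN [Fintype K] {x g : K} : g ∈ dicksonN x ↔ Commute x (g * x * g⁻¹) := by
  simp [dicksonN]

variable (hCA : ∀ x : K, x ∉ Subgroup.center K → ∀ a b : K, Commute x a → Commute x b → Commute a b)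
include hCA

theorem dickson_key {x a : K} (hx : x ∉ Subgroup.center K) (ha : a ∉ Subgroup.center K)
    (hxa : Commute x a) (h : K) : Commute x (h * a * h⁻¹) ↔ Commute x (h * x * h⁻¹) := by
  constructor
  · intro h1
    exact hCA _ (dickson_conj_notMem_center ha h) _ _ h1.symm (dickson_commute_conj hxa.symm h)
  · intro h1
    exact hCA _ (dickson_conj_notMem_center hx h) _ _ h1.symm (dickson_commute_conj hxa h)

theorem dicksonS_eq [Fintype K] {x y : K} (hx : x ∉ Subgroup.center K) (hy : y ∈ dicksonS x) :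
    dicksonS y = dicksonS x := by
  obtain ⟨hy, g, hg⟩ := mem_dicksonS.1 hy
  ext w
  simp only [mem_dicksonS]
  refine and_congr_right fun hw => ⟨?_, ?_⟩
  · rintro ⟨k, hk⟩
    refine ⟨g * k, ?_⟩
    have h1 := dickson_commute_conj hk g
    have h2 := hCA _ (dickson_conj_notMem_center hy g) _ _ hg.symm h1
    convert h2 using 1
    group
  · rintro ⟨k, hk⟩
    refine ⟨g⁻¹ * k, ?_⟩
    have h1 := dickson_commute_conj (hCA _ hx _ _ hg hk) g⁻¹
    convert h1 using 1 <;> group

theorem card_dicksonS_mul [Fintype K] {x : K} (hx : x ∉ Subgroup.center K) :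
    (dicksonS x).card * (dicksonN x).card + Nat.card K * Nat.card (Subgroup.center K) =
      Nat.card K * Nat.card (Subgroup.centralizer ({x} : Set K)) := by
  classical
  set C : Finset K := Finset.univ.filter fun a => a ∉ Subgroup.center K ∧ Commute x a with hC
  have h1 : (dicksonS x).card * (dicksonN x).card = (Finset.univ : Finset K).card * C.card := by
    refine Finset.card_mul_eq_card_mul (fun y g => Commute x (g * y * g⁻¹)) ?_ ?_
    · intro y hy
      obtain ⟨hy, g₀, hg₀⟩ := mem_dicksonS.1 hy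
      refine Finset.card_bij (fun g _ => g * g₀⁻¹) ?_ ?_ ?_
      · intro g hg
        rw [Finset.mem_bipartiteAbove] at hg
        rw [mem_dicksonN, ← dickson_key hCA hx (dickson_conj_notMem_center hy g₀) hg₀]
        convert hg.2 using 1
        group
      · intro g _ g' _ h
        simpa using h
      · intro k hk
        refine ⟨k * g₀, ?_, by group⟩
        rw [Finset.mem_bipartiteAbove]
        refine ⟨Finset.mem_univ _, ?_⟩
        rw [mem_dicksonN, ← dickson_key hCA hx (dickson_conj_notMem_center hy g₀) hg₀] at hk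
        convert hk using 1
        group
    · intro g _
      refine Finset.card_bij (fun y _ => g * y * g⁻¹) ?_ ?_ ?_
      · intro y hy
        rw [Finset.mem_bipartiteBelow, mem_dicksonS] at hy
        simp only [hC, Finset.mem_filter, Finset.mem_univ, true_and]
        exact ⟨dickson_conj_notMem_center hy.1.1 g, hy.2⟩
      · intro y _ y' _ h
        simpa using h
      · intro a ha
        simp only [hC, Finset.mem_filter, Finset.mem_univ, true_and] at ha
        refine ⟨g⁻¹ * a * g⁻¹⁻¹, ?_, by group⟩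
        rw [Finset.mem_bipartiteBelow, mem_dicksonS]
        have : g * (g⁻¹ * a * g⁻¹⁻¹) * g⁻¹ = a := by group
        exact ⟨⟨dickson_conj_notMem_center ha.1 _, g, by rw [this]; exact ha.2⟩,
          by rw [this]; exact ha.2⟩
  have h2 : C.card + Nat.card (Subgroup.center K) =
      Nat.card (Subgroup.centralizer ({x} : Set K)) := by
    rw [Nat.card_eq_fintype_card, Nat.card_eq_fintype_card, Fintype.card_subtype,
      Fintype.card_subtype, ← Finset.card_union_of_disjoint]
    · congr 1
      ext a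
      simp only [hC, Finset.mem_union, Finset.mem_filter, Finset.mem_univ, true_and,
        Subgroup.mem_centralizer_singleton_iff]
      constructor
      · rintro (h | h)
        · exact h.2.symm
        · exact ((Subgroup.mem_center_iff.1 h) x).symm
      · intro h
        by_cases ha : a ∈ Subgroup.center K
        · exact Or.inr ha
        · exact Or.inl ⟨ha, Eq.symm h⟩
    · rw [Finset.disjoint_left]
      intro a ha hb
      simp only [hC, Finset.mem_filter, Finset.mem_univ, true_and] at ha hb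
      exact ha.1 hb
  rw [h1, ← h2, Finset.card_univ, ← Nat.card_eq_fintype_card]
  ring

omit hCA in
theorem card_dicksonN [Fintype K] {x : K}
    (hN : ∀ g g' : K, Commute x (g * x * g⁻¹) → Commute x (g' * x * g'⁻¹) →
      g * x * g⁻¹ = x ∨ g' * x * g'⁻¹ = x ∨ g * x * g⁻¹ = g' * x * g'⁻¹) :
    (dicksonN x).card = Nat.card (Subgroup.centralizer ({x} : Set K)) ∨
      (dicksonN x).card = 2 * Nat.card (Subgroup.centralizer ({x} : Set K)) := by
  classical
  set C : Finset K := Finset.univ.filter fun g => g * x * g⁻¹ = x with hC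
  have hCc : C.card = Nat.card (Subgroup.centralizer ({x} : Set K)) := by
    rw [Nat.card_eq_fintype_card, Fintype.card_subtype]
    congr 1
    ext a
    simp only [hC, Finset.mem_filter, Finset.mem_univ, true_and,
      Subgroup.mem_centralizer_singleton_iff, mul_inv_eq_iff_eq_mul]
  have hsub : C ⊆ dicksonN x := by
    intro g hg
    simp only [hC, Finset.mem_filter, Finset.mem_univ, true_and] at hg
    rw [mem_dicksonN, hg]
  have hsum := Finset.card_sdiff_add_card_eq_card hsub
  rcases (dicksonN x \ C).eq_empty_or_nonempty with h0 | ⟨g₀, hg₀⟩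
  · left
    rw [← hsum, h0, hCc]
    simp
  · right
    simp only [hC, Finset.mem_sdiff, Finset.mem_filter, Finset.mem_univ, true_and,
      mem_dicksonN] at hg₀
    have : (dicksonN x \ C).card = C.card := by
      refine Finset.card_bij (fun g _ => g₀⁻¹ * g) ?_ ?_ ?_
      · intro g hg
        simp only [hC, Finset.mem_sdiff, Finset.mem_filter, Finset.mem_univ, true_and,
          mem_dicksonN] at hg ⊢
        rcases hN g g₀ hg.1 hg₀.1 with h | h | h
        · exact absurd h hg.2
        · exact absurd h hg₀.2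
        · calc g₀⁻¹ * g * x * (g₀⁻¹ * g)⁻¹ = g₀⁻¹ * (g * x * g⁻¹) * g₀ := by group
            _ = x := by rw [h]; group
      · intro g _ g' _ h
        simpa using h
      · intro c hc
        simp only [hC, Finset.mem_filter, Finset.mem_univ, true_and] at hc
        refine ⟨g₀ * c, ?_, by group⟩
        have e : g₀ * c * x * (g₀ * c)⁻¹ = g₀ * x * g₀⁻¹ := by
          calc g₀ * c * x * (g₀ * c)⁻¹ = g₀ * (c * x * c⁻¹) * g₀⁻¹ := by group
            _ = _ := by rw [hc]
        simp only [hC, Finset.mem_sdiff, Finset.mem_filter, Finset.mem_univ, true_and,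
          mem_dicksonN, e]
        exact hg₀
    rw [← hsum, this, hCc, two_mul]

/-- data attached to each class -/
theorem dickson_class [Fintype K]
    (hN : ∀ x : K, x ∉ Subgroup.center K → ∀ g g' : K, Commute x (g * x * g⁻¹) →
      Commute x (g' * x * g'⁻¹) →
      g * x * g⁻¹ = x ∨ g' * x * g'⁻¹ = x ∨ g * x * g⁻¹ = g' * x * g'⁻¹)
    {x : K} (hx : x ∉ Subgroup.center K) :
    ∃ d f : ℕ, 2 ≤ d ∧ (f = 1 ∨ f = 2) ∧
      (Subgroup.centralizer ({x} : Set K)).index * d = (Subgroup.center K).index ∧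
      ((dicksonS x).card : ℚ) = Nat.card K * ((1 - 1 / (d : ℚ)) / f) := by
  have hle : Subgroup.center K ≤ Subgroup.centralizer ({x} : Set K) :=
    Subgroup.center_le_centralizer _
  set d := (Subgroup.center K).relIndex (Subgroup.centralizer ({x} : Set K)) with hd
  have hd1 : d * (Subgroup.centralizer ({x} : Set K)).index = (Subgroup.center K).index :=
    Subgroup.relIndex_mul_index hle
  have hd2 : Nat.card (Subgroup.center K) * d = Nat.card (Subgroup.centralizer ({x} : Set K)) := by
    rw [hd, Subgroup.relIndex, ← Nat.card_congr (Subgroup.subgroupOfEquivOfLe hle).toEquiv,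
      Subgroup.card_mul_index]
  have hd0 : d ≠ 0 := Subgroup.index_ne_zero_of_finite
  have hd3 : d ≠ 1 := by
    intro h
    exact hx (Subgroup.relIndex_eq_one.1 h (Subgroup.mem_centralizer_singleton_iff.2 rfl))
  have hz : (0 : ℚ) < Nat.card (Subgroup.center K) := by exact_mod_cast Nat.card_pos
  have hd' : (0 : ℚ) < d := by exact_mod_cast Nat.pos_of_ne_zero hd0
  have e := card_dicksonS_mul hCA hx
  rcases card_dicksonN (hN x hx) with h | h
  · refine ⟨d, 1, by omega, Or.inl rfl, by rw [mul_comm, hd1], ?_⟩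
    rw [h, ← hd2] at e
    have e' : ((dicksonS x).card : ℚ) * (Nat.card (Subgroup.center K) * d) +
      Nat.card K * Nat.card (Subgroup.center K) = Nat.card K * (Nat.card (Subgroup.center K) * d) := by
      exact_mod_cast e
    field_simp at e' ⊢
    push_cast
    linarith
  · refine ⟨d, 2, by omega, Or.inr rfl, by rw [mul_comm, hd1], ?_⟩
    rw [h, ← hd2] at e
    have e' : ((dicksonS x).card : ℚ) * (2 * (Nat.card (Subgroup.center K) * d)) +
      Nat.card K * Nat.card (Subgroup.center K) = Nat.card K * (Nat.card (Subgroup.center K) * d) := by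
      exact_mod_cast e
    field_simp at e' ⊢
    push_cast
    linarith

/-- Dickson's counting argument. -/
theorem dickson_ca [Finite K]
    (hN : ∀ x : K, x ∉ Subgroup.center K → ∀ g g' : K, Commute x (g * x * g⁻¹) →
      Commute x (g' * x * g'⁻¹) →
      g * x * g⁻¹ = x ∨ g' * x * g'⁻¹ = x ∨ g * x * g⁻¹ = g' * x * g'⁻¹) :
    (∃ A : Subgroup K, (∀ a ∈ A, ∀ b ∈ A, Commute a b) ∧ A.index ≤ 2) ∨
      (Subgroup.center K).index = 12 ∨ (Subgroup.center K).index = 24 ∨
      (Subgroup.center K).index = 60 := by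
  classical
  have := Fintype.ofFinite K
  set X : Finset K := Finset.univ.filter fun y => y ∉ Subgroup.center K with hX
  set h := (Subgroup.center K).index with hh
  have hh0 : 0 < h := Nat.pos_of_ne_zero Subgroup.index_ne_zero_of_finite
  have hK : (0 : ℚ) < Nat.card K := by exact_mod_cast Nat.card_pos
  have hXc : (X.card : ℚ) = Nat.card K * (1 - 1 / (h : ℚ)) := by
    have e1 : X.card + Nat.card (Subgroup.center K) = Nat.card K := by
      rw [Nat.card_eq_fintype_card, Nat.card_eq_fintype_card, Fintype.card_subtype, add_comm]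
      exact Finset.card_filter_add_card_filter_not _
    have e2 : Nat.card (Subgroup.center K) * h = Nat.card K := Subgroup.card_mul_index _
    have e1' : (X.card : ℚ) + Nat.card (Subgroup.center K) = Nat.card K := by exact_mod_cast e1
    have e2' : (Nat.card (Subgroup.center K) : ℚ) * h = Nat.card K := by exact_mod_cast e2
    have hh' : (0 : ℚ) < h := by exact_mod_cast hh0
    rw [← e2'] at e1' ⊢
    field_simp
    linarith
  have hsum : (X.card : ℚ) = ∑ T ∈ X.image dicksonS, (T.card : ℚ) := by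
    rw [Finset.card_eq_sum_card_image dicksonS X]
    push_cast
    refine Finset.sum_congr rfl fun T hT => ?_
    obtain ⟨x, hx, rfl⟩ := Finset.mem_image.1 hT
    simp only [hX, Finset.mem_filter, Finset.mem_univ, true_and] at hx
    congr 2
    ext y
    simp only [hX, Finset.mem_filter, Finset.mem_univ, true_and]
    constructor
    · rintro ⟨hy, e⟩
      rw [← e, mem_dicksonS]
      exact ⟨hy, 1, by simp⟩
    · intro hy
      exact ⟨(mem_dicksonS.1 hy).1, dicksonS_eq hCA hx hy⟩
  have hcls : ∀ T ∈ X.image dicksonS, ∃ d f : ℕ, 2 ≤ d ∧ (f = 1 ∨ f = 2) ∧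
      (h ≤ 2 * d → ∃ A : Subgroup K, (∀ a ∈ A, ∀ b ∈ A, Commute a b) ∧ A.index ≤ 2) ∧
      (T.card : ℚ) = Nat.card K * ((1 - 1 / (d : ℚ)) / f) := by
    intro T hT
    obtain ⟨x, hx, rfl⟩ := Finset.mem_image.1 hT
    simp only [hX, Finset.mem_filter, Finset.mem_univ, true_and] at hx
    obtain ⟨d, f, h1, h2, h3, h4⟩ := dickson_class hCA hN hx
    refine ⟨d, f, h1, h2, fun hle => ⟨Subgroup.centralizer {x}, ?_, ?_⟩, h4⟩
    · intro a ha b hb
      rw [Subgroup.mem_centralizer_singleton_iff] at ha hb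
      exact hCA x hx a b (Eq.symm ha) (Eq.symm hb)
    · rw [← hh] at h3
      rw [← h3] at hle
      exact Nat.le_of_mul_le_mul_right hle (by omega)
  have hcard : (X.image dicksonS).card ≤ 3 := by
    by_contra h4
    push Not at h4
    have h5 : ∑ T ∈ X.image dicksonS, (Nat.card K : ℚ) / 4 ≤ ∑ T ∈ X.image dicksonS, (T.card : ℚ) := by
      refine Finset.sum_le_sum fun T hT => ?_
      obtain ⟨d, f, h1, h2, -, h3⟩ := hcls T hT
      have a2 : 1 / (d : ℚ) ≤ 1 / 2 :=
        one_div_le_one_div_of_le (by norm_num) (by exact_mod_cast h1)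
      rw [h3]
      rcases h2 with rfl | rfl <;> push_cast <;> nlinarith
    rw [← hsum, hXc, Finset.sum_const, nsmul_eq_mul] at h5
    have h6 : (4 : ℚ) ≤ (X.image dicksonS).card := by exact_mod_cast h4
    have h7 : (0 : ℚ) < 1 / h := by positivity
    nlinarith
  rw [hXc] at hsum
  have hcases : (X.image dicksonS).card = 0 ∨ (X.image dicksonS).card = 1 ∨
      (X.image dicksonS).card = 2 ∨ (X.image dicksonS).card = 3 := by omega
  rcases hcases with h0 | h1 | h2 | h3
  · left
    refine ⟨⊤, fun a _ b _ => ?_, by simp⟩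
    rw [Finset.card_eq_zero, Finset.image_eq_empty] at h0
    have : a ∈ Subgroup.center K := by
      by_contra ha
      have : a ∈ X := by simpa [hX] using ha
      simp [h0] at this
    exact ((Subgroup.mem_center_iff.1 this) b).symm
  · obtain ⟨T, hT⟩ := Finset.card_eq_one.1 h1
    obtain ⟨d, f, k1, k2, k3, k4⟩ := hcls T (by simp [hT])
    rw [hT, Finset.sum_singleton, k4] at hsum
    have e := mul_left_cancel₀ hK.ne' hsum
    left
    apply k3
    have hd : (0 : ℚ) < d := by exact_mod_cast (by omega : 0 < d)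
    have hh' : (0 : ℚ) < h := by exact_mod_cast hh0
    rcases k2 with rfl | rfl
    · have : (h : ℚ) = d := by
        field_simp at e
        push_cast at e
        linarith
      have : h = d := by exact_mod_cast this
      omega
    · have : (h * d + h : ℚ) = 2 * d := by
        field_simp at e
        push_cast at e
        linarith
      have : h * d + h = 2 * d := by exact_mod_cast this
      omega
  · obtain ⟨T₁, T₂, hne, hT⟩ := Finset.card_eq_two.1 h2
    obtain ⟨d₁, f₁, k1, k2, k3, k4⟩ := hcls T₁ (by simp [hT])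
    obtain ⟨d₂, f₂, l1, l2, l3, l4⟩ := hcls T₂ (by simp [hT])
    rw [hT, Finset.sum_pair hne, k4, l4, ← mul_add] at hsum
    have e := mul_left_cancel₀ hK.ne' hsum
    rcases dickson_arith_two k1 l1 k2 l2 hh0 e.symm with c | c | c
    · exact Or.inl (k3 c)
    · exact Or.inl (l3 c)
    · exact Or.inr (Or.inl c)
  · obtain ⟨T₁, T₂, T₃, n12, n13, n23, hT⟩ := Finset.card_eq_three.1 h3
    obtain ⟨d₁, f₁, k1, k2, k3, k4⟩ := hcls T₁ (by simp [hT])
    obtain ⟨d₂, f₂, l1, l2, l3, l4⟩ := hcls T₂ (by simp [hT])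
    obtain ⟨d₃, f₃, m1, m2, m3, m4⟩ := hcls T₃ (by simp [hT])
    rw [hT, Finset.sum_insert (by simp [n12, n13]), Finset.sum_pair n23, k4, l4, m4, ← mul_add,
      ← mul_add, ← add_assoc] at hsum
    have e := mul_left_cancel₀ hK.ne' hsum
    rcases dickson_arith_three k1 l1 m1 k2 l2 m2 hh0 e.symm with c | c | c | c
    · exact Or.inl (k3 c)
    · exact Or.inl (l3 c)
    · exact Or.inl (m3 c)
    · exact Or.inr c

end Abstract

section Mat
variable {F : Type*} [Field F]

theorem mat2_eq_of_commute {x y : Matrix (Fin 2) (Fin 2) F} (hx : ∀ c : F, x ≠ c • 1)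
    (h : Commute x y) : ∃ a b : F, y = a • 1 + b • x := by
  have e00 := congrFun (congrFun h.eq 0) 0
  have e01 := congrFun (congrFun h.eq 0) 1
  have e10 := congrFun (congrFun h.eq 1) 0
  simp only [Matrix.mul_apply, Fin.sum_univ_two] at e00 e01 e10
  by_cases h1 : x 0 1 = 0
  · by_cases h2 : x 1 0 = 0
    · have h3 : x 0 0 - x 1 1 ≠ 0 := by
        intro h3
        apply hx (x 0 0)
        ext i j
        fin_cases i <;> fin_cases j <;> simp [h1, h2]
        linear_combination -h3
      refine ⟨y 0 0 - (y 0 0 - y 1 1) / (x 0 0 - x 1 1) * x 0 0,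
        (y 0 0 - y 1 1) / (x 0 0 - x 1 1), ?_⟩
      ext i j
      fin_cases i <;> fin_cases j <;> simp [h1, h2]
      · apply mul_left_cancel₀ h3
        rw [h1] at e01
        linear_combination e01
      · apply mul_left_cancel₀ h3
        rw [h2] at e10
        linear_combination -e10
      · field_simp
        ring
    · refine ⟨y 0 0 - y 1 0 / x 1 0 * x 0 0, y 1 0 / x 1 0, ?_⟩
      ext i j
      fin_cases i <;> fin_cases j <;> simp
      · field_simp
        linear_combination -e00
      · field_simp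
      · field_simp
        linear_combination -e10
  · refine ⟨y 0 0 - y 0 1 / x 0 1 * x 0 0, y 0 1 / x 0 1, ?_⟩
    ext i j
    fin_cases i <;> fin_cases j <;> simp
    · field_simp
    · field_simp
      linear_combination e00
    · field_simp
      linear_combination e01

theorem mat2_commute_of_commute {x a b : Matrix (Fin 2) (Fin 2) F} (hx : ∀ c : F, x ≠ c • 1)
    (ha : Commute x a) (hb : Commute x b) : Commute a b := by
  obtain ⟨c, d, rfl⟩ := mat2_eq_of_commute hx ha
  exact (((Commute.one_left b).smul_left c).add_left (hb.smul_left d))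

theorem mat2_disc_ne_zero {x : Matrix (Fin 2) (Fin 2) F} (hx : ∀ c : F, x ≠ c • 1)
    (h2 : (2 : F) ≠ 0) {n : ℕ} (hn : (n : F) ≠ 0) (hxn : x ^ n = 1) :
    x.trace ^ 2 - 4 * x.det ≠ 0 := by
  intro hd
  set l : F := x.trace / 2 with hl
  set N := x - l • (1 : Matrix (Fin 2) (Fin 2) F) with hN
  have hl2 : x 0 0 + x 1 1 = 2 * l := by
    rw [hl, Matrix.trace_fin_two]
    field_simp
  have hd2 : x 0 0 * x 1 1 - x 0 1 * x 1 0 = l ^ 2 := by
    rw [Matrix.trace_fin_two, Matrix.det_fin_two, hl2] at hd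
    have h4 : (4 : F) ≠ 0 := by
      have : (4 : F) = 2 * 2 := by norm_num
      rw [this]
      exact mul_ne_zero h2 h2
    apply mul_left_cancel₀ h4
    linear_combination -hd
  have hNN : N * N = 0 := by
    ext i j
    fin_cases i <;> fin_cases j <;> simp [hN, Matrix.mul_apply, Fin.sum_univ_two]
    · linear_combination (x 0 0) * hl2 - hd2
    · linear_combination (x 0 1) * hl2
    · linear_combination (x 1 0) * hl2
    · linear_combination (x 1 1) * hl2 - hd2
  have hxe : x = l • 1 + N := by rw [hN]; abel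
  have hpow : ∀ k : ℕ, x ^ (k + 1) = l ^ (k + 1) • 1 + ((k + 1 : ℕ) * l ^ k : F) • N := by
    intro k
    induction k with
    | zero => simpa using hxe
    | succ k ih =>
      rw [pow_succ, ih]
      conv_lhs => rw [hxe]
      simp only [add_mul, mul_add, smul_mul_assoc, mul_smul_comm, one_mul, mul_one, hNN, smul_zero,
        add_zero]
      push_cast
      module
  obtain ⟨k, rfl⟩ : ∃ k, n = k + 1 := ⟨n - 1, by
    rcases n with _ | n
    · simp at hn
    · simp⟩
  have e := hpow k
  rw [hxn] at e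
  have hl0 : l ≠ 0 := by
    intro h0
    have hdet : x.det = 0 := by rw [Matrix.det_fin_two, hd2, h0]; simp
    have := congrArg Matrix.det hxn
    rw [Matrix.det_pow, hdet] at this
    simp at this
  have hc : ((k + 1 : ℕ) * l ^ k : F) ≠ 0 := mul_ne_zero hn (pow_ne_zero _ hl0)
  apply hx (l + (1 - l ^ (k + 1)) / ((k + 1 : ℕ) * l ^ k : F))
  have e2 : N = ((1 - l ^ (k + 1)) / ((k + 1 : ℕ) * l ^ k : F)) • 1 := by
    have e3 : ((k + 1 : ℕ) * l ^ k : F) • N = (1 - l ^ (k + 1)) • 1 := by
      rw [sub_smul, one_smul]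
      exact (sub_eq_of_eq_add' e).symm
    rw [div_eq_inv_mul, mul_smul, ← e3, smul_smul, inv_mul_cancel₀ hc, one_smul]
  rw [add_smul, ← e2, ← hxe]

theorem mat2_conj_eq {x y : Matrix (Fin 2) (Fin 2) F} (hx : ∀ c : F, x ≠ c • 1)
    (h2 : (2 : F) ≠ 0) (hd : x.trace ^ 2 - 4 * x.det ≠ 0) (h : Commute x y)
    (ht : y.trace = x.trace) (hdet : y.det = x.det) : y = x ∨ y = x.trace • 1 - x := by
  obtain ⟨a, b, rfl⟩ := mat2_eq_of_commute hx h
  have e1 : 2 * a + b * x.trace = x.trace := by
    rw [← ht]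
    conv_lhs => rw [ht]
    simp [Matrix.trace_fin_two]
    ring
  have e2 : a ^ 2 + a * b * x.trace + b ^ 2 * x.det = x.det := by
    rw [← hdet]
    conv_lhs => rw [hdet]
    simp [Matrix.det_fin_two, Matrix.trace_fin_two]
    ring
  have e3 : (1 - b) * (1 + b) * (x.trace ^ 2 - 4 * x.det) = 0 := by
    linear_combination 4 * e2 - (2 * a + b * x.trace + x.trace) * e1
  rcases mul_eq_zero.1 e3 with h3 | h3
  · rcases mul_eq_zero.1 h3 with h4 | h4
    · left
      have hb : b = 1 := by linear_combination -h4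
      have ha : a = 0 := by
        apply mul_left_cancel₀ h2
        rw [hb] at e1
        linear_combination e1
      simp [ha, hb]
    · right
      have hb : b = -1 := by linear_combination h4
      have ha : a = x.trace := by
        apply mul_left_cancel₀ h2
        rw [hb] at e1
        linear_combination e1
      rw [ha, hb, neg_one_smul, sub_eq_add_neg]
  · exact absurd h3 hd

/-- A finite subgroup of `GL(2, F)` of order prime to the (odd or zero) characteristic has an
abelian subgroup of index at most two, or centre of index `12`, `24` or `60`. -/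
theorem dickson_mat2 {K : Type u} [Group K] [Finite K] (X : K →* Matrix (Fin 2) (Fin 2) F)
    (hX : Function.Injective X) (h2 : (2 : F) ≠ 0) (hK : (Nat.card K : F) ≠ 0) :
    (∃ A : Subgroup K, (∀ a ∈ A, ∀ b ∈ A, Commute a b) ∧ A.index ≤ 2) ∨
      (Subgroup.center K).index = 12 ∨ (Subgroup.center K).index = 24 ∨
      (Subgroup.center K).index = 60 := by
  have hns : ∀ x : K, x ∉ Subgroup.center K → ∀ c : F, X x ≠ c • 1 := by
    intro x hx c hc
    apply hx
    rw [Subgroup.mem_center_iff]
    intro g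
    apply hX
    simp [hc]
  have hcomm : ∀ a b : K, Commute (X a) (X b) → Commute a b := fun a b h =>
    hX (by simpa using h.eq)
  refine dickson_ca (fun x hx a b ha hb => hcomm _ _
    (mat2_commute_of_commute (hns x hx) (ha.map X) (hb.map X))) fun x hx g g' hg hg' => ?_
  have hd := mat2_disc_ne_zero (hns x hx) h2 hK (by rw [← map_pow, pow_card_eq_one', map_one])
  have key : ∀ g : K, Commute x (g * x * g⁻¹) →
      X (g * x * g⁻¹) = X x ∨ X (g * x * g⁻¹) = (X x).trace • 1 - X x := by
    intro g hg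
    refine mat2_conj_eq (hns x hx) h2 hd (hg.map X) ?_ ?_
    · rw [map_mul, Matrix.trace_mul_comm, ← map_mul]
      congr 2
      group
    · rw [map_mul, map_mul, Matrix.det_mul, Matrix.det_mul, mul_right_comm, ← Matrix.det_mul,
        ← map_mul]
      simp
  rcases key g hg with h | h
  · exact Or.inl (hX h)
  · rcases key g' hg' with h' | h'
    · exact Or.inr (Or.inl (hX h'))
    · exact Or.inr (Or.inr (hX (h.trans h'.symm)))

end Mat

end Cfsg
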