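import Mathlib

/-! Primitive prime divisors. -/

set_option autoImplicit false

namespace Cfsg

open Polynomial

/-- Zsigmondy's theorem for `q ≥ 3` and `n ≥ 3` -/
theorem exists_primitive_prime_divisor {q n : ℕ} (hq : 3 ≤ q) (hn : 3 ≤ n) :
    ∃ r : ℕ, r.Prime ∧ r ∣ q ^ n - 1 ∧ ∀ i, 0 < i → i < n → ¬ r ∣ q ^ i - 1 := by
  by_contra hcon
  push Not at hcon
  set F : ℤ := (cyclotomic n ℤ).eval (q : ℤ) with hF
  have hcast : ∀ (r i : ℕ), r ∣ q ^ i - 1 ↔ (q : ZMod r) ^ i = 1 := fun r i => by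
    rw [← ZMod.natCast_eq_zero_iff, Nat.cast_sub (Nat.one_le_pow _ _ (by omega)), sub_eq_zero,
      Nat.cast_pow, Nat.cast_one]
  have h1 : ∀ r : ℕ, r.Prime → (r : ℤ) ∣ F →
      ∃ k m, n = r ^ (k + 1) * m ∧ 0 < m ∧ m < r ∧ (q : ZMod r) ^ m = 1 := by
    intro r hr hd
    have : Fact r.Prime := ⟨hr⟩
    obtain ⟨k, m, hm, hkm⟩ := Nat.exists_eq_pow_mul_and_not_dvd (by omega : n ≠ 0) r hr.ne_one
    have : NeZero (m : ZMod r) := ⟨fun h => hm ((ZMod.natCast_eq_zero_iff _ _).1 h)⟩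
    have h2 : IsPrimitiveRoot (q : ZMod r) m := by
      rw [← isRoot_cyclotomic_prime_pow_mul_iff_of_charP (p := r) (k := k), ← hkm, IsRoot.def,
        ← map_cyclotomic_int, ← Int.cast_natCast, eval_intCast_map, Int.cast_id, eq_intCast,
        ZMod.intCast_zmod_eq_zero_iff_dvd]
      exact hd
    have hm0 : 0 < m := Nat.pos_of_ne_zero (by rintro rfl; exact hm (dvd_zero r))
    obtain rfl | ⟨k, rfl⟩ := k.eq_zero_or_eq_succ_pred.imp id fun h => (⟨_, h⟩ : ∃ j, k = j + 1)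
    · rw [pow_zero, one_mul] at hkm
      subst hkm
      obtain ⟨i, hi, hin, h⟩ := hcon r hr ((hcast _ _).2 h2.pow_eq_one)
      exact absurd (Nat.le_of_dvd hi (h2.dvd_of_pow_eq_one i ((hcast _ _).1 h))) (by omega)
    · have h3 : (q : ZMod r) ≠ 0 := h2.ne_zero hm0.ne'
      have h4 := Nat.le_of_dvd (by have := hr.two_le; omega)
        (h2.dvd_of_pow_eq_one _ (ZMod.pow_card_sub_one_eq_one h3))
      exact ⟨k, m, hkm, hm0, by have := hr.two_le; omega, h2.pow_eq_one⟩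
  have h2 := sub_one_pow_totient_lt_natAbs_cyclotomic_eval (n := n) (q := q) (by omega) (by omega)
  rw [← hF] at h2
  have h3 : 2 ^ n.totient < F.natAbs := (Nat.pow_le_pow_left (by omega) _).trans_lt h2
  obtain ⟨r, hr, hd⟩ := Nat.exists_prime_and_dvd (n := F.natAbs)
    (by have := Nat.one_le_two_pow (n := n.totient); omega)
  obtain ⟨k, m, hkm, hm0, hmr, hm⟩ := h1 r hr (Int.natCast_dvd.2 hd)
  have h4 : F.natAbs = r ^ F.natAbs.primeFactorsList.length :=
    Nat.eq_prime_pow_of_unique_prime_dvd (by omega) fun {s} hs hd' => by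
      obtain ⟨k', m', hkm', hm0', hmr', -⟩ := h1 s hs (Int.natCast_dvd.2 hd')
      by_contra hne
      have e1 : s ∣ m := (Nat.Coprime.pow_right _ ((Nat.coprime_primes hs hr).2 hne)).dvd_of_dvd_mul_left
        (by rw [← hkm, hkm', pow_succ', mul_assoc]; exact dvd_mul_right _ _)
      have e2 : r ∣ m' := (Nat.Coprime.pow_right _ ((Nat.coprime_primes hr hs).2
        (Ne.symm hne))).dvd_of_dvd_mul_left
        (by rw [← hkm', hkm, pow_succ', mul_assoc]; exact dvd_mul_right _ _)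
      have := Nat.le_of_dvd hm0 e1
      have := Nat.le_of_dvd hm0' e2
      omega
  have ht : n = r ^ k * m * r := by rw [hkm]; ring
  have ht0 : 0 < r ^ k * m := Nat.mul_pos (pow_pos hr.pos _) hm0
  have h5 : F ∣ ∑ i ∈ Finset.range r, ((q : ℤ) ^ (r ^ k * m)) ^ i := by
    have h6 := map_dvd (evalRingHom (q : ℤ)) (X_pow_sub_one_mul_cyclotomic_dvd_X_pow_sub_one_of_dvd
      ℤ (d := r ^ k * m) (n := n) (Nat.mem_properDivisors.2 ⟨⟨r, ht⟩, by
        rw [ht]; exact lt_mul_of_one_lt_right ht0 hr.one_lt⟩))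
    simp only [coe_evalRingHom, eval_mul, eval_sub, eval_pow, eval_X, eval_one, ← hF] at h6
    rw [ht, pow_mul (q : ℤ) _ r, ← mul_geom_sum _ r] at h6
    refine (mul_dvd_mul_iff_left (sub_ne_zero.2 ?_)).1 h6
    exact (one_lt_pow₀ (by exact_mod_cast (by omega : 1 < q)) ht0.ne').ne'
  have h6 : ¬ r ^ 2 ∣ F.natAbs := by
    intro h
    have h7 : (r : ℤ) ^ 2 ∣ _ := (Int.natCast_dvd.2 h).trans h5
    rcases hr.eq_two_or_odd' with rfl | hodd
    · obtain rfl : m = 1 := by omega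
      obtain ⟨k, rfl⟩ : ∃ j, k = j + 1 := ⟨k - 1, by
        rcases k with _ | k
        · omega
        · rfl⟩
      rw [Finset.sum_range_succ, Finset.sum_range_one, mul_one, pow_zero, pow_one, pow_succ 2 k,
        pow_mul] at h7
      generalize (q : ℤ) ^ 2 ^ k = y at h7
      push_cast at h7
      obtain ⟨z, rfl | rfl⟩ := y.even_or_odd'
      · rw [show 1 + (2 * z) ^ 2 = 4 * z ^ 2 + 1 by ring] at h7
        omega
      · rw [show 1 + (2 * z + 1) ^ 2 = 4 * (z ^ 2 + z) + 2 by ring] at h7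
        omega
    · obtain ⟨b, hb⟩ : (r : ℤ) ∣ (q : ℤ) ^ (r ^ k * m) - 1 := by
        rw [← ZMod.intCast_zmod_eq_zero_iff_dvd]
        push_cast
        rw [mul_comm, pow_mul, hm, one_pow, sub_self]
      have h8 := odd_sq_dvd_geom_sum₂_sub (1 : ℤ) b hodd
      simp only [one_pow, mul_one] at h8
      rw [← hb, add_sub_cancel] at h8
      have h9 := Int.le_of_dvd (by exact_mod_cast hr.pos) ((dvd_sub_right h7).1 h8)
      have : (1 : ℤ) < r := by exact_mod_cast hr.one_lt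
      nlinarith
  have h7 : F.natAbs ≤ r := by
    rw [h4] at h6 ⊢
    generalize F.natAbs.primeFactorsList.length = j at h6 ⊢
    have : j ≤ 1 := by
      by_contra hj
      exact h6 (pow_dvd_pow _ (by omega))
    exact (Nat.pow_le_pow_right hr.pos this).trans_eq (pow_one r)
  have h8 : r - 1 ≤ n.totient := by
    rw [← Nat.totient_prime hr]
    exact Nat.le_of_dvd (Nat.totient_pos.2 (by omega)) (Nat.totient_dvd_of_dvd ⟨_, by rw [ht, mul_comm]⟩)
  have h9 := Nat.pow_le_pow_right two_pos h8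
  have h10 := Nat.lt_two_pow_self (n := r - 1)
  omega

end Cfsg
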