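import Cfsg.Agent.Grp.NormalComplement
import Cfsg.Agent.Grp.PrimeOrd
import Cfsg.Agent.Grp.Misc
import Mathlib.LinearAlgebra.Matrix.GeneralLinearGroup.Card
import Mathlib.Algebra.Module.ZMod

/-! Coprime automorphism groups of small `p`-groups. -/

set_option autoImplicit false

namespace Cfsg

universe u v

section gen
variable {A : Type u} [Group A] {p : ℕ} [hp : Fact p.Prime]

theorem MulAut.apply_eq_of_stab (hA : IsPGroup p A) {σ : MulAut A} {n : ℕ} (hn : ¬ p ∣ n)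
    (h : σ ^ n = 1) {a : A} (h1 : σ (a⁻¹ * σ a) = a⁻¹ * σ a) : σ a = a := by
  have h2 : ∀ m : ℕ, (σ ^ m) a = a * (a⁻¹ * σ a) ^ m := fun m => by
    induction m with
    | zero => simp
    | succ m ih =>
      rw [pow_succ', MulAut.mul_apply, ih, map_mul, map_pow, h1, pow_succ', ← mul_assoc,
        mul_inv_cancel_left]
  have h3 := h2 n
  rw [h, MulAut.one_apply, eq_comm, mul_eq_left] at h3
  obtain ⟨k, hk⟩ := hA (a⁻¹ * σ a)
  have h4 := orderOf_eq_one_iff.1 (Nat.eq_one_of_dvd_coprimes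
    ((hp.out.coprime_iff_not_dvd.2 hn).pow_left k) (orderOf_dvd_of_pow_eq_one hk)
    (orderOf_dvd_of_pow_eq_one h3))
  exact (inv_mul_eq_one.1 h4).symm

/-- an automorphism of coprime order stabilizing a two step chain is trivial -/
theorem MulAut.eq_one_of_stab (hA : IsPGroup p A) {σ : MulAut A} {n : ℕ} (hn : ¬ p ∣ n)
    (h : σ ^ n = 1) (h1 : ∀ a, σ (a⁻¹ * σ a) = a⁻¹ * σ a) : σ = 1 :=
  MulEquiv.ext fun a => MulAut.apply_eq_of_stab hA hn h (h1 a)

theorem pow_card_eq_one_of_mem {K : Type v} [Group K] {E : Subgroup K} {σ : K} (h : σ ∈ E) :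
    σ ^ Nat.card E = 1 := congrArg Subtype.val (pow_card_eq_one' (x := (⟨σ, h⟩ : E)))

/-- a unique subgroup of prime order -/
theorem mem_zpowers_of_unique_sylow {K : Type v} [Group K] [Finite K] {r : ℕ} [hr : Fact r.Prime]
    (h2 : ¬ r ^ 2 ∣ Nat.card K) (h : ∀ d, d ∣ Nat.card K → d % r = 1 → d = 1) {a b : K}
    (ha : orderOf a = r) (hb : orderOf b = r) : b ∈ Subgroup.zpowers a := by
  have hz : ∀ c : K, orderOf c = r → IsPGroup r (Subgroup.zpowers c) := fun c hc =>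
    IsPGroup.of_card (n := 1) (by rw [Nat.card_zpowers, hc, pow_one])
  obtain ⟨T, hT⟩ := (hz a ha).exists_le_sylow
  obtain ⟨T', hT'⟩ := (hz b hb).exists_le_sylow
  have h1 : Nat.card (Sylow r K) = 1 := h _ (T.card_dvd_index.trans T.1.index_dvd_card)
    (Eq.trans (card_sylow_modEq_one r K) (Nat.mod_eq_of_lt hr.out.one_lt))
  obtain rfl : T = T' := (Nat.card_eq_one_iff_unique.1 h1).1.elim _ _
  obtain ⟨k, hk⟩ := T.2.exists_card_eq
  have h3 : k < 2 := by
    by_contra! h3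
    exact h2 ((pow_dvd_pow r h3).trans (hk ▸ T.1.card_subgroup_dvd_card))
  have h4 := Subgroup.eq_of_le_of_card_ge hT (by
    rw [Nat.card_zpowers, ha, hk]
    exact (Nat.pow_le_pow_right hr.out.pos (Nat.lt_succ_iff.1 h3)).trans_eq (pow_one r))
  exact h4 ▸ hT' (Subgroup.mem_zpowers b)

end gen

section comm
variable {A : Type u} [CommGroup A] {p : ℕ} [hp : Fact p.Prime]

theorem MulAut.eq_one_of_omega (hA : IsPGroup p A) {σ : MulAut A} {n : ℕ} (hn : ¬ p ∣ n)
    (h : σ ^ n = 1) (h1 : ∀ a, a ^ p = 1 → σ a = a) : σ = 1 := by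
  have h2 : ∀ (k : ℕ) (a : A), a ^ p ^ k = 1 → σ a = a := fun k => by
    induction k with
    | zero => intro a ha; rw [pow_zero, pow_one] at ha; rw [ha, map_one]
    | succ k ih =>
      intro a ha
      rw [pow_succ', pow_mul] at ha
      refine MulAut.apply_eq_of_stab hA hn h (h1 _ ?_)
      rw [mul_pow, ← map_pow, ih _ ha, inv_pow, inv_mul_cancel]
  exact MulEquiv.ext fun a => (hA a).elim fun k => h2 k a

theorem card_dvd_card_GL_of_injective {V : Type*} [AddCommGroup V] [Finite V] [Module (ZMod p) V]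
    {n : ℕ} (hc : Nat.card V = p ^ n) {K : Type*} [Group K] (f : K →* AddMonoid.End V)
    (hf : Function.Injective f) :
    Nat.card K ∣ ∏ i : Fin n, (p ^ n - p ^ (i : ℕ)) := by
  have h1 : Module.finrank (ZMod p) V = n := by
    have := Module.natCard_eq_pow_finrank (K := ZMod p) (V := V)
    rw [Nat.card_zmod] at this
    exact Nat.pow_right_injective hp.out.two_le (this.symm.trans hc)
  let b := Module.finBasisOfFinrankEq (ZMod p) V h1
  let f' : K →* Module.End (ZMod p) V :=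
    { toFun := fun σ => AddMonoidHom.toZModLinearMap p (f σ)
      map_one' := LinearMap.ext fun x => DFunLike.congr_fun (map_one f) x
      map_mul' := fun a b => LinearMap.ext fun x => DFunLike.congr_fun (map_mul f a b) x }
  let g : K →* GL (Fin n) (ZMod p) :=
    ((LinearMap.toMatrixAlgEquiv b).toMulEquiv.toMonoidHom.comp f').toHomUnits
  have h2 := Subgroup.card_dvd_of_injective g fun σ τ h => hf (AddMonoidHom.ext fun a =>
    LinearMap.congr_fun ((LinearMap.toMatrixAlgEquiv b).injective (congrArg Units.val h)) a)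
  rwa [Matrix.card_GL_field, ZMod.card] at h2

variable [Finite A]

theorem card_mulAut_dvd_of_elem (h : ∀ a : A, a ^ p = 1) {n : ℕ} (hc : Nat.card A = p ^ n) :
    Nat.card (MulAut A) ∣ ∏ i : Fin n, (p ^ n - p ^ (i : ℕ)) := by
  letI : Module (ZMod p) (Additive A) := AddCommGroup.zmodModule fun x => h x.toMul
  exact card_dvd_card_GL_of_injective (V := Additive A) hc
    { toFun := fun σ => MonoidHom.toAdditive σ.toMonoidHom
      map_one' := rfl
      map_mul' := fun _ _ => rfl }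
    fun σ τ h => MulEquiv.ext fun a => DFunLike.congr_fun h (Additive.ofMul a)

theorem card_dvd_of_coprime_aut (hA : IsPGroup p A) {E : Subgroup (MulAut A)}
    (hE : ¬ p ∣ Nat.card E) {n : ℕ} (hc : Nat.card (powMonoidHom p : A →* A).ker = p ^ n) :
    Nat.card E ∣ ∏ i : Fin n, (p ^ n - p ^ (i : ℕ)) := by
  have : (powMonoidHom p : A →* A).ker.Characteristic :=
    Subgroup.characteristic_iff_le_comap.2 fun σ a ha => by
      have : a ^ p = 1 := ha
      change σ a ^ p = 1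
      rw [← map_pow, this, map_one]
  refine (Subgroup.card_dvd_of_injective ((MulAut.characteristic _).comp E.subtype)
    ((injective_iff_map_eq_one _).2 fun σ hσ => Subtype.ext ?_)).trans
    (card_mulAut_dvd_of_elem (fun a => Subtype.ext a.2) hc)
  exact MulAut.eq_one_of_omega hA hE (pow_card_eq_one_of_mem σ.2) fun a ha =>
    congrArg Subtype.val (DFunLike.congr_fun hσ (⟨a, ha⟩ : (powMonoidHom p : A →* A).ker))

theorem exists_card_omega (hA : IsPGroup p A) {m : ℕ}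
    (h : Nat.card (powMonoidHom p : A →* A).ker ≤ p ^ m) :
    ∃ n ≤ m, Nat.card (powMonoidHom p : A →* A).ker = p ^ n := by
  obtain ⟨n, hn⟩ := (hA.to_subgroup (powMonoidHom p : A →* A).ker).exists_card_eq
  exact ⟨n, (Nat.pow_le_pow_iff_right hp.out.one_lt).1 (hn ▸ h), hn⟩

theorem card_aut_two (hA : IsPGroup 2 A) {E : Subgroup (MulAut A)} (hE : ¬ 2 ∣ Nat.card E) :
    (Nat.card (powMonoidHom 2 : A →* A).ker ≤ 4 → Nat.card E ∣ 3) ∧
    (Nat.card (powMonoidHom 2 : A →* A).ker ≤ 8 → Nat.card E ∣ 21) ∧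
    (Nat.card (powMonoidHom 2 : A →* A).ker ≤ 16 → Nat.card E ∣ 315) ∧
    (Nat.card (powMonoidHom 2 : A →* A).ker ≤ 32 → Nat.card E ∣ 9765) := by
  have h1 : (Nat.card E).Coprime (2 ^ 10) :=
    (Nat.prime_two.coprime_iff_not_dvd.2 hE).symm.pow_right _
  refine ⟨fun h => ?_, fun h => ?_, fun h => ?_, fun h => ?_⟩
  · obtain ⟨n, hn, h⟩ := exists_card_omega hA (m := 2) h
    refine h1.dvd_of_dvd_mul_left ((card_dvd_of_coprime_aut hA hE h).trans ?_)
    interval_cases n <;> decide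
  · obtain ⟨n, hn, h⟩ := exists_card_omega hA (m := 3) h
    refine h1.dvd_of_dvd_mul_left ((card_dvd_of_coprime_aut hA hE h).trans ?_)
    interval_cases n <;> decide
  · obtain ⟨n, hn, h⟩ := exists_card_omega hA (m := 4) h
    refine h1.dvd_of_dvd_mul_left ((card_dvd_of_coprime_aut hA hE h).trans ?_)
    interval_cases n <;> decide
  · obtain ⟨n, hn, h⟩ := exists_card_omega hA (m := 5) h
    refine h1.dvd_of_dvd_mul_left ((card_dvd_of_coprime_aut hA hE h).trans ?_)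
    interval_cases n <;> decide

theorem pow_eq_one_of_card_omega {n : ℕ} (hc : Nat.card A ≤ p ^ (n + 1)) (hA : IsPGroup p A)
    (h : ¬ Nat.card (powMonoidHom p : A →* A).ker ≤ p ^ n) :
    Nat.card A = p ^ (n + 1) ∧ ∀ a : A, a ^ p = 1 := by
  have h1 := (powMonoidHom p : A →* A).ker.card_le_card_group
  obtain ⟨m, hm, h2⟩ := exists_card_omega hA (h1.trans hc)
  obtain rfl : m = n + 1 := le_antisymm hm (by
    by_contra! h3
    exact h (h2 ▸ Nat.pow_le_pow_right hp.out.pos (Nat.lt_succ_iff.1 h3)))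
  have h3 := Subgroup.eq_top_of_le_card _ (hc.trans h2.ge)
  exact ⟨le_antisymm hc (h2 ▸ h1), fun a => (h3 ▸ Subgroup.mem_top a : a ∈ (powMonoidHom p : A →* A).ker)⟩

omit [CommGroup A] in
theorem card_modEq_card_fixed [Group A] {σ : MulAut A} {r k : ℕ} [Fact r.Prime]
    (h : σ ^ r ^ k = 1) :
    Nat.card A ≡ Nat.card (σ.toMonoidHom.eqLocus (MonoidHom.id A)) [MOD r] := by
  have hK : IsPGroup r (Subgroup.zpowers σ) := by
    obtain ⟨j, -, hj⟩ := (Nat.dvd_prime_pow Fact.out).1 (orderOf_dvd_of_pow_eq_one h)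
    exact IsPGroup.of_card ((Nat.card_zpowers σ).trans hj)
  convert hK.card_modEq_card_fixedPoints A using 2
  congr 1
  ext a
  rw [MulAction.mem_fixedPoints]
  refine ⟨fun h τ => ?_, fun h => h ⟨σ, Subgroup.mem_zpowers σ⟩⟩
  exact (Subgroup.zpowers_le.2 h : _ ≤ MulAction.stabilizer (MulAut A) a) τ.2

/-- odd automorphism groups of abelian groups of order at most sixteen -/
theorem aut_sixteen (hA : IsPGroup 2 A) (hc : Nat.card A ≤ 16) {E : Subgroup (MulAut A)}
    (hE : ¬ 2 ∣ Nat.card E) (h7 : ¬ 7 ∣ Nat.card E) : Nat.card E ≤ 3 ∨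
      (Nat.card A = 16 ∧ (∀ a : A, a ^ 2 = 1) ∧
        (Nat.card E = 9 ∨ ∀ σ ∈ E, ∀ a, a ≠ 1 → σ a = a → σ = 1)) := by
  obtain ⟨-, h1, h2, -⟩ := card_aut_two hA hE
  have h3 : (Nat.card E).Coprime 7 := ((by norm_num : Nat.Prime 7).coprime_iff_not_dvd.2 h7).symm
  by_cases h : Nat.card (powMonoidHom 2 : A →* A).ker ≤ 2 ^ 3
  · exact Or.inl (Nat.le_of_dvd three_pos (h3.dvd_of_dvd_mul_right (h1 h)))
  obtain ⟨h4, h5⟩ := pow_eq_one_of_card_omega hc hA h
  have h6 : Nat.card E ∣ 45 :=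
    h3.dvd_of_dvd_mul_right (h2 ((Subgroup.card_le_card_group _).trans hc))
  by_cases h8 : 5 ∣ Nat.card E
  swap
  · have h9 : Nat.card E ∣ 3 ^ 2 :=
      (Nat.prime_five.coprime_iff_not_dvd.2 h8).symm.dvd_of_dvd_mul_right h6
    obtain ⟨i, hi, h9⟩ := (Nat.dvd_prime_pow Nat.prime_three).1 h9
    rw [h9]
    interval_cases i
    exacts [Or.inl (by norm_num), Or.inl (by norm_num), Or.inr ⟨h4, h5, Or.inl rfl⟩]
  refine Or.inr ⟨h4, h5, Or.inr fun σ hσ a ha h9 => ?_⟩
  have : Fact (Nat.Prime 5) := ⟨Nat.prime_five⟩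
  obtain ⟨g, hg⟩ := exists_prime_orderOf_dvd_card' 5 h8
  have hcomm : σ * g = g * σ := by
    have h10 : (⟨σ, hσ⟩ : E) ∈ Subgroup.normalizer (Subgroup.zpowers g : Set E) :=
      Subgroup.mem_normalizer_fintype fun x hx => by
        have := mem_zpowers_of_unique_sylow (fun h => absurd (h.trans h6) (by norm_num))
          (fun d hd h => by
            have h1 := hd.trans h6
            have := Nat.le_of_dvd (by norm_num) h1
            interval_cases d <;> omega) hg (b := MulAut.conj (⟨σ, hσ⟩ : E) g)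
          (by rw [MulEquiv.orderOf_eq, hg])
        obtain ⟨j, rfl⟩ := hx
        have h2 := Subgroup.zpow_mem _ this j
        rwa [← map_zpow] at h2
    have h11 := orderOf_dvd_natCard ((Subgroup.zpowers g).normalizerMonoidHom ⟨_, h10⟩)
    rw [IsCyclic.card_mulAut, Nat.card_zpowers, hg] at h11
    have h12 := (orderOf_map_dvd (Subgroup.zpowers g).normalizerMonoidHom ⟨_, h10⟩).trans
      ((orderOf_dvd_natCard _).trans ((Subgroup.card_subgroup_dvd_card _).trans h6))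
    have h13 := orderOf_eq_one_iff.1 (Nat.eq_one_of_dvd_coprimes (by decide) h11 h12)
    have h14 := DFunLike.congr_fun h13 ⟨g, Subgroup.mem_zpowers g⟩
    exact mul_inv_eq_iff_eq_mul.1 (congrArg (fun x => x.1.1) h14)
  set C := σ.toMonoidHom.eqLocus (MonoidHom.id A)
  have hg5 : (g : MulAut A) ^ 5 = 1 := by
    rw [← hg]; exact congrArg Subtype.val (pow_orderOf_eq_one g)
  have hfix : ∀ x, g.1 x = x → x = 1 := fun x hx => by
    have h10 := card_modEq_card_fixed (r := 5) (k := 1) hg5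
    set F := g.1.toMonoidHom.eqLocus (MonoidHom.id A)
    obtain ⟨i, hi, h11⟩ := (Nat.dvd_prime_pow Nat.prime_two).1 (h4 ▸ F.card_subgroup_dvd_card)
    rw [h4, h11] at h10
    have h12 : i = 0 ∨ i = 4 := by interval_cases i <;> simp_all [Nat.ModEq]
    rcases h12 with rfl | rfl
    · exact Subgroup.mem_bot.1 (Subgroup.card_eq_one.1 h11 ▸ hx : x ∈ ⊥)
    · have h13 := Subgroup.eq_top_of_card_eq _ (h11.trans h4.symm)
      have : g = 1 := Subtype.ext (MulEquiv.ext fun y => (h13 ▸ Subgroup.mem_top y : y ∈ F))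
      rw [this, orderOf_one] at hg
      omega
  have hmem : ∀ x ∈ C, ∀ i : ℕ, (g.1 ^ i) x ∈ C := fun x hx i => by
    change σ _ = (g.1 ^ i) x
    rw [← MulAut.mul_apply, (Commute.pow_right hcomm i).eq, MulAut.mul_apply]
    exact congrArg _ hx
  let γ : MulAut C :=
    { toFun := fun x => ⟨g.1 x, hmem x x.2 1⟩
      invFun := fun x => ⟨(g.1 ^ 4) x, hmem x x.2 4⟩
      left_inv := fun x => Subtype.ext (by
        change (g.1 ^ 4 * g.1) x = x
        rw [← pow_succ, hg5]; rfl)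
      right_inv := fun x => Subtype.ext (by
        change (g.1 * g.1 ^ 4) x = x
        rw [← pow_succ', hg5]; rfl)
      map_mul' := fun x y => Subtype.ext (map_mul g.1 _ _) }
  have h10 := card_modEq_card_fixed (σ := γ) (r := 5) (k := 1)
    (MulEquiv.ext fun x => Subtype.ext (DFunLike.congr_fun hg5 x.1))
  rw [(Subgroup.eq_bot_iff_forall (γ.toMonoidHom.eqLocus (MonoidHom.id C))).2 fun x hx =>
    Subtype.ext (hfix _ (congrArg Subtype.val hx)), Subgroup.card_bot] at h10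
  obtain ⟨i, hi, h11⟩ := (Nat.dvd_prime_pow Nat.prime_two).1 (h4 ▸ C.card_subgroup_dvd_card)
  rw [h11] at h10
  have h12 : i = 0 ∨ i = 4 := by interval_cases i <;> simp_all [Nat.ModEq]
  rcases h12 with rfl | rfl
  · exact absurd (Subgroup.mem_bot.1 (Subgroup.card_eq_one.1 h11 ▸ h9 : a ∈ ⊥)) ha
  · have h13 := Subgroup.eq_top_of_card_eq _ (h11.trans h4.symm)
    exact MulEquiv.ext fun y => (h13 ▸ Subgroup.mem_top y : y ∈ C)

theorem orderOf_le_or (hA : IsPGroup p A) (z a : A) :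
    orderOf z ≤ orderOf a ∨ orderOf z ≤ orderOf (z * a) := by
  by_contra! h
  obtain ⟨i, hi⟩ := IsPGroup.iff_orderOf.1 hA z
  obtain ⟨j, hj⟩ := IsPGroup.iff_orderOf.1 hA a
  obtain ⟨k, hk⟩ := IsPGroup.iff_orderOf.1 hA (z * a)
  rw [hi, hj, hk, Nat.pow_lt_pow_iff_right hp.out.one_lt, Nat.pow_lt_pow_iff_right hp.out.one_lt]
    at h
  have h1 : a ^ p ^ max j k = 1 :=
    orderOf_dvd_iff_pow_eq_one.1 (hj ▸ pow_dvd_pow p (le_max_left j k))
  have h2 : (z * a) ^ p ^ max j k = 1 :=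
    orderOf_dvd_iff_pow_eq_one.1 (hk ▸ pow_dvd_pow p (le_max_right j k))
  rw [mul_pow, h1, mul_one, ← orderOf_dvd_iff_pow_eq_one, hi,
    Nat.pow_dvd_pow_iff_le_right hp.out.one_lt] at h2
  omega

omit hp in
theorem card_omega_le (z : A) (n : ℕ) :
    Nat.card (powMonoidHom n : A →* A).ker ≤ n.gcd (orderOf z) * (Subgroup.zpowers z).index := by
  rw [← card_inf_mul_relIndex (Subgroup.zpowers z), ← Subgroup.relIndex_top_right]
  refine Nat.mul_le_mul (le_of_eq ?_) (Subgroup.relIndex_le_of_le_right le_top ?_)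
  · rw [inf_comm, ← card_subgroupOf, Nat.gcd_comm, ← Nat.card_zpowers,
      ← IsCyclic.card_powMonoidHom_ker]
    congr 2
    ext x
    simp [Subgroup.mem_subgroupOf, Subtype.ext_iff]
  · rw [Subgroup.relIndex_top_right]; exact Subgroup.index_ne_zero_of_finite

theorem exists_not_seven (hA : IsPGroup 2 A) {z : A} (hz : (Subgroup.zpowers z).index ≤ 16)
    {E : Subgroup (MulAut A)} (hE : ¬ 2 ∣ Nat.card E) : ∃ v : A, orderOf z ≤ orderOf v ∧
      ¬ 7 ∣ Nat.card (E ⊓ MulAction.stabilizer (MulAut A) v : Subgroup (MulAut A)) := by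
  have : Fact (Nat.Prime 5) := ⟨Nat.prime_five⟩
  have : Fact (Nat.Prime 7) := ⟨by norm_num⟩
  have h1 := (card_aut_two hA hE).2.2.2 ((card_omega_le z 2).trans
    (Nat.mul_le_mul (Nat.gcd_le_left _ two_pos) hz))
  have h2 : HasNormalPComplement 5 E := by
    obtain ⟨T⟩ : Nonempty (Sylow 5 E) := inferInstance
    obtain ⟨k, hk⟩ := T.2.exists_card_eq
    have h3 : 5 ^ k ∣ 5 * 1953 := (hk ▸ T.1.card_subgroup_dvd_card).trans h1
    refine hasNormalPComplement_of_isCyclic_of_coprime T (isCyclic_of_card_dvd_prime (p := 5) ?_)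
      ((Nat.prime_two.coprime_iff_not_dvd.2 hE).symm.pow_right 2)
    exact hk ▸ (Nat.Coprime.pow_left k (by norm_num)).dvd_of_dvd_mul_right h3
  have h3 : Nat.card (pPrimeCore 5 E) ∣ 1953 :=
    (coprime_card_pPrimeCore 5).dvd_of_dvd_mul_left
      ((Subgroup.card_subgroup_dvd_card _).trans h1)
  have h4 : ∀ σ ∈ E, ∀ τ ∈ E, orderOf σ = 7 → orderOf τ = 7 → τ ∈ Subgroup.zpowers σ := by
    intro σ hσ τ hτ h4 h5
    have h6 : ∀ ρ (hρ : ρ ∈ E), orderOf ρ = 7 → (⟨ρ, hρ⟩ : E) ∈ pPrimeCore 5 E := fun ρ hρ h =>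
      hasNormalPComplement_iff_forall_mem_pPrimeCore.1 h2 _ (by
        rw [← Subgroup.orderOf_coe, h]; norm_num)
    obtain ⟨j, hj⟩ := mem_zpowers_of_unique_sylow (r := 7)
      (fun h => absurd (h.trans h3) (by norm_num)) (fun d hd h => (by decide +kernel :
        ∀ d < 1954, d ∣ 1953 → d % 7 = 1 → d = 1) d
          (Nat.lt_succ_of_le (Nat.le_of_dvd (by norm_num) (hd.trans h3))) (hd.trans h3) h)
      (a := ⟨_, h6 σ hσ h4⟩) (b := ⟨_, h6 τ hτ h5⟩)
      (by rw [← Subgroup.orderOf_coe, ← Subgroup.orderOf_coe, h4])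
      (by rw [← Subgroup.orderOf_coe, ← Subgroup.orderOf_coe, h5])
    exact ⟨j, congrArg (fun x => x.1.1) hj⟩
  by_contra! h
  obtain ⟨σ, hσ, h5⟩ := exists_orderOf_eq_prime_of_dvd_card (h z le_rfl)
  have h6 : ∀ v, orderOf z ≤ orderOf v → σ v = v := fun v hv => by
    obtain ⟨τ, hτ, h6⟩ := exists_orderOf_eq_prime_of_dvd_card (h v hv)
    exact (Subgroup.zpowers_le.2 hτ.2 : _ ≤ MulAction.stabilizer (MulAut A) v)
      (h4 τ hτ.1 σ hσ.1 h6 h5)
  have h7 : σ = 1 := MulEquiv.ext fun a => (orderOf_le_or hA z a).elim (h6 a) fun h7 => by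
    have := h6 _ h7
    rwa [map_mul, h6 z le_rfl, mul_right_inj] at this
  rw [h7, orderOf_one] at h5
  omega

theorem exists_inv_aut_of_nine (hc : Nat.card A = 9) (h3 : ∀ a : A, a ^ 3 = 1)
    {F : Subgroup (MulAut A)} (hF : ¬ 3 ∣ Nat.card F) (h2 : 2 < Nat.card F) :
    ∃ τ ∈ F, ∀ a, τ a = a⁻¹ := by
  classical
  have : Fact (Nat.Prime 3) := ⟨Nat.prime_three⟩
  have h1 : Nat.card F ∣ 2 ^ 4 := (Nat.prime_three.coprime_iff_not_dvd.2 hF).symm.dvd_of_dvd_mul_left
    ((F.card_subgroup_dvd_card.trans (card_mulAut_dvd_of_elem h3 (n := 2) hc)).trans (by decide))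
  obtain ⟨i, -, hi⟩ := (Nat.dvd_prime_pow Nat.prime_two).1 h1
  have hp := IsPGroup.of_card hi
  have : Nontrivial F := Finite.one_lt_card_iff_nontrivial.1 (by omega)
  have := hp.center_nontrivial
  obtain ⟨c, hc1, hc2⟩ := exists_orderOf_eq_prime_of_dvd_card (dvd_card_of_isPGroup_of_ne_bot
    (hp.to_subgroup (Subgroup.center F)) ((Subgroup.nontrivial_iff_ne_bot _).1 this))
  have hcc : ∀ a, c.1 (c.1 a) = a := fun a => by
    have := congrArg Subtype.val (pow_orderOf_eq_one c)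
    rw [hc2, Subgroup.coe_pow, sq] at this
    exact DFunLike.congr_fun this a
  have hcomm : ∀ τ ∈ F, ∀ a, τ (c.1 a) = c.1 (τ a) := fun τ hτ a =>
    DFunLike.congr_fun (congrArg Subtype.val (Subgroup.mem_center_iff.1 hc1 ⟨τ, hτ⟩)) a
  have hinv : ∀ a : A, a = a⁻¹ → a = 1 := fun a h => by
    rw [← h3 a, pow_succ, sq, mul_eq_one_iff_eq_inv.2 h, one_mul]
  by_contra! h
  obtain ⟨q, hq⟩ := h c c.2
  obtain ⟨q', hq'⟩ : ∃ q', c.1 q' ≠ q' := by
    by_contra! h'
    rw [show c = 1 from Subtype.ext (MulEquiv.ext h'), orderOf_one] at hc2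
    omega
  let X := c.1.toMonoidHom.eqLocus (MonoidHom.id A)
  let Y := c.1.toMonoidHom.eqLocus invMonoidHom
  have key : ∀ (U : Subgroup A) (u : A), u ∈ U → u ≠ 1 → U ≠ ⊤ → Nat.card U = 3 ∧
      ∀ w ∈ U, w ≠ 1 → w = u ∨ w = u⁻¹ := fun U u hu hu1 hU => by
    have h4 : Nat.card U = 3 := by
      obtain ⟨j, hj, h4⟩ := (Nat.dvd_prime_pow Nat.prime_three).1
        (show Nat.card U ∣ 3 ^ 2 from U.card_subgroup_dvd_card.trans hc.dvd)
      interval_cases j
      · exact absurd (Subgroup.mem_bot.1 (Subgroup.card_eq_one.1 h4 ▸ hu : u ∈ ⊥)) hu1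
      · exact h4
      · exact absurd (Subgroup.eq_top_of_card_eq _ (h4.trans hc.symm)) hU
    refine ⟨h4, fun w hw hw1 => ?_⟩
    rw [eq_zpowers_of_card_prime h4 hu hu1, mem_zpowers_iff_mem_range_orderOf,
      orderOf_eq_prime (h3 u) hu1, Finset.mem_image] at hw
    obtain ⟨j, hj, rfl⟩ := hw
    rw [Finset.mem_range] at hj
    interval_cases j
    · exact absurd (pow_zero u) hw1
    · exact Or.inl (pow_one u)
    · exact Or.inr (eq_inv_of_mul_eq_one_left ((pow_succ u 2).symm.trans (h3 u)))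
  have hx : q * c.1 q ∈ X := by
    change c.1 _ = q * c.1 q
    rw [map_mul, hcc, mul_comm]
  have hx1 : q * c.1 q ≠ 1 := fun h => hq (eq_inv_of_mul_eq_one_right h)
  have hy : q'⁻¹ * c.1 q' ∈ Y := by
    change c.1 _ = (q'⁻¹ * c.1 q')⁻¹
    rw [map_mul, map_inv, hcc, mul_inv_rev, inv_inv]
  have hy1 : q'⁻¹ * c.1 q' ≠ 1 := fun h => hq' (inv_mul_eq_one.1 h).symm
  obtain ⟨hX, hX'⟩ := key X _ hx hx1 fun h => hq' (h ▸ Subgroup.mem_top q' : q' ∈ X)
  obtain ⟨hY, hY'⟩ := key Y _ hy hy1 fun h => hq (h ▸ Subgroup.mem_top q : q ∈ Y)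
  generalize q * c.1 q = x at *
  generalize q'⁻¹ * c.1 q' = y at *
  have hXY : X.IsComplement' Y := Subgroup.isComplement'_of_card_mul_and_disjoint
    (by rw [hX, hY, hc]) (Subgroup.disjoint_def.2 fun ha hb => hinv _ (Eq.trans (Eq.symm ha) hb))
  have hext : ∀ f g : A →* A, f x = g x → f y = g y → ∀ a, f a = g a := fun f g h4 h5 a => by
    have : f.eqLocus g = ⊤ := by
      rw [eq_top_iff, ← hXY.sup_eq_top, eq_zpowers_of_card_prime hX hx hx1,
        eq_zpowers_of_card_prime hY hy hy1]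
      exact sup_le (Subgroup.zpowers_le.2 h4) (Subgroup.zpowers_le.2 h5)
    exact (this ▸ Subgroup.mem_top a : a ∈ f.eqLocus g)
  obtain ⟨τ, hτ1, hτ2⟩ : ∃ τ : F, τ ≠ 1 ∧ τ ≠ c := by
    by_contra! h'
    have := Nat.card_le_card_of_surjective (fun b : Bool => if b then 1 else c) fun τ => by
      by_cases h'' : τ = 1
      exacts [⟨true, h''.symm⟩, ⟨false, (h' τ h'').symm⟩]
    rw [Nat.card_eq_fintype_card (α := Bool), Fintype.card_bool] at this
    omega
  have h4 := hX' (τ.1 x) (by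
    change c.1 _ = τ.1 x
    rw [← hcomm _ τ.2]; exact congrArg _ hx) (by simpa using hx1)
  have h5 := hY' (τ.1 y) (by
    change c.1 _ = (τ.1 y)⁻¹
    rw [← hcomm _ τ.2, ← map_inv]; exact congrArg _ hy) (by simpa using hy1)
  have hx' : c.1 x = x := hx
  have hy' : c.1 y = y⁻¹ := hy
  rcases h4 with h4 | h4 <;> rcases h5 with h5 | h5
  · exact hτ1 (Subtype.ext (MulEquiv.ext (hext τ.1.toMonoidHom (MonoidHom.id A) h4 h5)))
  · exact hτ2 (Subtype.ext (MulEquiv.ext (hext τ.1.toMonoidHom c.1.toMonoidHom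
      (h4.trans hx'.symm) (h5.trans hy'.symm))))
  · obtain ⟨a, ha⟩ := h _ (τ * c).2
    refine ha (hext (τ * c).1.toMonoidHom invMonoidHom ?_ ?_ a)
    · change τ.1 (c.1 x) = x⁻¹
      rw [hx', h4]
    · change τ.1 (c.1 y) = y⁻¹
      rw [hy', map_inv, h5]
  · obtain ⟨a, ha⟩ := h _ τ.2
    exact ha (hext τ.1.toMonoidHom invMonoidHom h4 h5 a)

end comm

end Cfsg
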