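import Cfsg.Agent.Grp.Coprime
import Cfsg.Agent.CT.Basic

/-! Landau's theorem (the order is bounded by the class number) and Brauer–Fowler bounds. -/

set_option autoImplicit false
set_option linter.style.haveILetI false

namespace Cfsg

universe u

/-- only finitely many `k`-tuples of unit fractions have a given sum -/
theorem landau_unit_fractions (k : ℕ) : ∀ q : ℚ, ∃ N : ℕ, ∀ s : Multiset ℕ, s.card = k →
    (∀ n ∈ s, 0 < n) → (s.map fun n : ℕ => (1 : ℚ) / n).sum = q → ∀ n ∈ s, n ≤ N := by
  induction k with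
  | zero =>
    refine fun q => ⟨0, fun s hs _ _ n hn => ?_⟩
    rw [Multiset.card_eq_zero.1 hs] at hn
    simp at hn
  | succ k ih =>
    intro q
    choose f hf using ih
    refine ⟨(Finset.range (⌊((k + 1 : ℕ) : ℚ) / q⌋₊ + 1)).sup fun m => max m (f (q - 1 / m)),
      fun s hs hpos hsum n hn => ?_⟩
    obtain ⟨m, hm, hmin⟩ := s.toFinset.exists_min_image id ⟨n, Multiset.mem_toFinset.2 hn⟩
    rw [Multiset.mem_toFinset] at hm
    have hm0 : (0 : ℚ) < m := Nat.cast_pos.2 (hpos m hm)
    have h1 : q ≤ ((k + 1 : ℕ) : ℚ) / m := by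
      rw [← hsum, ← hs]
      refine (Multiset.sum_le_card_nsmul _ ((1 : ℚ) / m) ?_).trans ?_
      · intro x hx
        obtain ⟨y, hy, rfl⟩ := Multiset.mem_map.1 hx
        exact one_div_le_one_div_of_le hm0 (Nat.cast_le.2 (hmin y (Multiset.mem_toFinset.2 hy)))
      · rw [Multiset.card_map, nsmul_eq_mul, mul_one_div]
    obtain ⟨t, rfl⟩ := Multiset.exists_cons_of_mem hm
    rw [Multiset.map_cons, Multiset.sum_cons] at hsum
    have hq : 0 < q := by
      rw [← hsum]
      refine add_pos_of_pos_of_nonneg (by positivity) (Multiset.sum_nonneg fun x hx => ?_)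
      obtain ⟨y, -, rfl⟩ := Multiset.mem_map.1 hx
      positivity
    have h2 : m ∈ Finset.range (⌊((k + 1 : ℕ) : ℚ) / q⌋₊ + 1) := by
      rw [Finset.mem_range, Nat.lt_succ_iff]
      refine Nat.le_floor ?_
      rw [le_div_iff₀ hq, mul_comm, ← le_div_iff₀ hm0]
      exact h1
    refine le_trans ?_ (Finset.le_sup (f := fun m => max m (f (q - 1 / m))) h2)
    rcases Multiset.mem_cons.1 hn with rfl | hn
    · exact le_max_left _ _
    · refine le_max_of_le_right (hf _ t (by simpa using hs)
        (fun x hx => hpos x (Multiset.mem_cons_of_mem hx)) ?_ n hn)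
      rw [← hsum]; ring

/-- Landau: the order of a finite group is bounded in terms of its class number -/
theorem exists_card_le_of_card_conjClasses_le (k : ℕ) : ∃ N : ℕ, ∀ (G : Type u) [Group G]
    [Finite G], Nat.card (ConjClasses G) ≤ k → Nat.card G ≤ N := by
  classical
  choose f hf using fun k => landau_unit_fractions k 1
  refine ⟨(Finset.range (k + 1)).sup f, fun G _ _ hG => ?_⟩
  haveI := Fintype.ofFinite G
  haveI := Fintype.ofFinite (ConjClasses G)
  refine le_trans ?_ (Finset.le_sup (f := f) (Finset.mem_range.2 (Nat.lt_succ_of_le hG)))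
  have hc : ∀ K : ConjClasses G, K.carrier.ncard =
      (Subgroup.centralizer ({Quotient.out K} : Set G)).index := fun K => by
    rw [← card_isConj_eq_index_centralizer, ← Nat.card_coe_set_eq]
    refine Nat.card_congr (Equiv.subtypeEquivRight fun x => ?_)
    rw [ConjClasses.mem_carrier_iff_mk_eq, isConj_comm, ← ConjClasses.mk_eq_mk_iff_isConj]
    exact Eq.congr_right (Quotient.out_eq K).symm
  refine hf _ (Finset.univ.val.map fun K : ConjClasses G =>
    Nat.card (Subgroup.centralizer ({Quotient.out K} : Set G))) (by simp) ?_ ?_ _ ?_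
  · intro n hn
    obtain ⟨K, -, rfl⟩ := Multiset.mem_map.1 hn
    exact Nat.card_pos
  · rw [Multiset.map_map]
    have h1 := Group.sum_card_conj_classes_eq_card (G := G)
    rw [finsum_eq_sum_of_fintype] at h1
    have h0 : (Nat.card G : ℚ) ≠ 0 := Nat.cast_ne_zero.2 Nat.card_pos.ne'
    have h2 : ∑ K : ConjClasses G, ((K.carrier.ncard : ℚ) / Nat.card G) = 1 := by
      rw [← Finset.sum_div, ← Nat.cast_sum, h1, div_self h0]
    refine Eq.trans ?_ h2
    refine congrArg _ (Multiset.map_congr rfl fun K _ => ?_)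
    rw [hc, ← Subgroup.card_mul_index (Subgroup.centralizer ({Quotient.out K} : Set G)),
      Nat.cast_mul, div_mul_cancel_right₀ (Nat.cast_ne_zero.2 Subgroup.index_ne_zero_of_finite),
      Function.comp_apply, one_div]
  · refine Multiset.mem_map.2 ⟨ConjClasses.mk 1, Finset.mem_univ _, ?_⟩
    have : Quotient.out (ConjClasses.mk (1 : G)) = 1 :=
      isConj_one_left.1 (ConjClasses.mk_eq_mk_iff_isConj.1 (Quotient.out_eq _))
    rw [this, Subgroup.centralizer_eq_top_iff_subset.2 (by simp), Subgroup.card_top]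

variable {G : Type u} [Group G] [Finite G]

theorem card_filter_conj_eq_le [Fintype G] [DecidableEq G] (x y : G) :
    (Finset.univ.filter fun k : G => k * x * k⁻¹ = y).card ≤
      Nat.card (Subgroup.centralizer ({x} : Set G)) := by
  classical
  rcases (Finset.univ.filter fun k : G => k * x * k⁻¹ = y).eq_empty_or_nonempty with h | ⟨u, hu⟩
  · rw [h]; exact Nat.zero_le _
  rw [← Fintype.card_coe, Fintype.card_eq_nat_card]
  refine Nat.card_le_card_of_injective (fun k => ⟨u⁻¹ * k.1, ?_⟩) fun a b h => Subtype.ext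
    (mul_left_cancel (Subtype.ext_iff.1 h))
  have h1 := (Finset.mem_filter.1 hu).2
  have h2 := (Finset.mem_filter.1 k.2).2
  refine Subgroup.mem_centralizer_singleton_iff.2 ?_
  calc u⁻¹ * k.1 * x = u⁻¹ * (k.1 * x * k.1⁻¹) * k.1 := by group
    _ = x * (u⁻¹ * k.1) := by rw [h2.trans h1.symm]; group

/-- Brauer–Fowler: some non-trivial class is small -/
theorem exists_index_centralizer_le_of_involution {s : G} (hs : orderOf s = 2) {c : ℕ}
    (hc : Nat.card (Subgroup.centralizer ({s} : Set G)) ≤ c) :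
    ∃ x : G, x ≠ 1 ∧ (Subgroup.centralizer ({x} : Set G)).index ≤ c * (c + 1) := by
  classical
  haveI := Fintype.ofFinite G
  have hs1 : s ≠ 1 := fun h => by rw [h, orderOf_one] at hs; exact absurd hs (by norm_num)
  obtain ⟨x, hx, hmax⟩ := (Finset.univ.filter fun x : G => x ≠ 1).exists_max_image
    (fun x => Nat.card (Subgroup.centralizer ({x} : Set G))) ⟨s, by simpa using hs1⟩
  refine ⟨x, (Finset.mem_filter.1 hx).2, ?_⟩
  set d := Nat.card (Subgroup.centralizer ({x} : Set G)) with hd
  set K := Finset.univ.filter (IsConj s) with hK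
  have hm : K.card = (Subgroup.centralizer ({s} : Set G)).index := by
    rw [← card_isConj_eq_index_centralizer, Nat.card_eq_fintype_card, Fintype.card_subtype]
  have hsq : ∀ u ∈ K, u * u = 1 := fun u hu => by
    obtain ⟨g, rfl⟩ := isConj_iff.1 (Finset.mem_filter.1 hu).2
    rw [← sq, conj_pow, ← hs, pow_orderOf_eq_one, mul_one, mul_inv_cancel]
  have h1 : K.card * K.card ≤ K.card + Nat.card G * d := by
    rw [← Finset.card_product, Finset.card_eq_sum_card_fiberwise
      (f := fun p : G × G => p.1 * p.2) (t := Finset.univ) (by simp),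
      ← Finset.add_sum_erase _ _ (Finset.mem_univ 1)]
    refine add_le_add ?_ ?_
    · refine Finset.card_le_card_of_injOn Prod.fst (fun p hp => ?_) fun p hp q hq h => ?_
      · exact (Finset.mem_product.1 (Finset.mem_filter.1 hp).1).1
      · have h1 := (Finset.mem_filter.1 hp).2
        have h2 := (Finset.mem_filter.1 hq).2
        exact Prod.ext h (mul_left_cancel (a := p.1) (by rw [h1, h, h2]))
    · refine (Finset.sum_le_card_nsmul _ _ d fun y hy => ?_).trans ?_
      · refine le_trans ?_ ((card_filter_conj_eq_le y y⁻¹).trans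
          (hmax y (by simpa using hy)))
        refine Finset.card_le_card_of_injOn Prod.fst (fun p hp => ?_) fun p hp q hq h => ?_
        · obtain ⟨h1, h2⟩ := Finset.mem_filter.1 hp
          obtain ⟨h3, h4⟩ := Finset.mem_product.1 h1
          refine Finset.mem_filter.2 ⟨Finset.mem_univ _, ?_⟩
          rw [← h2, ← mul_assoc, hsq _ h3, one_mul, mul_inv_rev,
            inv_eq_of_mul_eq_one_right (hsq _ h4)]
        · have h1 := (Finset.mem_filter.1 hp).2
          have h2 := (Finset.mem_filter.1 hq).2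
          exact Prod.ext h (mul_left_cancel (a := p.1) (by rw [h1, h, h2]))
      · rw [smul_eq_mul, Nat.card_eq_fintype_card]
        exact Nat.mul_le_mul_right _ (Finset.card_le_univ _)
  have h2 : Nat.card G ≤ c * K.card := by
    rw [hm, ← Subgroup.card_mul_index (Subgroup.centralizer ({s} : Set G))]
    exact Nat.mul_le_mul_right _ hc
  have hK0 : 0 < K.card := Finset.card_pos.2 ⟨s, Finset.mem_filter.2 ⟨Finset.mem_univ _, IsConj.refl s⟩⟩
  have hd0 : 0 < d := Nat.card_pos
  have h3 : K.card ≤ 1 + c * d := by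
    refine Nat.le_of_mul_le_mul_left ?_ hK0
    nlinarith [Nat.mul_le_mul_right d h2]
  refine Nat.le_of_mul_le_mul_left ?_ hd0
  rw [hd, Subgroup.card_mul_index, ← hd]
  nlinarith [Nat.mul_le_mul_left c h3]

/-- a four-group acting on a normal subgroup of odd order -/
theorem card_le_of_four_group {K : Subgroup G} [hK : K.Normal] (hodd : (Nat.card K).Coprime 2)
    {a b : G} (ha : a * a = 1) (hb : b * b = 1) (hab : a * b = b * a) :
    Nat.card K ≤ Nat.card (Subgroup.centralizer ({a} : Set G)) *
      (Nat.card (Subgroup.centralizer ({a * b} : Set G)) *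
        Nat.card (Subgroup.centralizer ({b} : Set G))) := by
  classical
  haveI := Fintype.ofFinite G
  have hsub : ∀ H : Subgroup G, Nat.card H = (Finset.univ.filter (· ∈ H)).card := fun H => by
    rw [Nat.card_eq_fintype_card, Fintype.card_subtype]
  have hcop : ∀ y : G, y * y = 1 → (Nat.card K).Coprime (orderOf y) := fun y hy =>
    hodd.coprime_dvd_right (orderOf_dvd_of_pow_eq_one (by rw [sq, hy]))
  have hcover : Finset.univ.filter (· ∈ K) ⊆
      (Finset.univ.filter fun z => z ∈ Subgroup.centralizer ({a} : Set G) ∧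
        IsConj (a * b) z).biUnion fun z =>
        (Finset.univ.filter (· ∈ Subgroup.centralizer ({z} : Set G))).biUnion fun y =>
          Finset.univ.filter fun k : G => k * b * k⁻¹ = y := by
    intro k hk
    have hk := (Finset.mem_filter.1 hk).2
    set y := k * b * k⁻¹ with hy
    have hy2 : y * y = 1 := by rw [hy, ← sq, conj_pow, sq, hb, mul_one, mul_inv_cancel]
    have ainv : a⁻¹ = a := inv_eq_of_mul_eq_one_right ha
    have yinv : y⁻¹ = y := inv_eq_of_mul_eq_one_right hy2
    have hw : (QuotientGroup.mk (a * y) : G ⧸ K) = QuotientGroup.mk (a * b) := by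
      rw [hy]
      simp [(QuotientGroup.eq_one_iff k).2 hk]
    have hab2 : a * b * (a * b) = 1 := by
      rw [mul_assoc, ← mul_assoc b, ← hab, mul_assoc, hb, mul_one, ha]
    have hw2 : (a * y) ^ 2 ∈ K := by
      rw [← QuotientGroup.eq_one_iff, QuotientGroup.mk_pow, hw, ← QuotientGroup.mk_pow, sq, hab2,
        QuotientGroup.mk_one]
    obtain ⟨j, hj⟩ : Odd (Nat.card K) := Nat.coprime_two_right.1 hodd
    set z := (a * y) ^ Nat.card K with hz
    have hz2 : z * z = 1 := by
      rw [← sq, hz, ← pow_mul, mul_comm, pow_mul]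
      exact orderOf_dvd_iff_pow_eq_one.1 (Subgroup.orderOf_dvd_natCard _ hw2)
    have zinv : z⁻¹ = z := inv_eq_of_mul_eq_one_right hz2
    have hzK : z * (a * b)⁻¹ ∈ K := by
      rw [← QuotientGroup.eq_one_iff, QuotientGroup.mk_mul, hz, QuotientGroup.mk_pow, hw,
        ← QuotientGroup.mk_pow, hj, pow_succ, pow_mul, sq, hab2, one_pow, one_mul,
        ← QuotientGroup.mk_mul, mul_inv_cancel, QuotientGroup.mk_one]
    obtain ⟨l, -, hl⟩ := exists_conj_eq_of_coprime_orderOf (K := K) (x := a * b) (y := z)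
      (by rw [Subgroup.normalizer_eq_top]; trivial) hzK (hcop _ hab2) (hcop _ hz2)
    have h1 : a * z * a⁻¹ = z := by
      rw [hz, ← conj_pow, ← mul_assoc, ha, one_mul, ← yinv, ← mul_inv_rev, inv_pow, yinv, ← hz,
        zinv]
    have h2 : y * z * y⁻¹ = z := by
      rw [hz, ← conj_pow, show y * (a * y) * y⁻¹ = y * a by group, ← yinv, ← ainv, ← mul_inv_rev,
        inv_pow, yinv, ainv, ← hz, zinv]
    simp only [Finset.mem_biUnion, Finset.mem_filter, Finset.mem_univ, true_and]
    refine ⟨z, ⟨Subgroup.mem_centralizer_singleton_iff.2 ?_, isConj_iff.2 ⟨l, hl.symm⟩⟩, y,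
      Subgroup.mem_centralizer_singleton_iff.2 ?_, rfl⟩
    · exact (mul_inv_eq_iff_eq_mul.1 h1).symm
    · exact mul_inv_eq_iff_eq_mul.1 h2
  rw [hsub K]
  refine (Finset.card_le_card hcover).trans ((Finset.card_biUnion_le_card_mul _ _ _ ?_).trans
    (Nat.mul_le_mul_right _ ?_))
  · intro z hz
    refine (Finset.card_biUnion_le_card_mul _ _ _ fun y _ => card_filter_conj_eq_le b y).trans
      (Nat.mul_le_mul_right _ ?_)
    obtain ⟨g, rfl⟩ := isConj_iff.1 (Finset.mem_filter.1 hz).2.2
    rw [← hsub, centralizer_conj_singleton, card_conj_smul]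
  · rw [hsub]
    exact Finset.card_le_card fun z hz => by
      simpa using (Finset.mem_filter.1 hz).2.1

theorem index_normalCore_dvd_factorial (H : Subgroup G) :
    H.normalCore.index ∣ H.index.factorial := by
  rw [Subgroup.normalCore_eq_ker, Subgroup.index_ker, Subgroup.index_eq_card, ← Nat.card_perm]
  exact Subgroup.card_subgroup_dvd_card _

/-- Brauer–Fowler: if all involutions centralizing a non-cyclic elementary abelian `2`-group have
small centralizers, the group is small -/
theorem card_le_of_centralizer_involution_le {E : Subgroup G} (hE : IsMulCommutative E)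
    (hE2 : ∀ x ∈ E, x * x = 1) (hE4 : 2 < Nat.card E) {c : ℕ}
    (hc : ∀ s : G, orderOf s = 2 → E ≤ Subgroup.centralizer {s} →
      Nat.card (Subgroup.centralizer ({s} : Set G)) ≤ c) :
    Nat.card G ≤ c * (c * c) * (c * (c * (c + 1)).factorial) := by
  haveI := Fact.mk Nat.prime_two
  have hcomm : ∀ x ∈ E, ∀ y ∈ E, x * y = y * x := fun x hx y hy =>
    congrArg Subtype.val (hE.is_comm.comm ⟨x, hx⟩ ⟨y, hy⟩)
  have hEo : ∀ x ∈ E, x ≠ 1 → orderOf x = 2 := fun x hx h1 =>
    orderOf_eq_prime (by rw [sq, hE2 x hx]) h1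
  have hEc : ∀ x ∈ E, x ≠ 1 → Nat.card (Subgroup.centralizer ({x} : Set G)) ≤ c :=
    fun x hx h1 => hc x (hEo x hx h1) fun y hy =>
      Subgroup.mem_centralizer_singleton_iff.2 (hcomm y hy x hx)
  obtain ⟨a, haE, ha1⟩ : ∃ a ∈ E, a ≠ 1 := by
    by_contra h
    push Not at h
    rw [(Subgroup.eq_bot_iff_forall E).2 h, Subgroup.card_bot] at hE4
    omega
  obtain ⟨b, hbE, hb⟩ : ∃ b ∈ E, b ∉ Subgroup.zpowers a := by
    by_contra h
    push Not at h
    have := Subgroup.card_le_of_le (show E ≤ Subgroup.zpowers a from h)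
    rw [Nat.card_zpowers, hEo a haE ha1] at this
    omega
  set K := pPrimeCore 2 G with hK
  have hKodd : (Nat.card K).Coprime 2 := coprime_card_pPrimeCore 2
  have h1 : Nat.card K ≤ c * (c * c) :=
    (card_le_of_four_group hKodd (hE2 a haE) (hE2 b hbE) (hcomm a haE b hbE)).trans
      (Nat.mul_le_mul (hEc a haE ha1) (Nat.mul_le_mul (hEc _ (E.mul_mem haE hbE) fun h => hb (by
        rw [eq_inv_of_mul_eq_one_right h]; exact Subgroup.inv_mem _ (Subgroup.mem_zpowers a)))
        (hEc b hbE fun h => hb (h ▸ Subgroup.one_mem _))))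
  have hq : ∀ s : G, orderOf s = 2 → E ≤ Subgroup.centralizer {s} →
      orderOf (s : G ⧸ K) = 2 ∧
        Nat.card (Subgroup.centralizer ({(s : G ⧸ K)} : Set (G ⧸ K))) ≤ c := by
    intro s hs hsE
    refine ⟨orderOf_eq_prime (by rw [← QuotientGroup.mk_pow,
      orderOf_dvd_iff_pow_eq_one.1 hs.dvd, QuotientGroup.mk_one]) fun h => ?_, ?_⟩
    · exact not_dvd_orderOf_of_mem_pPrimeCore ((QuotientGroup.eq_one_iff s).1 h) hs.symm.dvd
    · rw [centralizer_mk_singleton_of_coprime (by rwa [hs])]
      exact (Nat.le_of_dvd Nat.card_pos (Subgroup.card_map_dvd _ _)).trans (hc s hs hsE)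
  obtain ⟨ha2, hac⟩ := hq a (hEo a haE ha1) fun y hy =>
    Subgroup.mem_centralizer_singleton_iff.2 (hcomm y hy a haE)
  obtain ⟨x, hx1, hx⟩ := exists_index_centralizer_le_of_involution ha2 hac
  set X := Subgroup.normalClosure ({x} : Set (G ⧸ K)) with hX
  set N := (Subgroup.centralizer ({x} : Set (G ⧸ K))).normalCore with hN
  have hXN : X ≤ Subgroup.centralizer (N : Set (G ⧸ K)) :=
    Subgroup.normalClosure_le_normal (Set.singleton_subset_iff.2 fun y hy =>
      Subgroup.mem_centralizer_singleton_iff.1 (Subgroup.normalCore_le _ hy))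
  have hX2 : 2 ∣ Nat.card (X.comap (QuotientGroup.mk' K)) := by
    rw [card_comap_mk]
    refine Dvd.dvd.mul_left ?_ _
    by_contra h
    have h2 := le_pPrimeCore_of_not_dvd (N := X) inferInstance h
    rw [pPrimeCore_quotient_pPrimeCore, le_bot_iff] at h2
    exact hx1 (Subgroup.mem_bot.1 (h2 ▸ Subgroup.subset_normalClosure rfl))
  have hEp : IsPGroup 2 E := fun y => ⟨1, Subtype.ext (by simpa [sq] using hE2 y y.2)⟩
  obtain ⟨P, hP⟩ := hEp.exists_le_sylow
  set Y := X.comap (QuotientGroup.mk' K) with hY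
  have hPY : (P : Subgroup G) ⊓ Y ≠ ⊥ := fun h => by
    have h2 := not_dvd_relIndex_sylow_of_normal P Y
    rw [← card_inf_mul_relIndex (P : Subgroup G) Y, h, Subgroup.card_bot, one_mul] at hX2
    exact h2 hX2
  have h3 := inf_centralizer_ne_bot_of_isPGroup hEp (P.isPGroup'.to_inf_left (K := Y))
    (fun y hy => Subgroup.inf_normalizer_le_normalizer_inf ⟨Subgroup.le_normalizer (hP hy),
      by rw [Subgroup.normalizer_eq_top]; trivial⟩) hPY
  obtain ⟨u, ⟨⟨-, huY⟩, huE⟩, hu⟩ := exists_orderOf_eq_prime_of_dvd_card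
    (dvd_card_of_isPGroup_of_ne_bot (P.isPGroup'.to_inf_left.to_inf_left) h3)
  have h4 := (hq u hu fun y hy => Subgroup.mem_centralizer_singleton_iff.2 (huE y hy)).2
  have h5 : Nat.card N ≤ c := le_trans (Subgroup.card_le_of_le fun y hy =>
    Subgroup.mem_centralizer_singleton_iff.2 (hXN huY y hy)) h4
  have h6 : N.index ≤ (c * (c + 1)).factorial :=
    (Nat.le_of_dvd (Nat.factorial_pos _) (index_normalCore_dvd_factorial _)).trans
      (Nat.factorial_le hx)
  rw [← Subgroup.card_mul_index K, Subgroup.index_eq_card, ← Subgroup.card_mul_index N]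
  exact Nat.mul_le_mul h1 (Nat.mul_le_mul h5 h6)

/-- if the normalizers of all subgroups of order `2 ^ r` are small and the `2`-rank exceeds `r`,
the group is small -/
theorem exists_card_le_of_normalizer_le (r c : ℕ) : ∃ N : ℕ, ∀ (G : Type u) [Group G] [Finite G]
    (E : Subgroup G), IsMulCommutative E → (∀ x ∈ E, x * x = 1) → 2 ^ (r + 1) ≤ Nat.card E →
    (∀ Q : Subgroup G, Nat.card Q = 2 ^ r → Nat.card (Subgroup.normalizer (Q : Set G)) ≤ c) →
    Nat.card G ≤ N := by
  induction r with
  | zero =>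
    refine ⟨c, fun G _ _ _ _ _ _ h => ?_⟩
    have := h ⊥ (by simp)
    rwa [Subgroup.normalizer_eq_top, Subgroup.card_top] at this
  | succ r ih =>
    obtain ⟨N, hN⟩ := ih
    refine ⟨_, fun G _ _ E hE hE2 hE4 h => card_le_of_centralizer_involution_le (c := 2 * N) hE hE2
      (lt_of_lt_of_le ?_ hE4) fun s hs hsE => ?_⟩
    · exact lt_of_lt_of_le (by norm_num) (Nat.pow_le_pow_right two_pos (Nat.le_add_left 2 r))
    set C := Subgroup.centralizer ({s} : Set G) with hC
    have hsC : Subgroup.zpowers s ≤ C :=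
      Subgroup.zpowers_le.2 (Subgroup.mem_centralizer_singleton_iff.2 rfl)
    set Z := (Subgroup.zpowers s).subgroupOf C with hZ
    haveI : Z.Normal := (Subgroup.normal_subgroupOf_iff_le_normalizer hsC).2 (by
      rw [hC, ← centralizer_zpowers]; exact Subgroup.centralizer_le_normalizer _)
    have hZ2 : Nat.card Z = 2 := by rw [hZ, card_subgroupOf_of_le hsC, Nat.card_zpowers, hs]
    rw [← Subgroup.card_mul_index Z, hZ2, Subgroup.index_eq_card]
    refine Nat.mul_le_mul_left 2 (hN _ ((E.subgroupOf C).map (QuotientGroup.mk' Z))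
      inferInstance ?_ ?_ fun Q hQ => ?_)
    · rintro _ ⟨y, hy, rfl⟩
      rw [← map_mul, show y * y = 1 from Subtype.ext (hE2 y hy), map_one]
    · have h1 := card_inf_mul_relIndex Z (E.subgroupOf C)
      rw [card_subgroupOf_of_le hsE, ← card_map_mk] at h1
      have h2 : Nat.card (Z ⊓ E.subgroupOf C : Subgroup C) ≤ 2 :=
        hZ2 ▸ Subgroup.card_le_of_le inf_le_left
      refine Nat.le_of_mul_le_mul_left ?_ two_pos
      rw [← pow_succ']
      exact hE4.trans (h1 ▸ Nat.mul_le_mul_right _ h2)
    · refine le_trans ?_ (h ((Q.comap (QuotientGroup.mk' Z)).map C.subtype)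
        (by rw [card_map_subtype, card_comap_mk, hZ2, hQ, pow_succ']))
      refine le_trans ?_ (Subgroup.card_le_of_le (Subgroup.le_normalizer_map _))
      rw [card_map_subtype]
      refine le_trans ?_ (Subgroup.card_le_of_le (Subgroup.le_normalizer_comap _))
      rw [card_comap_mk]
      exact Nat.le_mul_of_pos_left _ Nat.card_pos

end Cfsg
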