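import Cfsg.Agent.Grp.NormalComplement
import Cfsg.Agent.Blk.Subsec

/-! Groups with an extraspecial Sylow `3`-subgroup of order `27` and exponent `3` whose centre is
centralized by its normalizer: fusion and centralizers. -/

set_option autoImplicit false

namespace Cfsg

open scoped Pointwise

universe u v

variable {G : Type u} [Group G]

theorem exists_mul_mem_normalizer_of_le [Finite G] {p : ℕ} [Fact p.Prime] {H Q : Subgroup G}
    (hQ : IsPGroup p Q) (hQH : Q ≤ H) (hi : ¬ p ∣ Q.relIndex H) {R : Subgroup G}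
    (hR : IsPGroup p R) {g : G} (hg : ∀ x ∈ R, g * x * g⁻¹ ∈ H) :
    ∃ c ∈ H, ∀ x ∈ R, c * g * x * (c * g)⁻¹ ∈ Q := by
  obtain ⟨h, hh, hle⟩ := exists_conj_le_sylowIn hQH hQ hi (R := MulAut.conj g • R)
    (by rintro _ ⟨x, hx, rfl⟩; exact hg x hx) (hR.map _)
  refine ⟨h⁻¹, inv_mem hh, fun x hx => ?_⟩
  obtain ⟨y, hy, e⟩ := hle (Subgroup.smul_mem_pointwise_smul x (MulAut.conj g) R hx)
  have e' : h * y * h⁻¹ = g * x * g⁻¹ := e
  rwa [show h⁻¹ * g * x * (h⁻¹ * g)⁻¹ = h⁻¹ * (g * x * g⁻¹) * h by group, ← e',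
    show h⁻¹ * (h * y * h⁻¹) * h = y by group]

theorem exists_mul_mem_normalizer_sylow [Finite G] {p : ℕ} [Fact p.Prime] (P : Sylow p G)
    {H : Subgroup G} (hP : (P : Subgroup G) ≤ H) {g : G}
    (hg : ∀ x ∈ (P : Subgroup G), g * x * g⁻¹ ∈ H) :
    ∃ c ∈ H, c * g ∈ Subgroup.normalizer ((P : Subgroup G) : Set G) := by
  obtain ⟨c, hc, h⟩ := exists_mul_mem_normalizer_of_le P.isPGroup' hP
    (fun h => P.not_dvd_index (h.trans (Subgroup.relIndex_dvd_index_of_le hP))) P.isPGroup' hg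
  exact ⟨c, hc, Subgroup.mem_normalizer_fintype h⟩

/-- `P` is extraspecial of order `27` and exponent `3` with centre `⟨z⟩`, and `N(P) ≤ C(z)` -/
structure XData (P : Sylow 3 G) (z : G) : Prop where
  card : Nat.card (P : Subgroup G) = 27
  exp : ∀ x ∈ (P : Subgroup G), x ^ 3 = 1
  mem : z ∈ (P : Subgroup G)
  ne : z ≠ 1
  cen : ∀ y ∈ (P : Subgroup G), (∀ x ∈ (P : Subgroup G), x * y = y * x) ↔ y ∈ Subgroup.zpowers z
  comm : ∀ x ∈ (P : Subgroup G), ∀ y ∈ (P : Subgroup G), x * y * x⁻¹ * y⁻¹ ∈ Subgroup.zpowers z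
  norm : ∀ g ∈ Subgroup.normalizer ((P : Subgroup G) : Set G), g * z = z * g

namespace XData

variable [Finite G] {P : Sylow 3 G} {z : G} (h : XData P z)
include h

omit [Finite G] in
theorem orderOf_eq {x : G} (hx : x ∈ (P : Subgroup G)) (hx1 : x ≠ 1) : orderOf x = 3 :=
  haveI := Fact.mk Nat.prime_three
  orderOf_eq_prime (h.exp x hx) hx1

omit [Finite G] in
theorem mul_self {x : G} (hx : x ∈ (P : Subgroup G)) : x * x = x⁻¹ :=
  eq_inv_of_mul_eq_one_left (by rw [← h.exp x hx, pow_succ, sq])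

omit [Finite G] in
theorem zpowers_le : Subgroup.zpowers z ≤ P := Subgroup.zpowers_le.2 h.mem

theorem mem_zpowers {x y : G} (hx : x ∈ (P : Subgroup G)) :
    y ∈ Subgroup.zpowers x ↔ y = 1 ∨ y = x ∨ y = x⁻¹ := by
  refine ⟨fun hy => ?_, ?_⟩
  · obtain ⟨k, rfl⟩ := (mem_powers_iff_mem_zpowers.2 hy)
    have : x ^ k = x ^ (k % 3) := by
      conv_lhs => rw [← Nat.div_add_mod k 3, pow_add, pow_mul, h.exp x hx, one_pow, one_mul]
    change x ^ k = 1 ∨ x ^ k = x ∨ x ^ k = x⁻¹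
    rw [this]
    have h3 : k % 3 < 3 := Nat.mod_lt _ (by norm_num)
    generalize k % 3 = r at *
    interval_cases r
    · simp
    · simp
    · rw [sq, h.mul_self hx]; simp
  · rintro (rfl | rfl | rfl)
    · exact one_mem _
    · exact Subgroup.mem_zpowers _
    · exact inv_mem (Subgroup.mem_zpowers _)

omit [Finite G] in
theorem ne_inv : z ≠ z⁻¹ := fun e => h.ne (by
  have := h.mul_self h.mem
  rw [← e] at this
  exact mul_eq_left.1 this)

omit [Finite G] in
theorem le_centralizer : (P : Subgroup G) ≤ Subgroup.centralizer {z} := fun x hx =>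
  Subgroup.mem_centralizer_singleton_iff.2 ((h.cen z h.mem).2 (Subgroup.mem_zpowers z) x hx)

omit [Finite G] h in
theorem comm_of_mem {c w : G} (hc : c ∈ Subgroup.centralizer ({z} : Set G))
    (hw : w ∈ Subgroup.zpowers z) : c * w = w * c := by
  obtain ⟨k, rfl⟩ := hw
  exact (Commute.zpow_right (Subgroup.mem_centralizer_singleton_iff.1 hc) k).eq

omit [Finite G] in
theorem normalizer_le : Subgroup.normalizer ((P : Subgroup G) : Set G) ≤
    Subgroup.centralizer {z} := fun g hg => Subgroup.mem_centralizer_singleton_iff.2 (h.norm g hg)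

theorem conj_eq_of_mem {g : G} (hg : g * z * g⁻¹ ∈ Subgroup.zpowers z) : g * z * g⁻¹ = z := by
  have h1 : ∀ x ∈ (P : Subgroup G), g * x * g⁻¹ ∈ Subgroup.centralizer ({z} : Set G) := by
    intro x hx
    have h2 : g * x * g⁻¹ * (g * z * g⁻¹) = g * z * g⁻¹ * (g * x * g⁻¹) := by
      rw [conj_mul, conj_mul, Subgroup.mem_centralizer_singleton_iff.1 (h.le_centralizer hx)]
    rcases (h.mem_zpowers h.mem).1 hg with e | e | e
    · exact absurd (conj_eq_one_iff.1 e) h.ne
    · rw [e] at h2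
      exact Subgroup.mem_centralizer_singleton_iff.2 h2
    · rw [e] at h2
      exact Subgroup.mem_centralizer_singleton_iff.2 (Commute.inv_right_iff.1 h2)
  obtain ⟨c, hc, hn⟩ := exists_mul_mem_normalizer_sylow P h.le_centralizer h1
  have h2 := (Subgroup.mul_mem_cancel_left _ hc).1 (h.normalizer_le hn)
  rw [Subgroup.mem_centralizer_singleton_iff.1 h2, mul_inv_cancel_right]

theorem not_isConj_inv : ¬ IsConj z z⁻¹ := fun hc => by
  obtain ⟨g, hg⟩ := isConj_iff.1 hc
  exact h.ne_inv ((h.conj_eq_of_mem (hg ▸ inv_mem (Subgroup.mem_zpowers z))).symm.trans hg)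

theorem exists_conj_eq_mul {u w : G} (hu : u ∈ (P : Subgroup G)) (hu' : u ∉ Subgroup.zpowers z)
    (hw : w ∈ Subgroup.zpowers z) : ∃ x ∈ (P : Subgroup G), x * u * x⁻¹ = w * u := by
  obtain ⟨x, hx, hxu⟩ : ∃ x ∈ (P : Subgroup G), x * u ≠ u * x := by
    by_contra h1
    push Not at h1
    exact hu' ((h.cen u hu).1 h1)
  have hc := h.comm x hx u hu
  set c := x * u * x⁻¹ * u⁻¹ with hcd
  have h1 : x * u * x⁻¹ = c * u := by rw [hcd]; group
  have h2 : x * x * u * (x * x)⁻¹ = c⁻¹ * u := by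
    rw [show x * x * u * (x * x)⁻¹ = x * (x * u * x⁻¹) * x⁻¹ by group, h1, ← mul_assoc,
      comm_of_mem (h.le_centralizer hx) hc, ← h.mul_self (h.zpowers_le hc), mul_assoc c c, ← h1]
    group
  have hc1 : c ≠ 1 := fun e => hxu (by
    rw [e, one_mul] at h1
    exact mul_inv_eq_iff_eq_mul.1 h1)
  have h3 : w = 1 ∨ w = c ∨ w = c⁻¹ := by
    clear_value c
    rcases (h.mem_zpowers h.mem).1 hc with e' | e' | e'
    · exact absurd e' hc1
    · rw [e']; exact (h.mem_zpowers h.mem).1 hw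
    · rw [e', inv_inv]; exact ((h.mem_zpowers h.mem).1 hw).imp_right Or.symm
  rcases h3 with rfl | rfl | rfl
  · exact ⟨1, one_mem _, by simp⟩
  · exact ⟨x, hx, h1⟩
  · exact ⟨x * x, mul_mem hx hx, h2⟩

theorem card_eq_nine {u : G} (hu : u ∈ (P : Subgroup G)) (hu' : u ∉ Subgroup.zpowers z) :
    (P : Subgroup G) ⊓ Subgroup.centralizer {u} = Subgroup.zpowers u ⊔ Subgroup.zpowers z ∧
      Nat.card ((P : Subgroup G) ⊓ Subgroup.centralizer {u} : Subgroup G) = 9 := by
  set V := (P : Subgroup G) ⊓ Subgroup.centralizer {u}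
  set W := Subgroup.zpowers u ⊔ Subgroup.zpowers z
  have hWV : W ≤ V := sup_le
    (Subgroup.zpowers_le.2 ⟨hu, Subgroup.mem_centralizer_singleton_iff.2 rfl⟩)
    (Subgroup.zpowers_le.2 ⟨h.mem, Subgroup.mem_centralizer_singleton_iff.2
      (Subgroup.mem_centralizer_singleton_iff.1 (h.le_centralizer hu)).symm⟩)
  have h1 : Nat.card V ∣ 27 := h.card ▸ Subgroup.card_dvd_of_le inf_le_left
  have h2 : Nat.card V ≠ 27 := fun e => hu' ((h.cen u hu).1 fun x hx => by
    have : V = P := Subgroup.eq_of_le_of_card_ge inf_le_left (by rw [e, h.card])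
    exact Subgroup.mem_centralizer_singleton_iff.1 (this.ge hx).2)
  have h3 : Nat.card (Subgroup.zpowers z) = 3 := by
    rw [Nat.card_zpowers, h.orderOf_eq h.mem h.ne]
  have h4 : 3 ∣ Nat.card W := h3 ▸ Subgroup.card_dvd_of_le le_sup_right
  have h5 : Nat.card W ≠ 3 := fun e => by
    have : Subgroup.zpowers z = W := Subgroup.eq_of_le_of_card_ge le_sup_right (by rw [e, h3])
    exact hu' (this.ge (Subgroup.mem_sup_left (Subgroup.mem_zpowers u)))
  have h6 := Subgroup.card_dvd_of_le hWV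
  obtain ⟨i, hi, e1⟩ := (Nat.dvd_prime_pow Nat.prime_three (m := 3)).1 h1
  obtain ⟨j, hj, e2⟩ := (Nat.dvd_prime_pow Nat.prime_three (m := 3)).1 (h6.trans h1)
  have h7 : Nat.card V = 9 ∧ Nat.card W = 9 := by
    rw [e1] at h2 h6 ⊢
    rw [e2] at h4 h5 h6 ⊢
    interval_cases i <;> interval_cases j <;> simp_all
  exact ⟨(Subgroup.eq_of_le_of_card_ge hWV (by rw [h7.1, h7.2])).symm, h7.1⟩

theorem not_isConj {u : G} (hu : u ∈ (P : Subgroup G)) (hu' : u ∉ Subgroup.zpowers z) :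
    ¬ IsConj u z := fun hc => by
  have := Fact.mk Nat.prime_three
  obtain ⟨g, hg⟩ := isConj_iff.1 hc
  obtain ⟨c, hc, h1⟩ := exists_mul_mem_normalizer_of_le P.isPGroup' h.le_centralizer
    (fun e => P.not_dvd_index (e.trans (Subgroup.relIndex_dvd_index_of_le h.le_centralizer)))
    (P.isPGroup'.to_le h.zpowers_le) (g := g) fun x hx => by
      rw [← hg]
      refine Subgroup.mem_centralizer_singleton_iff.2 ?_
      rw [conj_mul, conj_mul, comm_of_mem (h.le_centralizer hu) hx]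
  have h2 : c * g * u * (c * g)⁻¹ = z := by
    rw [show c * g * u * (c * g)⁻¹ = c * (g * u * g⁻¹) * c⁻¹ by group, hg,
      Subgroup.mem_centralizer_singleton_iff.1 hc, mul_inv_cancel_right]
  generalize c * g = k at h1 h2
  have hy := h1 z (Subgroup.mem_zpowers z)
  have hy' : k * z * k⁻¹ ∉ Subgroup.zpowers z := fun e => by
    have := (h.conj_eq_of_mem e).trans h2.symm
    exact hu' ((mul_left_cancel (mul_right_cancel this)) ▸ Subgroup.mem_zpowers z)
  obtain ⟨x, -, hx⟩ := h.exists_conj_eq_mul hu hu' (inv_mem (Subgroup.mem_zpowers z))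
  obtain ⟨y, -, hy2⟩ := h.exists_conj_eq_mul hy hy' (inv_mem (Subgroup.mem_zpowers z))
  refine h.not_isConj_inv ?_
  have e1 : IsConj z (z⁻¹ * (k * z * k⁻¹)) :=
    (isConj_iff.2 ⟨k, rfl⟩).trans (isConj_iff.2 ⟨y, hy2⟩)
  refine e1.trans (isConj_iff.2 ⟨k * x⁻¹ * k⁻¹, ?_⟩)
  have e3 : z⁻¹ * (k * z * k⁻¹) = k * (x * u * x⁻¹)⁻¹ * k⁻¹ := by
    rw [hx]
    nth_rw 1 [← h2]
    group
  rw [e3, ← h2]
  group

theorem conj_eq {g : G} (hg : g * z * g⁻¹ ∈ (P : Subgroup G)) : g * z * g⁻¹ = z :=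
  h.conj_eq_of_mem (by_contra fun e => h.not_isConj hg e (isConj_iff.2 ⟨g, rfl⟩).symm)

theorem not_isConj' {u : G} (hu : u ∈ (P : Subgroup G)) (hu' : u ∉ Subgroup.zpowers z) :
    ¬ IsConj u z⁻¹ := fun hc => by
  obtain ⟨g, hg⟩ := isConj_iff.1 hc
  refine h.not_isConj (inv_mem hu) (fun e => hu' (inv_mem_iff.1 e)) (isConj_iff.2 ⟨g, ?_⟩)
  rw [← conj_inv, hg, inv_inv]

theorem not_dvd_relIndex {u : G} (hu : u ∈ (P : Subgroup G)) (hu' : u ∉ Subgroup.zpowers z) :
    ¬ 3 ∣ ((P : Subgroup G) ⊓ Subgroup.centralizer {u}).relIndex (Subgroup.centralizer {u}) := by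
  have := Fact.mk Nat.prime_three
  obtain ⟨Q, hVQ, hQC, hQ, hi⟩ := exists_le_sylowIn (p := 3)
    (R := (P : Subgroup G) ⊓ Subgroup.centralizer {u}) (P.isPGroup'.to_le inf_le_left)
    inf_le_right
  obtain ⟨g, hg⟩ := exists_conj_smul_le_sylow P hQ
  have h1 : Nat.card (MulAut.conj g • Q : Subgroup G) = Nat.card Q :=
    Subgroup.card_map_of_injective (MulAut.conj g).injective
  have h2 := Subgroup.card_dvd_of_le hg
  have h3 := Subgroup.card_dvd_of_le hVQ
  rw [h1, h.card] at h2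
  rw [(h.card_eq_nine hu hu').2] at h3
  by_cases h4 : Nat.card Q = 27
  · have h5 : MulAut.conj g • Q = P := Subgroup.eq_of_le_of_card_ge hg (by rw [h1, h4, h.card])
    have hu1 : u ≠ 1 := fun e => hu' (e ▸ one_mem _)
    have h6 : g * u * g⁻¹ ∈ Subgroup.zpowers z := by
      refine (h.cen _ (hg (Subgroup.smul_mem_pointwise_smul u (MulAut.conj g) Q
        (hVQ ⟨hu, Subgroup.mem_centralizer_singleton_iff.2 rfl⟩)))).1 fun x hx => ?_
      obtain ⟨y, hy, rfl⟩ := h5.ge hx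
      change g * y * g⁻¹ * (g * u * g⁻¹) = g * u * g⁻¹ * (g * y * g⁻¹)
      rw [conj_mul, conj_mul, Subgroup.mem_centralizer_singleton_iff.1 (hQC hy)]
    rcases (h.mem_zpowers h.mem).1 h6 with e | e | e
    · exact absurd (conj_eq_one_iff.1 e) hu1
    · exact absurd (isConj_iff.2 ⟨g, e⟩) (h.not_isConj hu hu')
    · exact absurd (isConj_iff.2 ⟨g, e⟩) (h.not_isConj' hu hu')
  · obtain ⟨i, hi3, e1⟩ := (Nat.dvd_prime_pow Nat.prime_three (m := 3)).1 h2
    have h5 : Nat.card Q = 9 := by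
      rw [e1] at h3 h4 ⊢
      interval_cases i <;> simp_all
    rwa [Subgroup.eq_of_le_of_card_ge hVQ (by rw [h5, (h.card_eq_nine hu hu').2])]

theorem factorization_centralizer {u : G} (hu : u ∈ (P : Subgroup G))
    (hu' : u ∉ Subgroup.zpowers z) :
    (Nat.card (Subgroup.centralizer ({u} : Set G))).factorization 3 = 2 := by
  have := Fact.mk Nat.prime_three
  have h1 := card_sylowIn inf_le_right (P.isPGroup'.to_le inf_le_left) (h.not_dvd_relIndex hu hu')
  rw [(h.card_eq_nine hu hu').2] at h1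
  exact (Nat.pow_right_injective (by norm_num : 2 ≤ 3) (h1.symm.trans (by norm_num)))

theorem comm_of_mem_inf {u n x : G} (hu : u ∈ (P : Subgroup G)) (hu' : u ∉ Subgroup.zpowers z)
    (h1 : n * u = u * n) (h2 : n * z = z * n)
    (hx : x ∈ (P : Subgroup G) ⊓ Subgroup.centralizer {u}) : x * n = n * x := by
  rw [(h.card_eq_nine hu hu').1] at hx
  exact Subgroup.mem_centralizer_singleton_iff.1 (sup_le (Subgroup.zpowers_le.2
    (Subgroup.mem_centralizer_singleton_iff.2 h1.symm)) (Subgroup.zpowers_le.2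
    (Subgroup.mem_centralizer_singleton_iff.2 h2.symm)) hx)

omit [Finite G] in
theorem z_mem_inf {u : G} (hu : u ∈ (P : Subgroup G)) :
    z ∈ (P : Subgroup G) ⊓ Subgroup.centralizer {u} :=
  ⟨h.mem, Subgroup.mem_centralizer_singleton_iff.2
    (Subgroup.mem_centralizer_singleton_iff.1 (h.le_centralizer hu)).symm⟩

theorem hasNormalPComplement_centralizer {u : G} (hu : u ∈ (P : Subgroup G))
    (hu' : u ∉ Subgroup.zpowers z) :
    HasNormalPComplement 3 (Subgroup.centralizer ({u} : Set G)) := by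
  have := Fact.mk Nat.prime_three
  obtain ⟨S, hS⟩ := exists_sylow_eq_of_not_dvd_index
    (P := ((P : Subgroup G) ⊓ Subgroup.centralizer {u}).subgroupOf (Subgroup.centralizer {u}))
    ((P.isPGroup'.to_le inf_le_left).comap_subtype) (h.not_dvd_relIndex hu hu')
  refine hasNormalPComplement_of_normalizer_le_centralizer S ?_
  rw [hS]
  intro n hn x hx
  have h1 := (Subgroup.mem_normalizer_iff.1 hn ⟨z, (h.z_mem_inf hu).2⟩).1 (h.z_mem_inf hu)
  have h2 : (n : G) * z * (n : G)⁻¹ = z := h.conj_eq h1.1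
  exact Subtype.ext (h.comm_of_mem_inf hu hu' (Subgroup.mem_centralizer_singleton_iff.1 n.2)
    (mul_inv_eq_iff_eq_mul.1 h2) hx)

/-- the normalizer controls fusion of non-central elements -/
theorem exists_normalizer_conj {u v : G} (hu : u ∈ (P : Subgroup G))
    (hv : v ∈ (P : Subgroup G)) (hv' : v ∉ Subgroup.zpowers z)
    (hc : IsConj u v) :
    ∃ n ∈ Subgroup.normalizer ((P : Subgroup G) : Set G), v = n * u * n⁻¹ := by
  have := Fact.mk Nat.prime_three
  obtain ⟨g, hg⟩ := isConj_iff.1 hc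
  obtain ⟨c, hc, h1⟩ := exists_mul_mem_normalizer_of_le (P.isPGroup'.to_le inf_le_left)
    inf_le_right (h.not_dvd_relIndex hv hv') (P.isPGroup'.to_le h.zpowers_le) (g := g)
    fun x hx => by
      rw [← hg]
      refine Subgroup.mem_centralizer_singleton_iff.2 ?_
      rw [conj_mul, conj_mul, comm_of_mem (h.le_centralizer hu) hx]
  have h2 : c * g * u * (c * g)⁻¹ = v := by
    rw [show c * g * u * (c * g)⁻¹ = c * (g * u * g⁻¹) * c⁻¹ by group, hg,
      Subgroup.mem_centralizer_singleton_iff.1 hc, mul_inv_cancel_right]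
  generalize c * g = k at h1 h2
  have h3 : k ∈ Subgroup.centralizer ({z} : Set G) := Subgroup.mem_centralizer_singleton_iff.2
    (mul_inv_eq_iff_eq_mul.1 (h.conj_eq (h1 z (Subgroup.mem_zpowers z)).1))
  have key : ∀ x ∈ Subgroup.centralizer ({z} : Set G), x * v * x⁻¹ * v⁻¹ ∈ Subgroup.zpowers z →
      x ∈ Subgroup.centralizer ({z} : Set G) ⊓
        Subgroup.normalizer {y | y * v⁻¹ ∈ Subgroup.zpowers z} := fun x hx hxv =>
    ⟨hx, Subgroup.mem_normalizer_fintype fun y hy => by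
      have e : x * y * x⁻¹ * v⁻¹ = y * v⁻¹ * (x * v * x⁻¹ * v⁻¹) := by
        rw [← mul_assoc, ← mul_assoc, ← mul_assoc, ← comm_of_mem hx hy]
        group
      change x * y * x⁻¹ * v⁻¹ ∈ Subgroup.zpowers z
      rw [e]
      exact mul_mem hy hxv⟩
  obtain ⟨l, hl, hn⟩ := exists_mul_mem_normalizer_sylow P
    (fun x hx => key x (h.le_centralizer hx) (h.comm x hx v hv)) (g := k) fun x hx => by
      refine key _ (mul_mem (mul_mem h3 (h.le_centralizer hx)) (inv_mem h3)) ?_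
      rw [← h2, show k * x * k⁻¹ * (k * u * k⁻¹) * (k * x * k⁻¹)⁻¹ * (k * u * k⁻¹)⁻¹ =
        k * (x * u * x⁻¹ * u⁻¹) * k⁻¹ by group, comm_of_mem h3 (h.comm x hx u hu),
        mul_inv_cancel_right]
      exact h.comm x hx u hu
  have h4 : l * v * l⁻¹ * v⁻¹ ∈ Subgroup.zpowers z :=
    (hl.2 v).1 (show v * v⁻¹ ∈ Subgroup.zpowers z by simp)
  obtain ⟨x, hx, e⟩ := h.exists_conj_eq_mul hv hv' h4
  refine ⟨x⁻¹ * (l * k), mul_mem (inv_mem (Subgroup.le_normalizer hx)) hn, ?_⟩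
  rw [show x⁻¹ * (l * k) * u * (x⁻¹ * (l * k))⁻¹ = x⁻¹ * (l * (k * u * k⁻¹) * l⁻¹) * x by group,
    h2, show l * v * l⁻¹ = l * v * l⁻¹ * v⁻¹ * v by group, ← e]
  group

theorem mem_sup_of_comm {u n : G} (hu : u ∈ (P : Subgroup G)) (hu' : u ∉ Subgroup.zpowers z)
    (hn : n ∈ Subgroup.normalizer ((P : Subgroup G) : Set G)) (hnu : n * u = u * n) :
    n ∈ (P : Subgroup G) ⊔ Subgroup.centralizer ((P : Subgroup G) : Set G) := by
  have := Fact.mk Nat.prime_three
  have h3 : n ^ 3 ∈ Subgroup.centralizer ((P : Subgroup G) : Set G) := by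
    intro w hw
    have hw' := (Subgroup.mem_normalizer_iff.1 hn w).1 hw
    have h1 : n * (w * u * w⁻¹) * n⁻¹ = w * u * w⁻¹ := by
      rw [show w * u * w⁻¹ = w * u * w⁻¹ * u⁻¹ * u by group, ← mul_assoc,
        comm_of_mem (h.normalizer_le hn) (h.comm w hw u hu), mul_assoc _ n, hnu]
      group
    have h2 : w⁻¹ * (n * w * n⁻¹) ∈ (P : Subgroup G) ⊓ Subgroup.centralizer {u} := by
      refine ⟨mul_mem ((P : Subgroup G).inv_mem hw) hw',
        Subgroup.mem_centralizer_singleton_iff.2 ?_⟩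
      have e : n⁻¹ * u = u * n⁻¹ := (Commute.inv_left hnu).eq
      calc w⁻¹ * (n * w * n⁻¹) * u = w⁻¹ * (n * (w * u * w⁻¹) * n⁻¹) * (n * w * n⁻¹) := by
            rw [mul_assoc, mul_assoc (n * w), e]; group
        _ = _ := by rw [h1]; group
    generalize hv : w⁻¹ * (n * w * n⁻¹) = v at h2
    have h4 := h.comm_of_mem_inf hu hu' hnu (h.norm n hn) h2
    have h5 : n * w = w * v * n := by rw [← hv]; group
    have h6 : ∀ k : ℕ, n ^ k * w = w * v ^ k * n ^ k := fun k => by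
      induction k with
      | zero => simp
      | succ k ih =>
        rw [pow_succ' n, mul_assoc, ih, ← mul_assoc, ← mul_assoc, h5, pow_succ' v,
          mul_assoc (w * v), ← (Commute.pow_left h4 k).eq]
        group
    rw [h6, h.exp v h2.1, mul_one]
  rw [← pPart_mul_pRegPart 3 n]
  refine Subgroup.mul_mem_sup ?_ ?_
  · have h1 := (isPGroup_zpowers_pPart (p := 3) n).inf_normalizer_sylow P
    exact (h1.le ⟨Subgroup.mem_zpowers _, pPart_mem 3 hn⟩).2
  · have h1 : pRegPart 3 n ^ 3 ∈ Subgroup.centralizer ((P : Subgroup G) : Set G) := by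
      rw [← pRegPart_pow]
      exact pRegPart_mem 3 h3
    refine Subgroup.zpowers_le.2 h1 (mem_zpowers_pow_iff.2 ?_)
    exact Nat.prime_three.coprime_iff_not_dvd.2 (not_dvd_orderOf_pRegPart n)

omit [Finite G] h in
theorem exists_conj_of_mem_sup {n : G}
    (hn : n ∈ (P : Subgroup G) ⊔ Subgroup.centralizer ((P : Subgroup G) : Set G)) :
    ∃ x ∈ (P : Subgroup G), ∀ y ∈ (P : Subgroup G), n * y * n⁻¹ = x * y * x⁻¹ := by
  let K : Subgroup G :=
    { carrier := {n | ∃ x ∈ (P : Subgroup G), ∀ y ∈ (P : Subgroup G), n * y * n⁻¹ = x * y * x⁻¹}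
      one_mem' := ⟨1, one_mem _, fun _ _ => rfl⟩
      mul_mem' := by
        rintro a b ⟨x, hx, ha⟩ ⟨y, hy, hb⟩
        refine ⟨x * y, mul_mem hx hy, fun w hw => ?_⟩
        rw [show a * b * w * (a * b)⁻¹ = a * (b * w * b⁻¹) * a⁻¹ by group, hb w hw,
          ha _ (mul_mem (mul_mem hy hw) (inv_mem hy))]
        group
      inv_mem' := by
        rintro a ⟨x, hx, ha⟩
        refine ⟨x⁻¹, inv_mem hx, fun w hw => ?_⟩
        have := ha _ (mul_mem (mul_mem (inv_mem hx) hw) hx)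
        rw [show x * (x⁻¹ * w * x) * x⁻¹ = w by group] at this
        conv_lhs => rw [← this]
        group }
  exact (sup_le (fun x hx => ⟨x, hx, fun _ _ => rfl⟩) (fun c hc => ⟨1, one_mem _, fun y hy => by
    rw [← hc y hy]; group⟩) : _ ≤ K) hn

theorem card_orbit {u : G} (hu : u ∈ (P : Subgroup G)) (hu' : u ∉ Subgroup.zpowers z) :
    Nat.card {w : G // ∃ t ∈ Subgroup.normalizer ((P : Subgroup G) : Set G), w = t * u * t⁻¹} =
      3 * ((P : Subgroup G) ⊔ Subgroup.centralizer ((P : Subgroup G) : Set G)).relIndex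
        (Subgroup.normalizer ((P : Subgroup G) : Set G)) := by
  set K := (P : Subgroup G) ⊔ Subgroup.centralizer ((P : Subgroup G) : Set G)
  set N := Subgroup.normalizer ((P : Subgroup G) : Set G)
  have hKN : K ≤ N := sup_le Subgroup.le_normalizer (Subgroup.centralizer_le_normalizer _)
  have h1 : (Subgroup.centralizer ({u} : Set G)).relIndex K = 3 := by
    rw [← card_conjOrbit_eq_relIndex, Nat.card_congr (Equiv.subtypeEquivRight
      (q := fun w => ∃ t ∈ (P : Subgroup G), w = t * u * t⁻¹) fun w => ⟨?_, ?_⟩),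
      card_conjOrbit_eq_relIndex]
    · have h2 := Subgroup.card_mul_index
        ((Subgroup.centralizer ({u} : Set G)).subgroupOf (P : Subgroup G))
      rw [← Subgroup.inf_subgroupOf_right, Nat.card_congr (Subgroup.subgroupOfEquivOfLe
        inf_le_right).toEquiv, inf_comm, (h.card_eq_nine hu hu').2, h.card, inf_comm,
        Subgroup.inf_subgroupOf_right] at h2
      change 9 * Subgroup.relIndex _ _ = 27 at h2
      omega
    · rintro ⟨t, ht, rfl⟩
      obtain ⟨x, hx, e⟩ := exists_conj_of_mem_sup ht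
      exact ⟨x, hx, e u hu⟩
    · rintro ⟨t, ht, rfl⟩
      exact ⟨t, Subgroup.mem_sup_left ht, rfl⟩
  rw [card_conjOrbit_eq_relIndex, ← h1, ← Subgroup.inf_relIndex_right _ K,
    Subgroup.relIndex_mul_relIndex _ _ _ inf_le_right hKN, ← Subgroup.inf_relIndex_right _ N]
  congr 1
  exact le_antisymm (fun n hn => ⟨hn.1, h.mem_sup_of_comm hu hu' hn.2
    (Subgroup.mem_centralizer_singleton_iff.1 hn.1)⟩) (inf_le_inf_left _ hKN)

theorem exists_conj_eq_inv (he : 2 ∣ ((P : Subgroup G) ⊔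
      Subgroup.centralizer ((P : Subgroup G) : Set G)).relIndex
        (Subgroup.normalizer ((P : Subgroup G) : Set G)))
    {u : G} (hu : u ∈ (P : Subgroup G)) :
    ∃ n ∈ Subgroup.normalizer ((P : Subgroup G) : Set G), n * u * n⁻¹ * u ∈ Subgroup.zpowers z := by
  have := Fact.mk Nat.prime_two
  set K := (P : Subgroup G) ⊔ Subgroup.centralizer ((P : Subgroup G) : Set G)
  set N := Subgroup.normalizer ((P : Subgroup G) : Set G)
  have hK : (K.subgroupOf N).Normal := by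
    refine Subgroup.normal_subgroupOf_of_le_normalizer fun n hn => ?_
    refine Subgroup.mem_normalizer_fintype fun k hk => ?_
    obtain ⟨x, hx, e⟩ := exists_conj_of_mem_sup hk
    have hx' := (Subgroup.mem_normalizer_iff.1 hn x).1 hx
    rw [← mul_inv_cancel_left (n * x * n⁻¹) (n * k * n⁻¹)]
    refine Subgroup.mul_mem_sup hx' fun y hy => ?_
    have h1 := e _ ((Subgroup.mem_normalizer_iff.1 (inv_mem hn) y).1 hy)
    calc y * ((n * x * n⁻¹)⁻¹ * (n * k * n⁻¹))
        = n * x⁻¹ * (x * (n⁻¹ * y * n⁻¹⁻¹) * x⁻¹) * k * n⁻¹ := by group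
      _ = _ := by rw [← h1]; group
  obtain ⟨q, hq⟩ := exists_prime_orderOf_dvd_card' (G := N ⧸ K.subgroupOf N) 2 he
  obtain ⟨⟨n, hn⟩, rfl⟩ := QuotientGroup.mk_surjective q
  have h1 : n ∉ K := fun e => by
    rw [(QuotientGroup.eq_one_iff _).2 (show (⟨n, hn⟩ : N) ∈ K.subgroupOf N from e),
      orderOf_one] at hq
    omega
  have h2 : n * n ∈ K := by
    have := pow_orderOf_eq_one ((⟨n, hn⟩ : N) : N ⧸ K.subgroupOf N)
    rw [hq, sq, ← QuotientGroup.mk_mul, QuotientGroup.eq_one_iff] at this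
    exact this
  refine ⟨n, hn, by_contra fun hy' => h1 ?_⟩
  have hu2 := (Subgroup.mem_normalizer_iff.1 hn u).1 hu
  have hy := mul_mem hu2 hu
  obtain ⟨x, hx, e⟩ := exists_conj_of_mem_sup h2
  have h3 : n * (n * u * n⁻¹ * u) * n⁻¹ * (n * u * n⁻¹ * u)⁻¹ ∈ Subgroup.zpowers z := by
    rw [show n * (n * u * n⁻¹ * u) * n⁻¹ * (n * u * n⁻¹ * u)⁻¹ =
      n * n * u * (n * n)⁻¹ * u⁻¹ * (u * (n * u * n⁻¹) * u⁻¹ * (n * u * n⁻¹)⁻¹) by group, e u hu]
    exact mul_mem (h.comm x hx u hu) (h.comm u hu _ hu2)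
  obtain ⟨y, hy2, e2⟩ := h.exists_conj_eq_mul hy hy' h3
  rw [← mul_inv_cancel_left y n]
  refine mul_mem (Subgroup.mem_sup_left hy2) (h.mem_sup_of_comm hy hy'
    (mul_mem (inv_mem (Subgroup.le_normalizer hy2)) hn) ?_)
  generalize n * u * n⁻¹ * u = w at e2
  rw [inv_mul_cancel_right] at e2
  calc y⁻¹ * n * w = y⁻¹ * (n * w * n⁻¹) * n := by group
    _ = _ := by rw [← e2]; group

theorem exists_conj_eq_inv' (he : 2 ∣ ((P : Subgroup G) ⊔
      Subgroup.centralizer ((P : Subgroup G) : Set G)).relIndex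
        (Subgroup.normalizer ((P : Subgroup G) : Set G)))
    {u : G} (hu : u ∈ (P : Subgroup G)) (hu' : u ∉ Subgroup.zpowers z) :
    ∃ n ∈ Subgroup.normalizer ((P : Subgroup G) : Set G), n * u * n⁻¹ = u⁻¹ := by
  obtain ⟨n, hn, e⟩ := h.exists_conj_eq_inv he hu
  obtain ⟨x, hx, e2⟩ := h.exists_conj_eq_mul (inv_mem hu) (fun e => hu' (inv_mem_iff.1 e)) e
  refine ⟨x⁻¹ * n, mul_mem (inv_mem (Subgroup.le_normalizer hx)) hn, ?_⟩
  rw [mul_inv_cancel_right] at e2
  calc x⁻¹ * n * u * (x⁻¹ * n)⁻¹ = x⁻¹ * (n * u * n⁻¹) * x := by group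
    _ = _ := by rw [← e2]; group

theorem exists_reps : ∃ J : Finset G,
    (∀ u ∈ J, u ∈ (P : Subgroup G) ∧ u ∉ Subgroup.zpowers z) ∧
    (∀ u ∈ J, ∀ v ∈ J, IsConj u v → u = v) ∧
    (∀ x ∈ (P : Subgroup G), x ∉ Subgroup.zpowers z → ∃ u ∈ J,
      ∃ n ∈ Subgroup.normalizer ((P : Subgroup G) : Set G), x = n * u * n⁻¹) ∧
    J.card * ((P : Subgroup G) ⊔ Subgroup.centralizer ((P : Subgroup G) : Set G)).relIndex
        (Subgroup.normalizer ((P : Subgroup G) : Set G)) = 8 := by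
  classical
  have := Fintype.ofFinite G
  set A : Finset G := Finset.univ.filter fun x => x ∈ (P : Subgroup G) ∧ x ∉ Subgroup.zpowers z
    with hA
  have hm : ∀ x, x ∈ A ↔ x ∈ (P : Subgroup G) ∧ x ∉ Subgroup.zpowers z := fun x => by simp [hA]
  have hex : ∀ c : ConjClasses G, ∃ r : G, (∃ x ∈ A, ConjClasses.mk x = c) →
      r ∈ A ∧ ConjClasses.mk r = c := fun c => by
    by_cases hc : ∃ x ∈ A, ConjClasses.mk x = c
    · obtain ⟨x, hx⟩ := hc
      exact ⟨x, fun _ => hx⟩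
    · exact ⟨1, fun e => absurd e hc⟩
  choose r hr using hex
  have hr' : ∀ x ∈ A, r (ConjClasses.mk x) ∈ A ∧ IsConj (r (ConjClasses.mk x)) x := fun x hx =>
    (hr _ ⟨x, hx, rfl⟩).imp_right ConjClasses.mk_eq_mk_iff_isConj.1
  have hJ : ∀ u ∈ A.image fun x => r (ConjClasses.mk x), u ∈ A ∧ r (ConjClasses.mk u) = u := by
    intro u hu
    obtain ⟨x, hx, rfl⟩ := Finset.mem_image.1 hu
    exact ⟨(hr' x hx).1, by rw [ConjClasses.mk_eq_mk_iff_isConj.2 (hr' x hx).2]⟩
  refine ⟨A.image fun x => r (ConjClasses.mk x), fun u hu => (hm u).1 (hJ u hu).1,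
    fun u hu v hv huv => ?_, fun x hx hx' => ?_, ?_⟩
  · rw [← (hJ u hu).2, ← (hJ v hv).2, ConjClasses.mk_eq_mk_iff_isConj.2 huv]
  · have h1 := hr' x ((hm x).2 ⟨hx, hx'⟩)
    exact ⟨_, Finset.mem_image_of_mem _ ((hm x).2 ⟨hx, hx'⟩), h.exists_normalizer_conj
      ((hm _).1 h1.1).1 hx hx' h1.2⟩
  · have h1 : A.card = 24 := by
      have h2 : A = Finset.univ.filter (fun x => x ∈ (P : Subgroup G)) \
          Finset.univ.filter (fun x => x ∈ Subgroup.zpowers z) := by ext x; simp [hA]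
      rw [h2, Finset.card_sdiff_of_subset (fun x hx => by
        simpa using h.zpowers_le (by simpa using hx)), ← Fintype.card_subtype,
        ← Fintype.card_subtype, ← Nat.card_eq_fintype_card, ← Nat.card_eq_fintype_card]
      change Nat.card (P : Subgroup G) - Nat.card (Subgroup.zpowers z) = 24
      rw [h.card, Nat.card_zpowers, h.orderOf_eq h.mem h.ne]
    rw [Finset.card_eq_sum_card_image (fun x => r (ConjClasses.mk x)) A,
      Finset.sum_const_nat (m := 3 * ((P : Subgroup G) ⊔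
        Subgroup.centralizer ((P : Subgroup G) : Set G)).relIndex
        (Subgroup.normalizer ((P : Subgroup G) : Set G))) fun u hu => ?_] at h1
    · linarith
    · have hu' := (hm u).1 (hJ u hu).1
      rw [← h.card_orbit hu'.1 hu'.2, Nat.card_eq_fintype_card, Fintype.card_subtype]
      congr 1
      ext x
      simp only [Finset.mem_filter, Finset.mem_univ, true_and]
      constructor
      · rintro ⟨hx, rfl⟩
        exact h.exists_normalizer_conj hu'.1 ((hm x).1 hx).1 ((hm x).1 hx).2 (hr' x hx).2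
      · rintro ⟨t, ht, rfl⟩
        refine ⟨(hm _).2 ⟨(Subgroup.mem_normalizer_iff.1 ht u).1 hu'.1, fun e => hu'.2 ?_⟩, ?_⟩
        · rwa [show u = t⁻¹ * (t * u * t⁻¹) * t by group,
            comm_of_mem (inv_mem (h.normalizer_le ht)) e, inv_mul_cancel_right]
        · rw [← ConjClasses.mk_eq_mk_iff_isConj.2 (isConj_iff.2 ⟨t, rfl⟩), (hJ u hu).2]

end XData

/-- the `3`-local data used for the principal `3`-block -/
structure XFus (z : G) (J : Finset G) : Prop where
  ord_z : orderOf z = 3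
  ord : ∀ u ∈ J, orderOf u = 3
  rep : ∀ g : G, (∃ k : ℕ, orderOf g = 3 ^ k) →
    g = 1 ∨ IsConj g z ∨ IsConj g z⁻¹ ∨ ∃ u ∈ J, IsConj g u
  nzz : ¬ IsConj z z⁻¹
  nuz : ∀ u ∈ J, ¬ IsConj u z
  nuz' : ∀ u ∈ J, ¬ IsConj u z⁻¹
  nuu : ∀ u ∈ J, ∀ v ∈ J, IsConj u v → u = v
  uz : ∀ u ∈ J, IsConj u (z * u)
  nilp : ∀ u ∈ J, HasNormalPComplement 3 (Subgroup.centralizer ({u} : Set G))
  fac : ∀ u ∈ J, (Nat.card (Subgroup.centralizer ({u} : Set G))).factorization 3 = 2
  facG : (Nat.card G).factorization 3 = 3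
  facC : (Nat.card (Subgroup.centralizer ({z} : Set G))).factorization 3 = 3

theorem factorization_card_eq_of_le [Finite G] {H : Type v} [Group H] [Finite H] {p n : ℕ}
    [hp : Fact p.Prime] (f : H →* G) (hf : Function.Injective f) {K : Subgroup H}
    {L Q : Subgroup G} (hK : K.map f ≤ L) (hQ : Q ≤ K.map f) (h1 : Nat.card Q = p ^ n)
    (h2 : (Nat.card L).factorization p = n) : (Nat.card K).factorization p = n := by
  rw [← Subgroup.card_map_of_injective (K := K) hf]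
  refine le_antisymm (h2 ▸ (Nat.factorization_le_iff_dvd Nat.card_pos.ne' Nat.card_pos.ne').2
    (Subgroup.card_dvd_of_le hK) p) ?_
  exact (hp.out.pow_dvd_iff_le_factorization Nat.card_pos.ne').1
    (h1 ▸ Subgroup.card_dvd_of_le hQ)

theorem XData.xFus [Finite G] {P : Sylow 3 G} {z : G} (h : XData P z) {J : Finset G}
    (h1 : ∀ u ∈ J, u ∈ (P : Subgroup G) ∧ u ∉ Subgroup.zpowers z)
    (h2 : ∀ u ∈ J, ∀ v ∈ J, IsConj u v → u = v)
    (h3 : ∀ x ∈ (P : Subgroup G), x ∉ Subgroup.zpowers z → ∃ u ∈ J,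
      ∃ n ∈ Subgroup.normalizer ((P : Subgroup G) : Set G), x = n * u * n⁻¹)
    {H : Type v} [Group H] [Finite H] (f : H →* G) (hf : Function.Injective f)
    (hN : Subgroup.normalizer ((P : Subgroup G) : Set G) ≤ f.range) {z' : H} (hz : f z' = z) :
    XFus z' (J.preimage f hf.injOn) ∧ (J.preimage f hf.injOn).card = J.card ∧
      (2 ∣ ((P : Subgroup G) ⊔ Subgroup.centralizer ((P : Subgroup G) : Set G)).relIndex
        (Subgroup.normalizer ((P : Subgroup G) : Set G)) →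
      ∀ u ∈ J.preimage f hf.injOn, IsConj u u⁻¹) := by
  classical
  have := Fact.mk Nat.prime_three
  have hP : (P : Subgroup G) ≤ f.range := Subgroup.le_normalizer.trans hN
  have hc : ∀ {a b : H} {n : G}, n ∈ Subgroup.normalizer ((P : Subgroup G) : Set G) →
      n * f a * n⁻¹ = f b → IsConj a b := fun {a b n} hn e => by
    obtain ⟨m, rfl⟩ := hN hn
    exact isConj_iff.2 ⟨m, hf (by simpa using e)⟩
  have hcen : ∀ a : H, (Subgroup.centralizer ({a} : Set H)).map f ≤
      Subgroup.centralizer {f a} := by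
    rintro a _ ⟨c, hc, rfl⟩
    rw [Subgroup.mem_centralizer_singleton_iff, ← map_mul, ← map_mul,
      Subgroup.mem_centralizer_singleton_iff.1 hc]
  have hcen' : ∀ a : H, (P : Subgroup G) ⊓ Subgroup.centralizer {f a} ≤
      (Subgroup.centralizer ({a} : Set H)).map f := by
    intro a x hx
    obtain ⟨y, rfl⟩ := hP hx.1
    exact ⟨y, Subgroup.mem_centralizer_singleton_iff.2 (hf (by
      simpa using Subgroup.mem_centralizer_singleton_iff.1 hx.2)), rfl⟩
  have hG : (Nat.card G).factorization 3 = 3 := Nat.pow_right_injective (by norm_num : 2 ≤ 3)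
    ((P.card_eq_multiplicity.symm.trans h.card).trans (by norm_num))
  have hT : (Nat.card (⊤ : Subgroup G)).factorization 3 = 3 := by rwa [Subgroup.card_top]
  refine ⟨⟨?_, fun u hu => ?_, fun g hg => ?_, fun e => h.not_isConj_inv ?_,
    fun u hu e => ?_, fun u hu e => ?_, fun u hu v hv e => ?_, fun u hu => ?_, fun u hu => ?_,
    fun u hu => ?_, ?_, ?_⟩, ?_, fun he u hu => ?_⟩
  any_goals rw [Finset.mem_preimage] at hu
  · rw [← orderOf_injective f hf, hz, h.orderOf_eq h.mem h.ne]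
  · rw [← orderOf_injective f hf]
    exact h.orderOf_eq (h1 _ hu).1 fun e => (h1 _ hu).2 (e ▸ one_mem _)
  · obtain ⟨c, ⟨c, rfl⟩, hc'⟩ := exists_mul_mem_normalizer_of_le P.isPGroup' hP
      (fun e => P.not_dvd_index (e.trans (Subgroup.relIndex_dvd_index_of_le hP)))
      (isPGroup_zpowers_iff.2 (show ∃ k, orderOf (f g) = 3 ^ k by rwa [orderOf_injective f hf]))
      (g := 1) fun x hx => by simpa using Subgroup.zpowers_le.2 (show f g ∈ f.range from ⟨g, rfl⟩) hx
    have h4 : f (c * g * c⁻¹) ∈ (P : Subgroup G) := by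
      simpa using hc' _ (Subgroup.mem_zpowers _)
    have h5 : IsConj g (c * g * c⁻¹) := isConj_iff.2 ⟨c, rfl⟩
    by_cases h6 : f (c * g * c⁻¹) ∈ Subgroup.zpowers z
    · rcases (h.mem_zpowers h.mem).1 h6 with e | e | e
      · exact Or.inl (conj_eq_one_iff.1 (hf (e.trans f.map_one.symm)))
      · exact Or.inr (Or.inl (hf (e.trans hz.symm) ▸ h5))
      · exact Or.inr (Or.inr (Or.inl (hf (e.trans (by rw [map_inv, hz])) ▸ h5)))
    · obtain ⟨u, hu, n, hn, e⟩ := h3 _ h4 h6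
      obtain ⟨u, rfl⟩ := hP (h1 u hu).1
      exact Or.inr (Or.inr (Or.inr ⟨u, Finset.mem_preimage.2 hu, h5.trans (hc hn e.symm).symm⟩))
  · simpa [hz] using f.map_isConj e
  · exact h.not_isConj (h1 _ hu).1 (h1 _ hu).2 (hz ▸ f.map_isConj e)
  · exact h.not_isConj' (h1 _ hu).1 (h1 _ hu).2 (by simpa [hz] using f.map_isConj e)
  · exact hf (h2 _ hu _ (Finset.mem_preimage.1 hv) (f.map_isConj e))
  · obtain ⟨x, hx, e⟩ := h.exists_conj_eq_mul (h1 _ hu).1 (h1 _ hu).2 (Subgroup.mem_zpowers z)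
    exact hc (Subgroup.le_normalizer hx) (by rw [e, map_mul, hz])
  · exact ((h.hasNormalPComplement_centralizer (h1 _ hu).1 (h1 _ hu).2).of_le
      (hcen u)).of_injective (f.subgroupMap _) fun a b e => Subtype.ext (hf (congrArg Subtype.val e))
  · exact factorization_card_eq_of_le f hf (hcen u) (hcen' u)
      (h.card_eq_nine (h1 _ hu).1 (h1 _ hu).2).2
      (h.factorization_centralizer (h1 _ hu).1 (h1 _ hu).2)
  · rw [← Subgroup.card_top]
    exact factorization_card_eq_of_le f hf le_top (by rwa [← MonoidHom.range_eq_map]) h.card hT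
  · exact factorization_card_eq_of_le f hf le_top
      ((le_inf le_rfl (hz ▸ h.le_centralizer)).trans (hcen' z')) h.card hT
  · rw [Finset.card_preimage, Finset.filter_true_of_mem (p := fun x => x ∈ Set.range f)
      fun u hu => hP (h1 u hu).1]
  · obtain ⟨n, hn, e⟩ := h.exists_conj_eq_inv' he (h1 _ hu).1 (h1 _ hu).2
    exact hc hn (by rw [e, map_inv])

end Cfsg
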