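import Cfsg.Agent.Grp.AbExp

/-! Opposite conjugates of a `p`-subgroup, and `p'`-automorphisms centralising it. -/

set_option autoImplicit false

namespace Cfsg

universe u v

variable {G : Type u} [Group G] {p : ℕ} {Q : Subgroup G}

/-- automorphisms of order prime to `p` centralising `Q` are trivial -/
def PRigid (p : ℕ) (Q : Subgroup G) : Prop :=
  ∀ α : MulAut G, ¬ p ∣ orderOf α → (∀ x ∈ Q, α x = x) → α = 1

/-- some `p`-subgroup is rigid -/
def LieRigid (p : ℕ) (G : Type u) [Group G] : Prop := ∃ Q : Subgroup G, IsPGroup p Q ∧ PRigid p Q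

theorem PRigid.map {K : Type v} [Group K] (h : PRigid p Q) (e : G ≃* K) :
    PRigid p (Q.map e.toMonoidHom) := fun α hα hx => by
  have h1 := h ((MulAut.congr e).symm α) (by rwa [MulEquiv.orderOf_eq]) fun x hx' => by
    simp [MulAut.congr, hx (e x) ⟨x, hx', rfl⟩]
  exact (MulEquiv.map_eq_one_iff _).1 h1

theorem LieRigid.of_mulEquiv {K : Type v} [Group K] (h : LieRigid p G) (e : K ≃* G) :
    LieRigid p K := let ⟨_, h1, h2⟩ := h; ⟨_, h1.map _, h2.map e.symm⟩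

theorem LieRigid.sylow [Finite G] [Fact p.Prime] (h : LieRigid p G) (U : Sylow p G) :
    PRigid p (U : Subgroup G) := by
  obtain ⟨Q, h1, h2⟩ := h
  obtain ⟨P, hP⟩ := h1.exists_le_sylow
  obtain ⟨g, hg⟩ := sylow_eq_map_conj P U
  exact fun α hα hx => h2.map (MulAut.conj g) α hα fun x hx' =>
    hx x (hg ▸ Subgroup.map_mono hP hx')

/-- `Q` meets the normaliser of `g Q g⁻¹` trivially -/
def OppR (Q : Subgroup G) (g : G) : Prop :=
  ∀ q ∈ Q, g⁻¹ * q * g ∈ Subgroup.normalizer (Q : Set G) → q = 1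

/-- `Q` and `g Q g⁻¹` are opposite -/
def Opp (Q : Subgroup G) (g : G) : Prop := OppR Q g ∧ OppR Q g⁻¹

theorem Opp.inv {g : G} (h : Opp Q g) : Opp Q g⁻¹ := ⟨h.2, by simpa using h.1⟩

theorem Opp.mul_right {g n : G} (h : Opp Q g) (hn : n ∈ Subgroup.normalizer (Q : Set G)) :
    Opp Q (g * n) := by
  refine ⟨fun q hq h1 => h.1 q hq ?_, fun q hq h1 => ?_⟩
  · simpa [mul_assoc] using mul_mem (mul_mem hn h1) (inv_mem hn)
  · have := h.2 _ ((Subgroup.mem_normalizer_iff.1 hn q).1 hq) (by simpa [mul_assoc] using h1)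
    simpa [mul_inv_eq_one] using this

theorem Opp.mul_left {g n : G} (h : Opp Q g) (hn : n ∈ Subgroup.normalizer (Q : Set G)) :
    Opp Q (n * g) := by simpa using (h.inv.mul_right (inv_mem hn)).inv

/-- `Q` permutes its opposites transitively, and there are three pairwise opposite conjugates -/
structure OppData (p : ℕ) (Q : Subgroup G) : Prop where
  pgrp : IsPGroup p Q
  trans : ∀ g g', Opp Q g → Opp Q g' →
    ∃ q ∈ Q, ∃ n ∈ Subgroup.normalizer (Q : Set G), g' = q * g * n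
  three : ∃ g g', Opp Q g ∧ Opp Q g' ∧ Opp Q (g⁻¹ * g')

theorem OppData.fix [Finite G] [Fact p.Prime] (h : OppData p Q) {α : MulAut G}
    (hα : ¬ p ∣ orderOf α) (hx : ∀ x ∈ Q, α x = x) {g : G} (hg : Opp Q g) :
    ∀ x ∈ Q, α (g * x * g⁻¹) = g * x * g⁻¹ := by
  have hx' : ∀ {x}, α x ∈ Q ↔ x ∈ Q := fun {x} =>
    ⟨fun h => α.injective (hx _ h) ▸ h, fun h => (hx _ h).symm ▸ h⟩
  have hN : ∀ {n}, α n ∈ Subgroup.normalizer (Q : Set G) ↔ n ∈ Subgroup.normalizer (Q : Set G) := by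
    intro n
    simp only [Subgroup.mem_normalizer_iff]
    rw [α.surjective.forall]
    simp only [← map_inv, ← map_mul, hx']
  have hR : ∀ {g}, OppR Q g → OppR Q (α g) := fun h q hq h1 =>
    h q hq (by rwa [← hx q hq, ← map_inv, ← map_mul, ← map_mul, hN] at h1)
  have h1 : ∀ {g}, Opp Q g → g⁻¹ * α g ∈ Subgroup.normalizer (Q : Set G) := by
    intro g hg
    obtain ⟨q, hq, n, hn, h1⟩ := h.trans g (α g) hg ⟨hR hg.1, map_inv α g ▸ hR hg.2⟩
    have h2 : ∀ k : ℕ, (q ^ k * g)⁻¹ * (α ^ k) g ∈ Subgroup.normalizer (Q : Set G) := fun k => by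
      induction k with
      | zero => simp
      | succ k ih =>
        have := mul_mem hn (hN.2 ih)
        rw [map_mul, map_inv, map_mul, hx _ (pow_mem hq k), h1] at this
        simpa [pow_succ', pow_succ q, mul_assoc, (Commute.self_pow q k).eq] using this
    have h3 := h2 (orderOf α)
    rw [pow_orderOf_eq_one] at h3
    have h4 := hg.1 _ (pow_mem hq (orderOf α)) (by simpa [mul_assoc] using inv_mem h3)
    obtain ⟨k, hk⟩ := h.pgrp ⟨q, hq⟩
    have h5 : q = 1 := orderOf_eq_one_iff.1 (Nat.eq_one_of_dvd_coprimes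
      (((Nat.Prime.coprime_iff_not_dvd Fact.out).2 hα).pow_left k)
      (orderOf_dvd_of_pow_eq_one (congrArg Subtype.val hk)) (orderOf_dvd_of_pow_eq_one h4))
    simpa [h1, h5] using hn
  obtain ⟨a, b, ha, hb, hab⟩ := h.three
  obtain ⟨q, hq, n, hn, h2⟩ := h.trans _ _ ha.inv hab
  rw [inv_mul_eq_iff_eq_mul, ← mul_assoc, ← mul_assoc] at h2
  have h3 : α (a * q * a⁻¹) = a * q * a⁻¹ := by
    have h4 := (Subgroup.mem_normalizer_iff.1 (h1 ha) q).1 hq
    have h5 := ha.2 _ (mul_mem (inv_mem hq) h4) (by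
      have := mul_mem (mul_mem hn (h1 hb)) (inv_mem (hN.2 hn))
      simpa [h2, hx q hq, mul_assoc] using this)
    rw [inv_mul_eq_one] at h5
    rw [map_mul, map_mul, map_inv, hx q hq]
    conv_rhs => rw [h5]
    group
  obtain ⟨q', hq', n', hn', rfl⟩ := h.trans _ _ hb hg
  intro x hx1
  have h4 := (Subgroup.mem_normalizer_iff.1 (mul_mem hn hn') x).1 hx1
  have h5 : q' * b * n' * x * (q' * b * n')⁻¹ = q' * (a * q * a⁻¹) * (n * n' * x * (n * n')⁻¹) *
      (a * q * a⁻¹)⁻¹ * q'⁻¹ := by rw [h2]; group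
  rw [h5, map_mul, map_mul, map_mul, map_mul α q', map_inv, map_inv, h3, hx _ hq', hx _ h4]

theorem OppData.pRigid_of_closure [Finite G] [Fact p.Prime] (h : OppData p Q) {g : G}
    (hg : Opp Q g) (hG : ∀ F : Subgroup G, Q ≤ F → (∀ x ∈ Q, g * x * g⁻¹ ∈ F) → F = ⊤) :
    PRigid p Q := fun α hα hx => MulEquiv.ext fun x =>
  ((hG (α.toMonoidHom.eqLocus (MonoidHom.id G)) hx (h.fix hα hx hg)).ge (Subgroup.mem_top x) :)

theorem OppData.pRigid_of_simple [Finite G] [Fact p.Prime] [IsSimpleGroup G] (h : OppData p Q)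
    (hQ : Q ≠ ⊥) (hG : ∀ g, ∃ g', Opp Q g' ∧ Opp Q (g'⁻¹ * g)) : PRigid p Q := fun α hα hx => by
  have h1 : Subgroup.normalClosure (Q : Set G) ≤ α.toMonoidHom.eqLocus (MonoidHom.id G) := by
    refine (Subgroup.closure_le _).2 fun y hy => ?_
    obtain ⟨x, hx1, hy⟩ := Group.mem_conjugatesOfSet_iff.1 hy
    obtain ⟨g, rfl⟩ := isConj_iff.1 hy
    obtain ⟨g', h1, h2⟩ := hG g
    have := h.fix (α := (MulAut.conj g')⁻¹ * α * MulAut.conj g')
      (by rwa [← inv_inv (MulAut.conj g'), inv_inv (MulAut.conj g')⁻¹, ← MulAut.conj_apply,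
        MulEquiv.orderOf_eq]) (fun x hx1 => by
        rw [MulAut.mul_apply, MulAut.mul_apply, MulAut.conj_apply, h.fix hα hx h1 x hx1]
        simp [mul_assoc]) h2 x hx1
    change α _ = _
    simpa [mul_assoc] using congrArg (MulAut.conj g') this
  rw [(Subgroup.normalClosure_normal.eq_bot_or_eq_top).resolve_left fun h =>
    hQ (eq_bot_iff.2 (h ▸ Subgroup.le_normalClosure))] at h1
  exact MulEquiv.ext fun x => (h1 (Subgroup.mem_top x) :)

/-- consequences of a split `BN`-pair -/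
structure BNLike (p : ℕ) (Q Q' N : Subgroup G) : Prop where
  pgrp : IsPGroup p Q
  bruhat : ∀ g, ∃ u ∈ Q, ∃ n ∈ N, ∃ b ∈ Q, g = u * n * b
  fac : ∀ n ∈ N, ∀ u ∈ Q, ∃ a ∈ Q, ∃ b ∈ Q, n * a * n⁻¹ ∈ Q ∧ n * b * n⁻¹ ∈ Q' ∧ u = a * b
  tri : Q ⊓ Q' = ⊥
  tor : ∀ n ∈ N, (∀ u ∈ Q, n * u * n⁻¹ ∈ Q) → ∀ k : ℕ, n ^ p ^ k = 1 → n = 1
  long : ∃ n, (∀ x, x ∈ Q ↔ n * x * n⁻¹ ∈ Q') ∧ (∀ x, x ∈ Q' ↔ n * x * n⁻¹ ∈ Q) ∧
    ∃ u ∈ Q, ∃ b ∈ Q, u * n * b ∈ Q'
  gen : Q ⊔ Q' = ⊤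

variable {Q' N : Subgroup G} [Finite G] [Fact p.Prime]

theorem BNLike.exists_sylow (h : BNLike p Q Q' N) : ∃ P : Sylow p G, (P : Subgroup G) = Q := by
  obtain ⟨P, hP⟩ := h.pgrp.exists_le_sylow
  refine ⟨P, by_contra fun hne => ?_⟩
  obtain ⟨g, hg, hg'⟩ := SetLike.exists_of_lt
    (lt_inf_normalizer_of_isPGroup P.isPGroup' (lt_of_le_of_ne hP (Ne.symm hne)))
  obtain ⟨u, hu, n, hn, b, hb, rfl⟩ := h.bruhat g
  have h1 : n ∈ (P : Subgroup G) ⊓ Subgroup.normalizer (Q : Set G) := by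
    have := le_inf hP Subgroup.le_normalizer
    rwa [mul_mem_cancel_right (this hb), mul_mem_cancel_left (this hu)] at hg
  obtain ⟨k, hk⟩ := P.isPGroup' ⟨n, h1.1⟩
  rw [h.tor n hn (fun u => (Subgroup.mem_normalizer_iff.1 h1.2 u).1) k (congrArg Subtype.val hk),
    mul_one] at hg'
  exact hg' (mul_mem hu hb)

theorem BNLike.lieRigid (h : BNLike p Q Q' N) : LieRigid p G := by
  obtain ⟨P, hP⟩ := h.exists_sylow
  obtain ⟨n, h1, h2, u, hu, b, hb, h3⟩ := h.long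
  have h4 : ∀ v ∈ Q', v ∈ Subgroup.normalizer (Q : Set G) → v = 1 := fun v hv hv' => by
    obtain ⟨k, hk⟩ := h.pgrp ⟨_, (h2 v).1 hv⟩
    have h5 : v ^ p ^ k = 1 := by simpa [Subtype.ext_iff] using hk
    obtain ⟨j, -, h5⟩ := (Nat.dvd_prime_pow Fact.out).1 (orderOf_dvd_of_pow_eq_one h5)
    replace h5 := IsPGroup.of_card ((Nat.card_zpowers v).trans h5)
    have h6 := (P.is_maximal' (h.pgrp.to_sup_of_normal_left' h5 (Subgroup.zpowers_le.2 hv'))
      (hP.trans_le le_sup_left)).trans hP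
    exact Subgroup.mem_bot.1 (h.tri ▸ ⟨h6 ▸ Subgroup.mem_sup_right (Subgroup.mem_zpowers v), hv⟩)
  have h5 : Opp Q n := ⟨fun q hq h => by
      simpa [mul_assoc] using congrArg (n * · * n⁻¹)
        (h4 _ ((h2 _).2 (by simpa [mul_assoc] using hq)) h),
    fun q hq h => by
      simpa [mul_assoc] using congrArg (n⁻¹ * · * n) (h4 _ ((h1 _).1 hq) (by simpa using h))⟩
  have hQ : ∀ {x}, x ∈ Q → x ∈ Subgroup.normalizer (Q : Set G) := fun h => Subgroup.le_normalizer h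
  have h6 : ∀ g, Opp Q g → ∃ q ∈ Q, ∃ m ∈ Subgroup.normalizer (Q : Set G), g = q * n * m := by
    intro g hg
    obtain ⟨u, hu, m, hm, b, hb, rfl⟩ := h.bruhat g
    have hm' : Opp Q m := by simpa using (hg.mul_right (hQ (inv_mem hb))).mul_left (hQ (inv_mem hu))
    refine ⟨u, hu, n⁻¹ * m * b, mul_mem (Subgroup.mem_normalizer_fintype fun x hx => ?_) (hQ hb),
      by group⟩
    obtain ⟨a, ha, c, -, h7, h8, rfl⟩ := h.fac m hm x hx
    obtain rfl := hm'.2 a ha (by simpa using hQ h7)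
    exact (h1 _).2 (by simpa [mul_assoc] using h8)
  have h7 : OppData p Q := by
    refine ⟨h.pgrp, fun g g' hg hg' => ?_, n, _, h5, (h5.mul_left (hQ hu)).mul_right (hQ hb), ?_⟩
    · obtain ⟨q, hq, m, hm, rfl⟩ := h6 g hg
      obtain ⟨q', hq', m', hm', rfl⟩ := h6 g' hg'
      exact ⟨q' * q⁻¹, mul_mem hq' (inv_mem hq), m⁻¹ * m', mul_mem (inv_mem hm) hm', by group⟩
    · have := h5.inv.mul_left (hQ ((h1 (n⁻¹ * (u * n * b) * n)).2 (by simpa [mul_assoc] using h3)))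
      simpa using this
  refine ⟨Q, h.pgrp, h7.pRigid_of_closure h5 fun F hF hF' => eq_top_iff.2 (h.gen ▸ sup_le hF ?_)⟩
  intro x hx
  simpa [mul_assoc] using hF' _ ((h1 (n⁻¹ * x * n)).2 (by simpa [mul_assoc] using hx))

theorem BNLike.abExp (h : BNLike p Q Q' N) {n : ℕ} (hQ : AbExp n Q) (P : Sylow p G) :
    AbExp n (P : Subgroup G) := let ⟨S, hS⟩ := h.exists_sylow; sylow_abExp S (hS ▸ hQ) P

end Cfsg
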