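import Cfsg.Agent.Grp.Opp
import Mathlib.LinearAlgebra.Reflection

/-! Root group data: Bruhat decomposition. -/

set_option autoImplicit false

namespace Cfsg

universe u v

variable {ι : Type} [DecidableEq ι] {G : Type u} [Group G]

/-- simple root -/
abbrev sr (i : ι) : ι → ℤ := Pi.single i 1

/-- root group datum -/
structure RGD (ι : Type) [DecidableEq ι] (G : Type u) [Group G] where
  A : ι → Module.Dual ℤ (ι → ℤ)
  A_self : ∀ i, A i (sr i) = 2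
  I : Set ι
  X : (ι → ℤ) → Subgroup G
  S : ι → Set G
  fin : {μ | X μ ≠ ⊥}.Finite
  supp : ∀ μ, X μ ≠ ⊥ → ∀ i ∉ I, μ i = 0
  sign : ∀ μ, X μ ≠ ⊥ → (0 ≤ μ ∨ μ ≤ 0) ∧ μ ≠ 0
  red : ∀ μ i, X μ ≠ ⊥ → 0 ≤ μ → (∀ j ≠ i, μ j = 0) → μ = sr i
  comm : ∀ i ∈ I, ∀ μ, 0 ≤ μ → μ ≠ sr i → ∀ x ∈ X (sr i), ∀ y ∈ X μ,
    x * y * x⁻¹ ∈ ⨆ ν : {ν // ∃ a b : ℕ, 0 < b ∧ ν = a • sr i + b • μ}, X ν
  S_inv : ∀ i, ∀ m ∈ S i, m⁻¹ ∈ S i
  conj : ∀ i ∈ I, ∀ m ∈ S i, ∀ μ, ∀ y ∈ X μ, m * y * m⁻¹ ∈ X (Module.reflection (A_self i) μ)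
  sl2 : ∀ i ∈ I, ∀ x ∈ X (-sr i), x ≠ 1 → ∃ y ∈ X (sr i), ∃ y' ∈ X (sr i), y * x * y' ∈ S i
  ne : ∀ i ∈ I, X (-sr i) ≠ ⊥

theorem map_nonneg_of_sr [Finite ι] (f : (ι → ℤ) →ₗ[ℤ] (ι → ℤ)) {μ : ι → ℤ} (h : 0 ≤ μ)
    (hf : ∀ j, μ j ≠ 0 → 0 ≤ f (sr j)) : 0 ≤ f μ := by
  have := Fintype.ofFinite ι
  rw [pi_eq_sum_univ' μ, map_sum]
  refine Finset.sum_nonneg fun j _ => ?_
  by_cases hj : μ j = 0
  · simp [hj]
  · rw [map_smul]; exact smul_nonneg (h j) (hf j hj)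

theorem map_nonpos_of_sr [Finite ι] (f : (ι → ℤ) →ₗ[ℤ] (ι → ℤ)) {μ : ι → ℤ} (h : 0 ≤ μ)
    (hf : ∀ j, μ j ≠ 0 → f (sr j) ≤ 0) : f μ ≤ 0 := by
  simpa using map_nonneg_of_sr (-f) h (by simpa using hf)

namespace RGD

variable (R : RGD ι G)

/-- subgroup generated by some root groups -/
def XS (P : (ι → ℤ) → Prop) : Subgroup G := ⨆ μ : {μ // P μ}, R.X μ

/-- positive unipotent subgroup -/
abbrev U : Subgroup G := R.XS (0 ≤ ·)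
/-- negative unipotent subgroup -/
abbrev V : Subgroup G := R.XS (· ≤ 0)
/-- simple reflection -/
abbrev σ (i : ι) : (ι → ℤ) ≃ₗ[ℤ] (ι → ℤ) := Module.reflection (R.A_self i)

/-- monomial elements, with their images in the Weyl group -/
def NN : Subgroup (G × ((ι → ℤ) ≃ₗ[ℤ] (ι → ℤ))) :=
  Subgroup.closure {z | ∃ i ∈ R.I, z.1 ∈ R.S i ∧ z.2 = R.σ i}

/-- number of inversions -/
noncomputable def inv (w : (ι → ℤ) ≃ₗ[ℤ] (ι → ℤ)) : ℕ := {μ | R.X μ ≠ ⊥ ∧ 0 ≤ μ ∧ w μ ≤ 0}.ncard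

variable {R} {P P' : (ι → ℤ) → Prop} {μ : ι → ℤ} {z : G × ((ι → ℤ) ≃ₗ[ℤ] (ι → ℤ))}

theorem mem_XS (h : P μ) {y : G} (hy : y ∈ R.X μ) : y ∈ R.XS P :=
  Subgroup.mem_iSup_of_mem (⟨μ, h⟩ : {μ // P μ}) hy

theorem XS_le {K : Subgroup G} (h : ∀ μ, R.X μ ≠ ⊥ → P μ → R.X μ ≤ K) : R.XS P ≤ K :=
  iSup_le fun μ => by
    by_cases h1 : R.X μ = ⊥
    · exact h1.trans_le bot_le
    · exact h _ h1 μ.2

theorem XS_mono (h : ∀ μ, R.X μ ≠ ⊥ → P μ → P' μ) : R.XS P ≤ R.XS P' :=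
  XS_le fun μ h1 h2 _ => mem_XS (h μ h1 h2)

theorem conj_XS {K : Subgroup G} {g : G}
    (h : ∀ μ, R.X μ ≠ ⊥ → P μ → ∀ y ∈ R.X μ, g * y * g⁻¹ ∈ K) {y : G} (hy : y ∈ R.XS P) :
    g * y * g⁻¹ ∈ K := XS_le (K := K.comap (MulAut.conj g).toMonoidHom) h hy

theorem mem_NN {i : ι} (hi : i ∈ R.I) {m : G} (hm : m ∈ R.S i) : (m, R.σ i) ∈ R.NN :=
  Subgroup.subset_closure ⟨i, hi, hm, rfl⟩

theorem NN_induction {C : G × ((ι → ℤ) ≃ₗ[ℤ] (ι → ℤ)) → Prop} (h : z ∈ R.NN) (h1 : C 1)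
    (hS : ∀ i ∈ R.I, ∀ m ∈ R.S i, C (m, R.σ i)) (hm : ∀ z z', C z → C z' → C (z * z')) : C z := by
  induction h using Subgroup.closure_induction'' with
  | mem z h => obtain ⟨i, hi, h, h'⟩ := h; exact (show z = (z.1, R.σ i) from h' ▸ rfl) ▸ hS i hi _ h
  | inv_mem z h =>
    obtain ⟨i, hi, h, h'⟩ := h
    exact (show z⁻¹ = (z.1⁻¹, R.σ i) from Prod.ext rfl (congrArg (·⁻¹) h')) ▸
      hS i hi _ (R.S_inv i _ h)
  | one => exact h1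
  | mul z z' _ _ h h' => exact hm _ _ h h'

theorem conj_X (h : z ∈ R.NN) : ∀ {μ y}, y ∈ R.X μ → z.1 * y * z.1⁻¹ ∈ R.X (z.2 μ) :=
  NN_induction (C := fun z => ∀ {μ y}, y ∈ R.X μ → z.1 * y * z.1⁻¹ ∈ R.X (z.2 μ)) h (by simp)
    (fun i hi m hm _ _ hy => R.conj i hi m hm _ _ hy) fun z z' h h' μ y hy => by
      simpa [mul_assoc] using h (h' hy)

theorem root_map (h : z ∈ R.NN) (hμ : R.X μ ≠ ⊥) : R.X (z.2 μ) ≠ ⊥ := fun h1 =>
  hμ ((Subgroup.eq_bot_iff_forall _).2 fun y hy => by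
    simpa [h1, mul_inv_eq_one] using conj_X h hy)

theorem apply_of_notMem (h : z ∈ R.NN) {i : ι} (hi : i ∉ R.I) : ∀ μ, z.2 μ i = μ i :=
  NN_induction (C := fun z => ∀ μ, z.2 μ i = μ i) h (by simp) (fun j hj m _ μ => by
    simp [Module.reflection_apply, Pi.single_apply, show i ≠ j by rintro rfl; exact hi hj])
    fun z z' h h' μ => (h _).trans (h' μ)

theorem conj_XS_NN (h : z ∈ R.NN) (hP : ∀ μ, R.X μ ≠ ⊥ → P μ → P' (z.2 μ)) {y : G}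
    (hy : y ∈ R.XS P) : z.1 * y * z.1⁻¹ ∈ R.XS P' :=
  conj_XS (fun μ h1 h2 _ hy => mem_XS (hP μ h1 h2) (conj_X h hy)) hy

theorem exists_mem_S {i : ι} (hi : i ∈ R.I) : ∃ m, m ∈ R.S i := by
  obtain ⟨x, hx, h1⟩ := (R.X _).bot_or_exists_ne_one.resolve_left (R.ne i hi)
  obtain ⟨y, -, y', -, h⟩ := R.sl2 i hi x hx h1
  exact ⟨_, h⟩

theorem root_sr {i : ι} (hi : i ∈ R.I) : R.X (sr i) ≠ ⊥ := by
  obtain ⟨m, hm⟩ := exists_mem_S hi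
  simpa using root_map (mem_NN hi hm) (R.ne i hi)

theorem not_nonpos (hμ : R.X μ ≠ ⊥) (h : 0 ≤ μ) : ¬ μ ≤ 0 := fun h' =>
  (R.sign μ hμ).2 (le_antisymm h' h)

open Classical in
/-- restriction to a subset of the simple roots -/
noncomputable def res (R : RGD ι G) (J : Set ι) : RGD ι G where
  A := R.A
  A_self := R.A_self
  I := R.I ∩ J
  X μ := if ∀ i ∉ J, μ i = 0 then R.X μ else ⊥
  S := R.S
  fin := R.fin.subset fun μ h h' => h (by simp [h'])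
  supp μ h i hi := by
    split_ifs at h with h1
    exacts [(not_and_or.1 hi).elim (R.supp μ h i) (h1 i), (h rfl).elim]
  sign μ h := R.sign μ fun h' => h (by simp [h'])
  red μ i h := R.red μ i fun h' => h (by simp [h'])
  comm i hi μ h1 h2 x hx y hy := by
    have h4 : ∀ j ∉ J, sr i j = 0 := fun j hj => Pi.single_eq_of_ne (by rintro rfl; exact hj hi.2) _
    split_ifs at hy with h3
    · refine SetLike.le_def.1 (iSup_mono ?_)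
        (R.comm i hi.1 μ h1 h2 x (by rwa [if_pos h4] at hx) y hy)
      rintro ⟨ν, a, b, _, hν⟩
      rw [if_pos fun j hj => by simp [hν, h3 j hj, h4 j hj]]
    · simp [Subgroup.mem_bot.1 hy]
  S_inv := R.S_inv
  conj i hi m hm μ y hy := by
    split_ifs at hy with h3
    · rw [if_pos fun j hj => by simp [Module.reflection_apply, h3 j hj,
        Pi.single_eq_of_ne (show j ≠ i by rintro rfl; exact hj hi.2)]]
      exact R.conj i hi.1 m hm μ y hy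
    · simp [Subgroup.mem_bot.1 hy]
  sl2 i hi := by
    have h4 : ∀ j ∉ J, sr i j = 0 := fun j hj => Pi.single_eq_of_ne (by rintro rfl; exact hj hi.2) _
    rw [if_pos h4, if_pos (by simpa using h4)]
    exact R.sl2 i hi.1
  ne i hi := by
    rw [if_pos fun j hj => by simp [Pi.single_eq_of_ne (show j ≠ i by rintro rfl; exact hj hi.2)]]
    exact R.ne i hi.1

variable {J : Set ι}

theorem res_NN_le : (R.res J).NN ≤ R.NN :=
  Subgroup.closure_mono fun _ ⟨i, hi, h⟩ => ⟨i, hi.1, h⟩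

theorem res_XS : (R.res J).XS P = R.XS fun μ => P μ ∧ ∀ i ∉ J, μ i = 0 := by
  refine le_antisymm (XS_le fun μ h1 h2 y hy => ?_) (XS_le fun μ h1 h2 y hy => mem_XS h2.1 ?_)
  · simp only [res] at h1 hy
    split_ifs at h1 hy with h3
    exacts [mem_XS ⟨h2, h3⟩ hy, (h1 rfl).elim]
  · simp only [res]; rwa [if_pos h2.2]

theorem res_apply (h : z ∈ (R.res J).NN) {i : ι} (hi : i ∉ J) (μ : ι → ℤ) : z.2 μ i = μ i :=
  apply_of_notMem h (fun h => hi h.2) μ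

theorem res_pos (h : z ∈ (R.res J).NN) (hμ : R.X μ ≠ ⊥) (h0 : 0 ≤ μ) (hJ : ¬ ∀ i ∉ J, μ i = 0) :
    0 ≤ z.2 μ ∧ ¬ ∀ i ∉ J, z.2 μ i = 0 := by
  refine ⟨(R.sign _ (root_map (res_NN_le h) hμ)).1.resolve_right fun h1 => hJ fun i hi => ?_,
    fun h1 => hJ fun i hi => res_apply h hi μ ▸ h1 i hi⟩
  exact le_antisymm (res_apply h hi μ ▸ h1 i) (h0 i)

theorem mem_res_NN {i : ι} (hi : i ∈ R.I) {m : G} (hm : m ∈ R.S i) : (m, R.σ i) ∈ (R.res {i}).NN :=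
  (R.res {i}).mem_NN ⟨hi, rfl⟩ hm

theorem conj_S {i : ι} (hi : i ∈ R.I) {m : G} (hm : m ∈ R.S i) {y : G}
    (hy : y ∈ R.XS fun μ => 0 ≤ μ ∧ μ ≠ sr i) : m * y * m⁻¹ ∈ R.XS fun μ => 0 ≤ μ ∧ μ ≠ sr i :=
  conj_XS_NN (mem_NN hi hm) (fun μ h1 h2 => by
    have := res_pos (mem_res_NN hi hm) h1 h2.1 fun h => h2.2 (R.red μ i h1 h2.1 h)
    exact ⟨this.1, fun h => this.2 fun j hj => h ▸ Pi.single_eq_of_ne hj _⟩) hy

theorem exists_eq_mul_sr {i : ι} (hi : i ∈ R.I) {u : G} (hu : u ∈ R.U) :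
    ∃ a ∈ R.XS fun μ => 0 ≤ μ ∧ μ ≠ sr i, ∃ x ∈ R.X (sr i), a * x = u := by
  have h1 : ∀ x ∈ R.X (sr i), ∀ y ∈ R.XS fun μ => 0 ≤ μ ∧ μ ≠ sr i,
      x * y * x⁻¹ ∈ R.XS fun μ => 0 ≤ μ ∧ μ ≠ sr i := fun x hx y => conj_XS fun μ h1 h2 y hy =>
    XS_mono (P := fun ν => ∃ a b : ℕ, 0 < b ∧ ν = a • sr i + b • μ) (by
      rintro _ - ⟨a, b, hb, rfl⟩
      refine ⟨add_nonneg (nsmul_nonneg (Pi.single_nonneg.2 zero_le_one) _) (nsmul_nonneg h2.1 _),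
        fun h => h2.2 (R.red μ i h1 h2.1 fun j hj => ?_)⟩
      simpa [hj, hb.ne'] using congrFun h j) (R.comm i hi μ h2.1 h2.2 x hx y hy)
  have h2 := Subgroup.coe_mul_of_right_le_normalizer_left (R.XS fun μ => 0 ≤ μ ∧ μ ≠ sr i)
    (R.X (sr i)) fun x hx => Subgroup.mem_normalizer_iff.2 fun y => ⟨h1 x hx y, fun h => by
      simpa [mul_assoc] using h1 _ (inv_mem hx) _ h⟩
  refine h2.le (XS_le (fun μ _ h y hy => ?_) hu)
  by_cases h3 : μ = sr i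
  exacts [Subgroup.mem_sup_right (h3 ▸ hy), Subgroup.mem_sup_left (mem_XS ⟨h, h3⟩ hy)]

variable [Finite ι]

theorem inv_lt {v : G × ((ι → ℤ) ≃ₗ[ℤ] (ι → ℤ))} (h : z ∈ R.NN) (hv : v ∈ (R.res J).NN)
    (hz : ∀ j ∈ R.I ∩ J, 0 ≤ z.2 (sr j)) {j : ι} (hj : j ∈ R.I ∩ J) (hvj : v.2 (sr j) ≤ 0) :
    R.inv z.2 < R.inv (z * v).2 := by
  have h1 : ∀ μ, R.X μ ≠ ⊥ → 0 ≤ μ → (∀ i ∉ J, μ i = 0) → 0 ≤ z.2 μ := fun μ h1 h2 h3 =>
    map_nonneg_of_sr z.2.toLinearMap h2 fun i hi =>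
      hz i ⟨by_contra fun h => hi (R.supp μ h1 i h), by_contra fun h => hi (h3 i h)⟩
  have h2 : ∀ i ∉ J, sr j i = 0 := fun i hi => Pi.single_eq_of_ne (by rintro rfl; exact hi hj.2) _
  rw [inv, ← Set.ncard_image_of_injective _ v⁻¹.2.injective]
  refine Set.ncard_lt_ncard ((Set.ssubset_iff_of_subset ?_).2 ⟨sr j, ⟨root_sr hj.1,
    Pi.single_nonneg.2 zero_le_one, ?_⟩, ?_⟩) (R.fin.subset fun _ h => h.1)
  · rintro _ ⟨μ, ⟨h3, h4, h5⟩, rfl⟩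
    exact ⟨root_map (res_NN_le (inv_mem hv)) h3, (res_pos (inv_mem hv) h3 h4 fun h6 =>
      not_nonpos (root_map h h3) (h1 μ h3 h4 h6) h5).1, by simpa using h5⟩
  · have h3 := root_map (res_NN_le hv) (root_sr hj.1)
    simpa using map_nonneg_of_sr z.2.toLinearMap (neg_nonneg.2 hvj) fun i hi =>
      hz i ⟨by_contra fun h => hi (by simp [R.supp _ h3 i h]),
        by_contra fun h => hi (by simp [res_apply hv h, h2 i h])⟩
  · rintro ⟨μ, ⟨h3, h4, h5⟩, h6⟩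
    exact (res_pos (inv_mem hv) h3 h4 fun h6 =>
      not_nonpos (root_map h h3) (h1 μ h3 h4 h6) h5).2 (h6 ▸ h2)

theorem inv_lt_S (h : z ∈ R.NN) {i : ι} (hi : i ∈ R.I) {m : G} (hm : m ∈ R.S i)
    (hz : 0 ≤ z.2 (sr i)) : R.inv z.2 < R.inv (z * (m, R.σ i)).2 :=
  inv_lt h (mem_res_NN hi hm) (by rintro _ ⟨-, rfl⟩; exact hz) (j := i) ⟨hi, rfl⟩ (by simp)

theorem exists_long_of {T : Set (G × ((ι → ℤ) ≃ₗ[ℤ] (ι → ℤ)))} (hT : T ⊆ R.NN) (h0 : T.Nonempty)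
    (h : ∀ z ∈ T, ∀ i ∈ R.I, 0 ≤ z.2 (sr i) → ∃ z' ∈ T, R.inv z.2 < R.inv z'.2) :
    ∃ z ∈ T, ∀ μ, R.X μ ≠ ⊥ → (0 ≤ μ ↔ z.2 μ ≤ 0) ∧ (μ ≤ 0 ↔ 0 ≤ z.2 μ) := by
  obtain ⟨z, hz, h1⟩ := (InvImage.wf (fun z : G × _ => {μ | R.X μ ≠ ⊥}.ncard - R.inv z.2)
    Nat.lt_wfRel.wf).has_min T h0
  have h2 : ∀ μ, 0 ≤ μ → (∀ i ∉ R.I, μ i = 0) → z.2 μ ≤ 0 := fun μ h2 h3 =>
    map_nonpos_of_sr z.2.toLinearMap h2 fun i hi => by
      have hi : i ∈ R.I := by_contra fun h => hi (h3 i h)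
      refine (R.sign _ (root_map (hT hz) (root_sr hi))).1.resolve_left fun h4 => ?_
      obtain ⟨z', hz', h5⟩ := h z hz i hi h4
      have h6 : R.inv z'.2 ≤ {μ | R.X μ ≠ ⊥}.ncard := Set.ncard_le_ncard (fun _ h => h.1) R.fin
      exact h1 z' hz' (Nat.sub_lt_sub_left (by omega) h5)
  refine ⟨z, hz, fun μ hμ => ?_⟩
  have h3 : 0 ≤ μ → z.2 μ ≤ 0 := fun h => h2 μ h (R.supp μ hμ)
  have h4 : μ ≤ 0 → 0 ≤ z.2 μ := fun h => by
    simpa using h2 (-μ) (neg_nonneg.2 h) (by simpa using R.supp μ hμ)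
  have h5 := not_nonpos (root_map (hT hz) hμ)
  exact ⟨⟨h3, fun h => (R.sign μ hμ).1.resolve_right fun h' => h5 (h4 h') h⟩,
    h4, fun h => (R.sign μ hμ).1.resolve_left fun h' => h5 h (h3 h')⟩

theorem fac (h : z ∈ R.NN) {u : G} (hu : u ∈ R.U) : ∃ a ∈ R.U,
    ∃ b ∈ R.XS fun μ => 0 ≤ μ ∧ z.2 μ ≤ 0, z.1 * a * z.1⁻¹ ∈ R.U ∧ u = a * b := by
  induction hn : R.inv z.2 using Nat.strong_induction_on generalizing z u with
  | _ n ih =>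
  by_cases h1 : ∀ i ∈ R.I, 0 ≤ z.2 (sr i)
  · exact ⟨u, hu, 1, one_mem _, conj_XS_NN h (fun μ h2 h3 => map_nonneg_of_sr z.2.toLinearMap h3
      fun i hi => h1 i (by_contra fun h => hi (R.supp μ h2 i h))) hu, (mul_one u).symm⟩
  push Not at h1
  obtain ⟨i, hi, h1⟩ := h1
  replace h1 := (R.sign _ (root_map h (root_sr hi))).1.resolve_left h1
  obtain ⟨m, hm⟩ := exists_mem_S hi
  have hm' := R.S_inv i m hm
  have h2 : 0 ≤ (z * (m, R.σ i)).2 (sr i) := by simpa using h1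
  have h3 := inv_lt_S (mul_mem h (mem_NN hi hm)) hi hm' h2
  rw [mul_assoc, show (m, R.σ i) * (m⁻¹, R.σ i) = 1 from mul_inv_cancel (m, R.σ i), mul_one] at h3
  obtain ⟨c, hc, x, hx, rfl⟩ := exists_eq_mul_sr hi hu
  have hc' := conj_S hi hm' hc
  obtain ⟨a, -, b, hb, h4, h5⟩ := ih _ (hn ▸ h3) (mul_mem h (mem_NN hi hm))
    (XS_mono (fun _ _ h => h.1) hc') rfl
  have h6 : ∀ μ, R.X μ ≠ ⊥ → 0 ≤ μ ∧ (z * (m, R.σ i)).2 μ ≤ 0 → 0 ≤ μ ∧ μ ≠ sr i :=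
    fun μ h6 h7 => ⟨h7.1, by
      rintro rfl; exact not_nonpos (root_map (mul_mem h (mem_NN hi hm)) h6) h2 h7.2⟩
  rw [h5, mul_mem_cancel_right (XS_mono h6 hb)] at hc'
  refine ⟨_, XS_mono (fun _ _ h => h.1) (conj_S hi hm hc'), m * b * m⁻¹ * x, mul_mem
    (conj_XS_NN (mem_NN hi hm) (fun μ h7 h8 => ⟨(res_pos (mem_res_NN hi hm) h7 h8.1 fun h9 =>
      (h6 μ h7 h8).2 (R.red μ i h7 h8.1 h9)).1, h8.2⟩) hb)
    (mem_XS ⟨Pi.single_nonneg.2 zero_le_one, h1⟩ hx), by simpa [mul_assoc] using h4, ?_⟩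
  rw [show c = m * (a * b) * m⁻¹ by rw [← h5]; group]
  group

theorem bruhat {g : G} (hg : g ∈ R.XS fun _ => True) :
    ∃ u ∈ R.U, ∃ z ∈ R.NN, ∃ b ∈ R.XS fun μ => 0 ≤ μ ∧ z.2 μ ≤ 0, g = u * z.1 * b := by
  let B : G → Prop := fun g => ∃ u ∈ R.U, ∃ z ∈ R.NN, ∃ b ∈ R.U, g = u * z.1 * b
  have hU : ∀ y ∈ R.U, ∀ g, B g → B (g * y) := by
    rintro y hy _ ⟨u, hu, z, hz, b, hb, rfl⟩
    exact ⟨u, hu, z, hz, b * y, mul_mem hb hy, mul_assoc _ _ _⟩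
  have h0 : ∀ {i : ι}, 0 ≤ sr i := Pi.single_nonneg.2 zero_le_one
  have hS : ∀ i ∈ R.I, ∀ m ∈ R.S i, ∀ g, B g → B (g * m) := by
    rintro i hi m hm _ ⟨u, hu, z, hz, b, hb, rfl⟩
    obtain ⟨c, hc, x, hx, h1⟩ := exists_eq_mul_sr hi (inv_mem hb)
    have h2 : ∀ z ∈ R.NN, 0 ≤ z.2 (sr i) → ∀ x ∈ R.X (sr i), ∀ m ∈ R.S i, B (u * z.1 * x * m) :=
      fun z hz h x hx m hm => ⟨u * (z.1 * x * z.1⁻¹), mul_mem hu (mem_XS h (conj_X hz hx)), _,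
        mul_mem hz (mem_NN hi hm), 1, one_mem _, by simp [mul_assoc]⟩
    rw [show u * z.1 * b * m = u * z.1 * x⁻¹ * m * (m⁻¹ * c * m⁻¹⁻¹)⁻¹ by
      rw [← inv_inv b, ← h1]; group]
    refine hU _ (inv_mem (XS_mono (fun _ _ h => h.1) (conj_S hi (R.S_inv i m hm) hc))) _ ?_
    refine (R.sign _ (root_map hz (root_sr hi))).1.elim (fun h => h2 z hz h _ (inv_mem hx) m hm)
      fun h => ?_
    have h3 := conj_X (mem_NN hi (R.S_inv i m hm)) (inv_mem hx)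
    by_cases h4 : m⁻¹ * x⁻¹ * m⁻¹⁻¹ = 1
    · exact ⟨u, hu, _, mul_mem hz (mem_NN hi hm), _, h4 ▸ one_mem _, by simp [mul_assoc]⟩
    obtain ⟨y, hy, y', hy', h5⟩ := R.sl2 i hi _ (by simpa using h3) h4
    have := hU _ (mem_XS h0 (inv_mem hy')) _
      (h2 _ (mul_mem hz (mem_NN hi hm)) (by simpa using h) _ (inv_mem hy) _ h5)
    simpa [mul_assoc] using this
  have hN : ∀ z ∈ R.NN, ∀ g, B g → B (g * z.1) := fun z hz => NN_induction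
    (C := fun z => ∀ g, B g → B (g * z.1)) hz (by simp) hS fun z z' h h' g hg => by
      simpa [mul_assoc] using h' _ (h g hg)
  obtain ⟨w, hw, h1⟩ := exists_long_of (T := R.NN) le_rfl ⟨1, one_mem _⟩ fun z hz i hi h =>
    (exists_mem_S hi).elim fun _ hm => ⟨_, R.NN.mul_mem hz (mem_NN hi hm), inv_lt_S hz hi hm h⟩
  have h2 : ∀ g', B g' → B (g' * g) := by
    refine Subgroup.iSup_induction _ (C := fun g => ∀ g', B g' → B (g' * g)) hg (fun μ y hy => ?_)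
      (by simp) fun y y' h h' g hg => mul_assoc g y y' ▸ h' _ (h g hg)
    by_cases h2 : R.X μ = ⊥
    · simp [Subgroup.mem_bot.1 (h2 ▸ hy)]
    refine (R.sign _ h2).1.elim (fun h => hU y (mem_XS h hy)) fun h g hg => ?_
    simpa [mul_assoc] using hN _ hw _ (hU _ (mem_XS ((h1 _ h2).2.1 h) (conj_X hw hy)) _
      (hN _ (inv_mem hw) g hg))
  obtain ⟨u, hu, z, hz, b, hb, h3⟩ := h2 1 ⟨1, one_mem _, 1, one_mem _, 1, one_mem _, by simp⟩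
  obtain ⟨a, -, c, hc, h4, rfl⟩ := fac hz hb
  exact ⟨_, mul_mem hu h4, z, hz, c, hc, by rw [← one_mul g, h3]; group⟩

theorem exchange (hI : R.I = Set.univ) (h : z ∈ R.NN) {i j : ι} (hz : z.2 (sr j) = sr i) :
    R.σ i * z.2 * R.σ j = z.2 := by
  have hi : ∀ i, i ∈ R.I := fun i => hI ▸ trivial
  have h1 := Module.Dual.eq_of_preReflection_mapsTo R.fin (x := sr i) (by
      rw [eq_top_iff, ← (Pi.basisFun ℤ ι).span_eq]
      exact Submodule.span_mono (by rintro _ ⟨k, rfl⟩; simpa using root_sr (hi k)))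
    (R.A_self i) (fun μ hμ => root_map (mem_NN (hi i) (exists_mem_S (hi i)).choose_spec) hμ)
    (g := R.A j ∘ₗ z.2.symm.toLinearMap) (by simp [← hz, R.A_self]) fun μ hμ => by
      simpa [Module.preReflection_apply, Module.reflection_apply, hz, -zsmul_eq_mul] using root_map (mul_mem
        (mul_mem h (mem_NN (hi j) (exists_mem_S (hi j)).choose_spec)) (inv_mem h)) hμ
  rw [mul_assoc, ← eq_inv_mul_iff_mul_eq]
  exact LinearEquiv.ext fun μ => by simp [Module.reflection_apply, hz, h1, -zsmul_eq_mul]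

theorem eq_one_of_pos (hI : R.I = Set.univ) (h : z ∈ R.NN) (hz : ∀ i, 0 ≤ z.2 (sr i)) :
    z.2 = 1 := by
  have hi : ∀ i, i ∈ R.I := fun i => hI ▸ trivial
  have h1 : ∀ l : List ι, ∃ n, (n, (l.map R.σ).prod) ∈ R.NN := fun l => by
    induction l with
    | nil => exact ⟨1, one_mem _⟩
    | cons i l ih => exact ⟨_, mul_mem (mem_NN (hi i) (exists_mem_S (hi i)).choose_spec) ih.choose_spec⟩
  have h2 : ∀ (l : List ι) j, (l.map R.σ).prod (sr j) ≤ 0 →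
      ∃ l' : List ι, l'.length < l.length ∧ (l'.map R.σ).prod = (l.map R.σ).prod * R.σ j := by
    intro l j h
    induction l with
    | nil => exact (not_nonpos (root_sr (hi j)) (Pi.single_nonneg.2 zero_le_one) h).elim
    | cons i l ih =>
    obtain ⟨n, hn⟩ := h1 l
    have h3 := root_map hn (root_sr (hi j))
    rcases (R.sign _ h3).1 with h4 | h4
    swap
    · obtain ⟨l', h5, h6⟩ := ih h4
      exact ⟨i :: l', by simpa using h5, by simp [h6, mul_assoc]⟩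
    obtain ⟨m, hm⟩ := exists_mem_S (hi i)
    exact ⟨l, by simp, (exchange hI hn (R.red _ i h3 h4 (by_contra fun h5 => not_nonpos
      (root_map (mem_NN (hi i) hm) h3) (res_pos (mem_res_NN (hi i) hm) h3 h4 h5).1 h))).symm⟩
  obtain ⟨l, hl⟩ : ∃ l : List ι, (l.map R.σ).prod = z.2 := NN_induction
    (C := fun z => ∃ l : List ι, (l.map R.σ).prod = z.2) h ⟨[], rfl⟩ (fun i _ _ _ => ⟨[i], by simp⟩)
    fun z z' ⟨l, h⟩ ⟨l', h'⟩ => ⟨l ++ l', by simp [h, h']⟩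
  induction hn : l.length using Nat.strong_induction_on generalizing l with
  | _ n ih =>
  rcases l.eq_nil_or_concat with rfl | ⟨l, j, rfl⟩
  · exact hl.symm
  rw [List.concat_eq_append, List.map_append, List.prod_append, List.map_singleton,
    List.prod_singleton] at hl
  obtain ⟨l', h3, h4⟩ := h2 l j (by simpa [← hl] using hz j)
  exact ih _ (hn ▸ by simp; omega) l' (h4.trans hl) rfl

end RGD

end Cfsg
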