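import Cfsg.Agent.Grp.RGD

/-! Root group data: descent to the fixed points of a Steinberg endomorphism. -/

set_option autoImplicit false

namespace Cfsg.RGD

universe u v w

variable {ι : Type} [DecidableEq ι] {Γ : Type u} [Group Γ] {G₀ : Type v} [Group G₀]

/-- two maps from a group with a root group datum, whose equaliser is the twisted group -/
structure Tw (R : RGD ι Γ) (p : ℕ) (f₁ f₂ : Γ →* G₀) (β : ι → ι) where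
  U₀ : Subgroup G₀
  V₀ : Subgroup G₀
  N₀ : Subgroup G₀
  top : R.I = Set.univ
  hU : R.U.map f₁ = U₀
  hU₂ : ∀ u ∈ R.U, f₂ u ∈ U₀
  hV : ∀ u ∈ R.V, f₁ u ∈ V₀ ∧ f₂ u ∈ V₀
  hN : ∀ z ∈ R.NN, f₁ z.1 ∈ N₀ ∧ f₂ z.1 ∈ N₀
  tri : U₀ ⊓ V₀ = ⊥
  t1 : ∀ u ∈ U₀, ∀ v ∈ V₀, u * v ∈ N₀ → u * v = 1
  inj : ∀ g, f₁ g = 1 → f₂ g = 1 → g = 1
  pgrp : IsPGroup p U₀
  t2 : ∀ n, (n, 1) ∈ R.NN → ∀ k : ℕ, n ^ p ^ k = 1 → f₁ n = 1
  orb : ∀ i, ∃ x ∈ R.X (sr i), ∃ x' ∈ R.X (sr (β i)), f₂ x = f₁ x' ∧ f₁ x' ≠ 1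
  per : ∀ i, β (β i) = i ∨ β (β (β i)) = i

/-- orbit of a simple root -/
def orbJ (β : ι → ι) (i : ι) : Set ι := {i, β i, β (β i)}

variable {R : RGD ι Γ} {p : ℕ} {f₁ f₂ : Γ →* G₀} {β : ι → ι} (T : R.Tw p f₁ f₂ β)
  {z : Γ × ((ι → ℤ) ≃ₗ[ℤ] (ι → ℤ))}
include T

namespace Tw

theorem hI (i : ι) : i ∈ R.I := T.top ▸ trivial

theorem hU₁ {u : Γ} (h : u ∈ R.U) : f₁ u ∈ T.U₀ := T.hU ▸ ⟨u, h, rfl⟩

theorem eq_one {g : G₀} (h : g ∈ T.U₀) (h' : g ∈ T.V₀) : g = 1 :=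
  Subgroup.mem_bot.1 (T.tri ▸ ⟨h, h'⟩)

theorem eq_one' {g : Γ} (h : g ∈ R.U) (h' : g ∈ R.V) : g = 1 :=
  T.inj g (T.eq_one (T.hU₁ h) (T.hV g h').1) (T.eq_one (T.hU₂ g h) (T.hV g h').2)

theorem fac_mem {n a b : Γ} (hn : n ∈ f₁.eqLocus f₂) (ha : n * a * n⁻¹ ∈ R.U)
    (hb : n * b * n⁻¹ ∈ R.V) (h : a * b ∈ f₁.eqLocus f₂) : a ∈ f₁.eqLocus f₂ := by
  have h1 : f₁ (n * a * n⁻¹) * f₁ (n * b * n⁻¹) = f₂ (n * a * n⁻¹) * f₂ (n * b * n⁻¹) := by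
    have : f₁ (n * (a * b) * n⁻¹) = f₂ (n * (a * b) * n⁻¹) := mul_mem (mul_mem hn h) (inv_mem hn)
    rwa [show n * (a * b) * n⁻¹ = n * a * n⁻¹ * (n * b * n⁻¹) by group, map_mul, map_mul f₂] at this
  have h2 := T.eq_one (mul_mem (inv_mem (T.hU₂ _ ha)) (T.hU₁ ha)) (by
    rw [eq_mul_inv_of_mul_eq h1, mul_assoc (f₂ _), inv_mul_cancel_left]
    exact mul_mem (T.hV _ hb).2 (inv_mem (T.hV _ hb).1))
  have h3 : n * a * n⁻¹ ∈ f₁.eqLocus f₂ := (inv_mul_eq_one.1 h2).symm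
  rwa [mul_mem_cancel_right (inv_mem hn), mul_mem_cancel_left hn] at h3

theorem orbJ_symm {i j : ι} (h : j ∈ orbJ β i) : i ∈ orbJ β j := by
  have := T.per i
  rcases h with rfl | rfl | rfl <;> simp only [orbJ, Set.mem_insert_iff, Set.mem_singleton_iff] <;>
    tauto

theorem orb_neg (h : z ∈ R.NN) (hz : z.1 ∈ f₁.eqLocus f₂) {i : ι} (hi : z.2 (sr i) ≤ 0) :
    ∀ j ∈ orbJ β i, z.2 (sr j) ≤ 0 := by
  have h1 : ∀ i, z.2 (sr i) ≤ 0 → z.2 (sr (β i)) ≤ 0 := fun i hi => by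
    obtain ⟨x, hx, x', hx', h1, h2⟩ := T.orb i
    refine (R.sign _ (root_map h (root_sr (T.hI _)))).1.resolve_left fun h3 => h2 ?_
    have h4 := T.eq_one (T.hU₁ (mem_XS (P := (0 ≤ ·)) h3 (conj_X h hx'))) (by
      have e : f₁ z.1 = f₂ z.1 := hz
      have := (T.hV _ (mem_XS (P := (· ≤ 0)) hi (conj_X h hx))).2
      rwa [map_mul, map_mul, map_inv, h1, ← e, ← map_inv, ← map_mul, ← map_mul] at this)
    rwa [map_mul, map_mul, map_inv, mul_inv_eq_one, mul_eq_left] at h4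
  rintro _ (rfl | rfl | rfl)
  exacts [hi, h1 _ hi, h1 _ (h1 _ hi)]

theorem orb_pos (h : z ∈ R.NN) (hz : z.1 ∈ f₁.eqLocus f₂) {i : ι} (hi : 0 ≤ z.2 (sr i)) :
    ∀ j ∈ orbJ β i, 0 ≤ z.2 (sr j) := fun _ hj =>
  (R.sign _ (root_map h (root_sr (T.hI _)))).1.resolve_right fun h1 =>
    not_nonpos (root_map h (root_sr (T.hI _))) hi (T.orb_neg h hz h1 i (T.orbJ_symm hj))

variable [Finite ι]

theorem uniq (h : z ∈ R.NN) {u b : Γ} (hu : u ∈ R.U) (hb : b ∈ R.XS fun μ => 0 ≤ μ ∧ z.2 μ ≤ 0)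
    (hE : u * z.1 * b ∈ f₁.eqLocus f₂) :
    u ∈ f₁.eqLocus f₂ ∧ z.1 ∈ f₁.eqLocus f₂ ∧ b ∈ f₁.eqLocus f₂ := by
  have hb' : b ∈ R.U := XS_mono (fun _ _ h => h.1) hb
  obtain ⟨c, hc, h1⟩ := T.hU.ge (mul_mem (T.hU₁ hb') (inv_mem (T.hU₂ _ hb')))
  obtain ⟨a, -, d, hd, h2, rfl⟩ := fac h hc
  have h3 : (f₂ u)⁻¹ * f₁ (u * (z.1 * a * z.1⁻¹)) * f₁ (z.1 * d * z.1⁻¹) = f₂ z.1 * (f₁ z.1)⁻¹ := by
    have h3 : f₁ (u * z.1 * b) = f₂ (u * z.1 * b) := hE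
    rw [map_mul, map_mul, map_mul, map_mul] at h3
    rw [map_mul, eq_mul_inv_iff_mul_eq] at h1
    rw [← h1, ← mul_assoc, mul_left_inj, eq_comm, mul_assoc, ← eq_inv_mul_iff_mul_eq] at h3
    simp [h3, mul_assoc]
  have h4 := T.t1 _ (mul_mem (inv_mem (T.hU₂ _ hu)) (T.hU₁ (mul_mem hu h2))) _
    (T.hV _ (conj_XS_NN h (fun _ _ h => h.2) hd)).1
    (h3 ▸ mul_mem (T.hN z h).2 (inv_mem (T.hN z h).1))
  have h5 : z.1 ∈ f₁.eqLocus f₂ := (mul_inv_eq_one.1 (h3 ▸ h4)).symm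
  have h6 := T.fac_mem (one_mem _) (by simpa using hu)
    (b := z.1 * b * z.1⁻¹) (by simpa using conj_XS_NN h (fun _ _ h => h.2) hb)
    (by simpa [mul_assoc] using mul_mem hE (inv_mem h5))
  exact ⟨h6, h5, (mul_mem_cancel_left (mul_mem h6 h5)).1 hE⟩

theorem mem_of_conj (h : z ∈ R.NN) {u : Γ} (hu : u ∈ R.U) (hu' : z.1 * u * z.1⁻¹ ∈ R.V) :
    u ∈ R.XS fun μ => 0 ≤ μ ∧ z.2 μ ≤ 0 := by
  obtain ⟨a, -, b, hb, h1, rfl⟩ := fac h hu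
  have := T.eq_one' h1 (by
    simpa [mul_assoc] using mul_mem hu' (inv_mem (conj_XS_NN h (fun _ _ h => h.2) hb)))
  rwa [show a = 1 by simpa [mul_inv_eq_one] using this, one_mul]

variable {H : Subgroup Γ} (hE : H ≤ f₁.eqLocus f₂)
  (hZ : ∀ i, (R.res (orbJ β i)).U ⊓ f₁.eqLocus f₂ ≤ H)
  (hY : ∀ i, (R.res (orbJ β i)).V ⊓ H ≠ ⊥)
include hE hZ hY

theorem exists_longJ (i : ι) : ∃ v ∈ (R.res (orbJ β i)).NN, v.1 ∈ H ∧
    (∀ μ, R.X μ ≠ ⊥ → 0 ≤ μ → ((∀ j ∉ orbJ β i, μ j = 0) ↔ v.2 μ ≤ 0) ∧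
      ((∀ j ∉ orbJ β i, μ j = 0) ↔ v⁻¹.2 μ ≤ 0)) ∧
    ∃ a ∈ R.U ⊓ f₁.eqLocus f₂, ∃ b ∈ R.U ⊓ f₁.eqLocus f₂, a * v.1 * b ∈ R.V ⊓ H ∧
      (R.res (orbJ β i)).U ⊓ H ≠ ⊥ := by
  obtain ⟨y, hy, h1⟩ := (Subgroup.bot_or_exists_ne_one _).resolve_left (hY i)
  obtain ⟨hy, hyH⟩ := Subgroup.mem_inf.1 hy
  obtain ⟨a, ha, v, hv, b, hb, rfl⟩ := bruhat (XS_mono (fun _ _ _ => trivial) hy)
  have hv' := res_NN_le hv
  have hle : ∀ {P}, (R.res (orbJ β i)).XS P ≤ R.XS P := fun {P} =>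
    res_XS.trans_le (XS_mono fun _ _ h => h.1)
  obtain ⟨h2, h3, h4⟩ := T.uniq hv' (hle ha) (hle hb) (hE hyH)
  have hb' := XS_mono (fun _ _ h => h.1) hb
  have h5 : ∃ j ∈ orbJ β i, v.2 (sr j) ≤ 0 := by
    by_contra! h5
    have h6 := mul_mem (hle ha) (conj_XS_NN hv' (P' := (0 ≤ ·)) (fun μ h6 h7 =>
      map_nonneg_of_sr v.2.toLinearMap h7.1 fun j hj => (R.sign _ (root_map hv'
        (root_sr (T.hI j)))).1.resolve_right (h5 j (by_contra fun h => hj (h7.2 j h))))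
      (res_XS.le hb'))
    have h7 : v.1 = (a * (v.1 * b * v.1⁻¹))⁻¹ * (a * v.1 * b) := by group
    have h8 : v.1 = 1 := T.inj _
      (by rw [h7, map_mul]; exact T.t1 _ (T.hU₁ (inv_mem h6)) _ (T.hV _ (hle hy)).1 (by
        rw [← map_mul, ← h7]; exact (T.hN v hv').1))
      (by rw [h7, map_mul]; exact T.t1 _ (T.hU₂ _ (inv_mem h6)) _ (T.hV _ (hle hy)).2 (by
        rw [← map_mul, ← h7]; exact (T.hN v hv').2))
    exact h1 (T.eq_one' (by simpa [h8] using mul_mem (hle ha) (hle hb')) (hle hy))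
  obtain ⟨j, hj, h5⟩ := h5
  have h6 : ∀ μ, 0 ≤ μ → (∀ j ∉ orbJ β i, μ j = 0) → v.2 μ ≤ 0 := fun μ h6 h7 =>
    map_nonpos_of_sr v.2.toLinearMap h6 fun k hk => T.orb_neg hv' h3 (T.orb_neg hv' h3 h5 i
      (T.orbJ_symm hj)) k (by_contra fun h => hk (h7 k h))
  have h7 : v.1 ∈ H := by
    rwa [mul_mem_cancel_right (hZ i ⟨hb', h4⟩), mul_mem_cancel_left (hZ i ⟨ha, h2⟩)] at hyH
  refine ⟨v, hv, h7, fun μ h8 h9 => ⟨⟨h6 μ h9, fun h => by_contra fun h' =>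
    not_nonpos (root_map hv' h8) (res_pos hv h8 h9 h').1 h⟩, fun h => ?_, fun h => by_contra
    fun h' => not_nonpos (root_map (inv_mem hv') h8) (res_pos (inv_mem hv) h8 h9 h').1 h⟩, a,
    ⟨hle ha, h2⟩, b, ⟨hle hb', h4⟩, ⟨hle hy, hyH⟩, fun h => h1 ?_⟩
  · refine (R.sign _ (root_map (inv_mem hv') h8)).1.resolve_left fun h' => not_nonpos h8 h9 ?_
    simpa using h6 _ h' fun k hk => (res_apply (inv_mem hv) hk μ).trans (h k hk)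
  · have : v.1 * (a * v.1 * b) * v.1⁻¹ ∈ (R.res (orbJ β i)).U ⊓ H :=
      Subgroup.mem_inf.2 ⟨res_XS.ge (conj_XS_NN hv' (fun μ _ h => ⟨by simpa using h6 (-μ) (neg_nonneg.2 h.1) (by
        simpa using h.2), fun k hk => (res_apply hv hk μ).trans (h.2 k hk)⟩) (res_XS.le hy)),
        mul_mem (mul_mem h7 hyH) (inv_mem h7)⟩
    rwa [h, Subgroup.mem_bot, mul_inv_eq_one, mul_eq_left] at this

theorem induction_inv {C : Subgroup Γ → Prop} (h0 : C ⊥) (h1 : ∀ K K', C K → C K' → C (K ⊔ K'))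
    (h2 : ∀ K, ∀ g ∈ H, C K → C (K.map (MulAut.conj g).toMonoidHom))
    (h3 : ∀ i, C ((R.res (orbJ β i)).U ⊓ f₁.eqLocus f₂)) (h : z ∈ R.NN) (hz : z.1 ∈ H) :
    C ((R.XS fun μ => 0 ≤ μ ∧ z.2 μ ≤ 0) ⊓ f₁.eqLocus f₂) := by
  induction hn : R.inv z.2 using Nat.strong_induction_on generalizing z with
  | _ n ih =>
  by_cases h4 : ∀ i, 0 ≤ z.2 (sr i)
  · rwa [eq_bot_iff.2 (XS_le fun μ h5 h6 => (not_nonpos (root_map h h5)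
      (map_nonneg_of_sr z.2.toLinearMap h6.1 fun i _ => h4 i) h6.2).elim), bot_inf_eq]
  push Not at h4
  obtain ⟨i, h4⟩ := h4
  replace h4 := T.orb_neg h (hE hz) ((R.sign _ (root_map h (root_sr (T.hI i)))).1.resolve_left h4)
  obtain ⟨v, hv, hvH, h5, -⟩ := T.exists_longJ hE hZ hY i
  have hv' := res_NN_le hv
  have h6 : ∀ μ, 0 ≤ μ → (∀ j ∉ orbJ β i, μ j = 0) → z.2 μ ≤ 0 := fun μ h6 h7 =>
    map_nonpos_of_sr z.2.toLinearMap h6 fun k hk => h4 k (by_contra fun h => hk (h7 k h))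
  have h7 : ∀ μ, R.X μ ≠ ⊥ → 0 ≤ μ → (∀ j ∉ orbJ β i, μ j = 0) → 0 ≤ (z * v⁻¹).2 μ :=
    fun μ h7 h8 h9 => by
      have := h6 (-v⁻¹.2 μ) (neg_nonneg.2 ((h5 μ h7 h8).2.1 h9)) fun k hk =>
        neg_eq_zero.2 ((res_apply (inv_mem hv) hk μ).trans (h9 k hk))
      rwa [map_neg, neg_nonpos] at this
  have h8 : ∀ j ∈ orbJ β i, ∀ k ∉ orbJ β i, sr j k = 0 := fun j hj k hk =>
    Pi.single_eq_of_ne (by rintro rfl; exact hk hj) _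
  have h0' : ∀ {i : ι}, 0 ≤ sr i := Pi.single_nonneg.2 zero_le_one
  have hz' := mul_mem h (inv_mem hv')
  have h9 := inv_lt hz' hv (fun j hj => h7 _ (root_sr hj.1) h0' (h8 j hj.2)) (j := i)
    ⟨T.hI i, Or.inl rfl⟩ ((h5 _ (root_sr (T.hI i)) h0').1.1 (h8 i (Or.inl rfl)))
  rw [inv_mul_cancel_right] at h9
  have h10 : (R.res (orbJ β i)).U ≤ R.XS fun μ => 0 ≤ μ ∧ z.2 μ ≤ 0 :=
    res_XS.trans_le (XS_mono fun μ _ h => ⟨h.1, h6 μ h.1 h.2⟩)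
  convert h1 _ _ (h2 _ _ (inv_mem hvH) (ih _ (hn ▸ h9) hz' (mul_mem hz (inv_mem hvH)) rfl)) (h3 i)
  refine le_antisymm ?_ (sup_le ?_ (inf_le_inf_right _ h10))
  · intro b hb
    obtain ⟨hb, hbE⟩ := Subgroup.mem_inf.1 hb
    obtain ⟨a, -, c, hc, h11, rfl⟩ := fac hv' (XS_mono (fun _ _ h => h.1) hb)
    have h12 := T.fac_mem (hE hvH) h11 (conj_XS_NN hv' (fun _ _ h => h.2) hc) hbE
    replace hc : c ∈ (R.res (orbJ β i)).U :=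
      res_XS.ge (XS_mono (fun μ h h' => ⟨h'.1, (h5 μ h h'.1).1.2 h'.2⟩) hc)
    refine Subgroup.mul_mem_sup ⟨_, Subgroup.mem_inf.2 ⟨T.mem_of_conj hz' h11 ?_, mul_mem (mul_mem (hE hvH) h12)
      (inv_mem (hE hvH))⟩, by simp [mul_assoc]⟩ ⟨hc, (mul_mem_cancel_left h12).1 hbE⟩
    simpa [mul_assoc] using conj_XS_NN h (P' := (· ≤ 0)) (fun _ _ h => h.2)
      ((mul_mem_cancel_right (h10 hc)).1 hb)
  · rintro _ ⟨y, hy, rfl⟩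
    obtain ⟨hy, hyE⟩ := Subgroup.mem_inf.1 hy
    exact Subgroup.mem_inf.2 ⟨conj_XS_NN (inv_mem hv') (fun μ h11 h12 => ⟨(res_pos (inv_mem hv) h11 h12.1 fun h13 =>
      not_nonpos (root_map hz' h11) (h7 μ h11 h12.1 h13) h12.2).1, h12.2⟩) hy,
      mul_mem (mul_mem (inv_mem (hE hvH)) hyE) (inv_mem (inv_mem (hE hvH)))⟩

theorem exists_long : ∃ z ∈ R.NN, z.1 ∈ H ∧
    (∀ μ, R.X μ ≠ ⊥ → (0 ≤ μ ↔ z.2 μ ≤ 0) ∧ (μ ≤ 0 ↔ 0 ≤ z.2 μ)) ∧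
    ∃ a ∈ R.U ⊓ f₁.eqLocus f₂, ∃ b ∈ R.U ⊓ f₁.eqLocus f₂, a * z.1 * b ∈ R.V := by
  obtain ⟨z, ⟨h1, h2, h3⟩, h4⟩ := exists_long_of (T := {z | z ∈ R.NN ∧ z.1 ∈ H ∧
    ∃ a ∈ R.U ⊓ f₁.eqLocus f₂, ∃ b ∈ R.U ⊓ f₁.eqLocus f₂, a * z.1 * b ∈ R.V}) (fun _ h => h.1)
    ⟨1, one_mem _, one_mem _, 1, one_mem _, 1, one_mem _, by simp⟩ (by
    rintro z ⟨hz, hzH, u, hu, b, hb, h1⟩ i hi h2
    obtain ⟨v, hv, hvH, h3, a, ha, c, hc, h4, -⟩ := T.exists_longJ hE hZ hY i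
    have hv' := res_NN_le hv
    have h5 := T.orb_pos hz (hE hzH) h2
    refine ⟨z * v, ⟨mul_mem hz hv', mul_mem hzH hvH, ?_⟩, inv_lt hz hv (fun j hj => h5 j hj.2)
      (j := i) ⟨hi, Or.inl rfl⟩ ((h3 _ (root_sr hi) (Pi.single_nonneg.2 zero_le_one)).1.1
      fun k hk => Pi.single_eq_of_ne (by rintro rfl; exact hk (Or.inl rfl)) _)⟩
    have h6 := Subgroup.mem_inf.1 (Subgroup.inv_mem _ (Subgroup.mul_mem _ hb ha))
    obtain ⟨a', -, c', hc', h7, h8⟩ := fac (inv_mem hv') h6.1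
    have h9 := T.fac_mem (hE (inv_mem hvH)) h7 (conj_XS_NN (inv_mem hv') (fun _ _ h => h.2) hc')
      (h8 ▸ h6.2)
    refine ⟨u * (z.1 * c' * z.1⁻¹)⁻¹, mul_mem hu (inv_mem <| Subgroup.mem_inf.2 ⟨conj_XS_NN hz (fun μ h h' =>
      map_nonneg_of_sr z.2.toLinearMap h'.1 fun k hk => h5 k (by_contra fun h'' =>
      hk ((h3 μ h h'.1).2.2 h'.2 k h''))) hc', mul_mem (mul_mem (hE hzH) ((mul_mem_cancel_left h9).1
      (h8 ▸ h6.2))) (inv_mem (hE hzH))⟩), (v.1⁻¹ * a' * v.1⁻¹⁻¹)⁻¹ * c, mul_mem (inv_mem <| Subgroup.mem_inf.2 ⟨h7,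
      mul_mem (mul_mem (hE (inv_mem hvH)) h9) (hE (inv_mem (inv_mem hvH)))⟩) hc, ?_⟩
    convert mul_mem h1 h4.1 using 1
    rw [show a = b⁻¹ * (a' * c')⁻¹ by rw [← h8]; group, Prod.fst_mul]
    group)
  exact ⟨z, h1, h2, h4, h3⟩

theorem induction_U {C : Subgroup Γ → Prop} (h0 : C ⊥) (h1 : ∀ K K', C K → C K' → C (K ⊔ K'))
    (h2 : ∀ K, ∀ g ∈ H, C K → C (K.map (MulAut.conj g).toMonoidHom))
    (h3 : ∀ i, C ((R.res (orbJ β i)).U ⊓ f₁.eqLocus f₂)) : C (R.U ⊓ f₁.eqLocus f₂) := by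
  obtain ⟨z, hz, hzH, h4, -⟩ := T.exists_long hE hZ hY
  convert T.induction_inv hE hZ hY h0 h1 h2 h3 hz hzH using 2
  exact le_antisymm (XS_mono fun μ h h' => ⟨h', (h4 μ h).1.1 h'⟩) (XS_mono fun _ _ h => h.1)

theorem U_le : R.U ⊓ f₁.eqLocus f₂ ≤ H :=
  T.induction_U hE hZ hY (C := (· ≤ H)) bot_le (fun _ _ => sup_le) (by
    rintro K g hg h _ ⟨x, hx, rfl⟩; exact mul_mem (mul_mem hg (h hx)) (inv_mem hg)) hZ

theorem bnLike (hH : H ≤ (R.U ⊓ f₁.eqLocus f₂) ⊔ (R.V ⊓ f₁.eqLocus f₂)) {G : Type w} [Group G]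
    {f : G →* Γ} (hf : Function.Injective f) (hr : f.range = H) :
    BNLike p (R.U.comap f) (R.V.comap f) ((R.NN.map (MonoidHom.fst _ _)).comap f) := by
  have hU := hr ▸ T.U_le hE hZ hY
  have hf' : ∀ g, f g ∈ H := fun g => hr ▸ ⟨g, rfl⟩
  obtain ⟨w, hw, hwH, h1, a, ha, b, hb, h2⟩ := T.exists_long hE hZ hY
  have h3 : ∀ x, x ∈ R.U ↔ w.1 * x * w.1⁻¹ ∈ R.V := fun x =>
    ⟨conj_XS_NN hw fun μ h => (h1 μ h).1.1, fun h => by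
      simpa [mul_assoc] using conj_XS_NN (inv_mem hw) (P' := (0 ≤ ·))
        (fun μ h h' => (h1 _ (root_map (inv_mem hw) h)).1.2 (by simpa using h')) h⟩
  have h4 : ∀ x, x ∈ R.V ↔ w.1 * x * w.1⁻¹ ∈ R.U := fun x =>
    ⟨conj_XS_NN hw fun μ h => (h1 μ h).2.1, fun h => by
      simpa [mul_assoc] using conj_XS_NN (inv_mem hw) (P' := (· ≤ 0))
        (fun μ h h' => (h1 _ (root_map (inv_mem hw) h)).2.2 (by simpa using h')) h⟩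
  refine ⟨fun g => ?_, fun g => ?_, ?_, ?_, ?_, ?_, ?_⟩
  · obtain ⟨k, hk⟩ := T.pgrp ⟨_, T.hU₁ g.2⟩
    replace hk : f₁ (f (g.1 ^ p ^ k)) = 1 := by simpa using congrArg Subtype.val hk
    exact ⟨k, Subtype.ext (hf ((T.inj _ hk ((hE (hf' _)).symm.trans hk)).trans (map_one f).symm))⟩
  · obtain ⟨u, hu, z, hz, b, hb, h⟩ := bruhat (R := R) (g := f g) (sup_le (inf_le_left.trans
      (XS_mono fun _ _ _ => trivial)) (inf_le_left.trans (XS_mono fun _ _ _ => trivial)) (hH (hf' g)))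
    obtain ⟨h5, -, h6⟩ := T.uniq hz hu hb (h ▸ hE (hf' g))
    obtain ⟨u, rfl⟩ := hU ⟨hu, h5⟩
    replace hb := XS_mono (fun _ _ h => h.1) hb
    obtain ⟨b, rfl⟩ := hU ⟨hb, h6⟩
    exact ⟨u, hu, u⁻¹ * g * b⁻¹, ⟨z, hz, by simp [h, mul_assoc]⟩, b, hb, by group⟩
  · rintro n ⟨z, hz, h⟩ u hu
    obtain ⟨a, ha, b, hb, h5, h6⟩ := fac hz hu
    have h7 := conj_XS_NN hz (P' := (· ≤ 0)) (fun _ _ h => h.2) hb
    rw [show z.1 = f n from h] at h5 h7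
    obtain ⟨a, rfl⟩ := hU ⟨ha, T.fac_mem (hE (hf' n)) h5 h7 (h6 ▸ hE (hf' u))⟩
    rw [← inv_mul_eq_iff_eq_mul, ← map_inv, ← map_mul] at h6
    exact ⟨a, ha, a⁻¹ * u, by simpa only [Subgroup.mem_comap, h6] using XS_mono (fun _ _ h => h.1) hb,
      by simpa using h5, by rwa [Subgroup.mem_comap, map_mul, map_mul f n, map_inv f n, h6],
      by group⟩
  · exact (Subgroup.eq_bot_iff_forall _).2 fun x h => hf ((T.eq_one' h.1 h.2).trans (map_one f).symm)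
  · rintro n ⟨z, hz, h⟩ hn k hk
    replace h : z.1 = f n := h
    have h5 : z.2 = 1 := eq_one_of_pos T.top hz fun i => by
      refine (R.sign _ (root_map hz (root_sr (T.hI i)))).1.resolve_right fun h5 => ?_
      obtain ⟨-, -, -, -, -, -, -, -, -, h6⟩ := T.exists_longJ hE hZ hY i
      obtain ⟨_, ⟨hy, y, rfl⟩, h7⟩ := (Subgroup.bot_or_exists_ne_one _).resolve_left (hr ▸ h6)
      replace hy := res_XS.le hy
      have := T.eq_one' (hn y (XS_mono (fun _ _ h => h.1) hy)) (by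
        simpa [h] using conj_XS_NN hz (P' := (· ≤ 0)) (fun μ _ h' => map_nonpos_of_sr
          z.2.toLinearMap h'.1 fun k hk => T.orb_neg hz (h ▸ hE (hf' n)) h5 k (by_contra fun h'' =>
          hk (h'.2 k h''))) hy)
      exact h7 (by simpa [mul_inv_eq_one] using this)
    have h6 := T.t2 (f n) (by rwa [← h, ← h5]) k (by rw [← map_pow, hk, map_one])
    exact hf ((T.inj _ h6 ((hE (hf' _)).symm.trans h6)).trans (map_one f).symm)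
  · obtain ⟨n, hn⟩ := hr.ge hwH
    obtain ⟨a, rfl⟩ := hU ha
    obtain ⟨b, rfl⟩ := hU hb
    exact ⟨n, fun x => by simpa [hn] using h3 (f x), fun x => by simpa [hn] using h4 (f x), a, ha.1,
      b, hb.1, by simpa [hn] using h2⟩
  · have h5 : R.V ⊓ f₁.eqLocus f₂ ≤ f.range := fun x hx => by
      have := hr ▸ hU (Subgroup.mem_inf.2 ⟨(h4 x).1 hx.1, mul_mem (mul_mem (hE hwH)
        (Subgroup.mem_inf.1 hx).2) (inv_mem (hE hwH))⟩)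
      rwa [mul_mem_cancel_right (inv_mem hwH), mul_mem_cancel_left hwH, ← hr] at this
    rw [eq_top_iff, ← f.comap_range_self, hr]
    exact (Subgroup.comap_mono hH).trans ((Subgroup.comap_sup_eq_of_le_range f hU h5).ge.trans
      (sup_le_sup (Subgroup.comap_mono inf_le_left) (Subgroup.comap_mono inf_le_left)))

theorem abExp {n : ℕ} (h : ∀ i, AbExp n ((R.res (orbJ β i)).U ⊓ f₁.eqLocus f₂)) {G : Type w}
    [Group G] {f : G →* Γ} (hf : Function.Injective f) (hr : f.range = H) :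
    AbExp n (R.U.comap f) := by
  refine AbExp.of_map hf ?_
  rw [Subgroup.map_comap_eq, hr, inf_comm, le_antisymm (inf_le_inf_left _ hE)
    (le_inf inf_le_left (T.U_le hE hZ hY))]
  exact T.induction_U hE hZ hY (C := AbExp n) (fun x hx => by simp [Subgroup.mem_bot.1 hx])
    (fun _ _ => AbExp.sup) (fun _ _ _ h => h.map _) h

end Tw

end Cfsg.RGD
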