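import Cfsg.Agent.Grp.Frobenius

/-! Groups with a self-centralizing element of prime order. -/

set_option autoImplicit false

namespace Cfsg

open scoped Pointwise commutatorElement

universe u

variable {G : Type u} [Group G] [Finite G] {p : ℕ} [hp : Fact p.Prime] {x : G}

/-- `x` has prime order `p` and commutes only with its powers -/
def IsSelfCentPrime (p : ℕ) (x : G) : Prop :=
  orderOf x = p ∧ Subgroup.centralizer ({x} : Set G) = Subgroup.zpowers x

namespace IsSelfCentPrime

omit [Finite G] hp in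
theorem card_zpowers (h : IsSelfCentPrime p x) : Nat.card (Subgroup.zpowers x) = p := by
  rw [Nat.card_zpowers, h.1]

omit [Finite G] in
theorem isPGroup (h : IsSelfCentPrime p x) : IsPGroup p (Subgroup.zpowers x) :=
  IsPGroup.of_card (h.card_zpowers.trans (pow_one p).symm)

omit [Finite G] in
theorem ne_one (h : IsSelfCentPrime p x) : x ≠ 1 := fun e => hp.out.ne_one (by
  rw [← h.1, e, orderOf_one])

omit [Finite G] hp in
theorem centralizer_eq (h : IsSelfCentPrime p x) :
    Subgroup.centralizer (Subgroup.zpowers x : Set G) = Subgroup.zpowers x := by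
  rw [centralizer_zpowers, h.2]

theorem orderOf_eq (h : IsSelfCentPrime p x) {y : G} (hy : y ∈ Subgroup.zpowers x) (h1 : y ≠ 1) :
    orderOf y = p := by
  have := Subgroup.orderOf_dvd_natCard _ hy
  rw [h.card_zpowers] at this
  exact ((Nat.dvd_prime hp.out).1 this).resolve_left fun e => h1 (orderOf_eq_one_iff.1 e)

theorem zpowers_eq (h : IsSelfCentPrime p x) {y : G} (hy : y ∈ Subgroup.zpowers x) (h1 : y ≠ 1) :
    Subgroup.zpowers y = Subgroup.zpowers x :=
  Subgroup.eq_of_le_of_card_ge (Subgroup.zpowers_le.2 hy)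
    (by rw [Nat.card_zpowers y, h.orderOf_eq hy h1, h.card_zpowers])

theorem centralizer_eq_of_mem (h : IsSelfCentPrime p x) {y : G} (hy : y ∈ Subgroup.zpowers x)
    (h1 : y ≠ 1) : Subgroup.centralizer ({y} : Set G) = Subgroup.zpowers x := by
  rw [← centralizer_zpowers, h.zpowers_eq hy h1, h.centralizer_eq]

theorem exists_sylow (h : IsSelfCentPrime p x) :
    ∃ P : Sylow p G, (P : Subgroup G) = Subgroup.zpowers x := by
  obtain ⟨P, hP⟩ := h.isPGroup.exists_le_sylow
  refine ⟨P, le_antisymm ?_ hP⟩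
  have hP1 : (P : Subgroup G) ≠ ⊥ := fun e =>
    h.ne_one (Subgroup.mem_bot.1 (e ▸ hP (Subgroup.mem_zpowers x)))
  obtain ⟨z, hz, hz1⟩ := (Subgroup.bot_or_exists_ne_one _).resolve_left
    (inf_centralizer_ne_bot_of_isPGroup P.2 P.2 Subgroup.le_normalizer hP1)
  have h1 : z ∈ Subgroup.zpowers x := h.centralizer_eq ▸
    Subgroup.centralizer_le (SetLike.coe_subset_coe.2 hP) hz.2
  rw [← h.centralizer_eq_of_mem h1 hz1]
  exact fun y hy => Subgroup.mem_centralizer_singleton_iff.2 (hz.2 y hy)

theorem not_dvd_index (h : IsSelfCentPrime p x) : ¬ p ∣ (Subgroup.zpowers x).index := by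
  obtain ⟨P, hP⟩ := h.exists_sylow
  exact hP ▸ P.not_dvd_index

theorem le_of_dvd_card (h : IsSelfCentPrime p x) {S : Subgroup G} [S.Normal]
    (hd : p ∣ Nat.card S) : Subgroup.zpowers x ≤ S := by
  obtain ⟨P, hP⟩ := h.exists_sylow
  have h1 : (P : Subgroup G) ⊓ S ≠ ⊥ := fun e => not_dvd_relIndex_sylow_of_normal P S (by
    rwa [← Subgroup.inf_relIndex_right, e, Subgroup.relIndex_bot_left])
  obtain ⟨z, hz, hz1⟩ := (Subgroup.bot_or_exists_ne_one _).resolve_left h1
  rw [← h.zpowers_eq (hP ▸ hz.1) hz1, Subgroup.zpowers_le]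
  exact hz.2

omit hp in
theorem commutator_normalizer_le (h : IsSelfCentPrime p x) :
    ⁅Subgroup.normalizer (Subgroup.zpowers x : Set G),
      Subgroup.normalizer (Subgroup.zpowers x : Set G)⁆ ≤ Subgroup.zpowers x := by
  let _ := (IsCyclic.mulAutMulEquiv (Subgroup.zpowers x)).toMonoidHom.commGroupOfInjective
    (IsCyclic.mulAutMulEquiv (Subgroup.zpowers x)).injective
  have h1 := Abelianization.commutator_subset_ker (Subgroup.zpowers x).normalizerMonoidHom
  rw [Subgroup.normalizerMonoidHom_ker, h.centralizer_eq] at h1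
  rw [← Subgroup.map_subtype_commutator]
  exact Subgroup.map_le_iff_le_comap.2 h1

theorem sup_normalizer_eq_top (h : IsSelfCentPrime p x) {S : Subgroup G} [S.Normal]
    (hd : p ∣ Nat.card S) : S ⊔ Subgroup.normalizer (Subgroup.zpowers x : Set G) = ⊤ :=
  frattini_argument (h.le_of_dvd_card hd) h.isPGroup fun hd' =>
    h.not_dvd_index (hd'.trans (Subgroup.relIndex_dvd_index_of_le (h.le_of_dvd_card hd)))

omit [Finite G] hp in
theorem _root_.Cfsg.commutator_le_of_sup_eq_top {S N : Subgroup G} [S.Normal] (h : S ⊔ N = ⊤) :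
    commutator G ≤ S ⊔ ⁅N, N⁆ := by
  rw [sup_comm, ← map_mk_le_map_mk_iff, commutator_def, Subgroup.map_commutator,
    Subgroup.map_commutator, map_mk_eq_top_iff.2 (top_sup_eq S),
    (map_mk_eq_top_iff (H := N)).2 (by rw [sup_comm, h])]

theorem commutator_le (h : IsSelfCentPrime p x) {S : Subgroup G} [S.Normal]
    (hd : p ∣ Nat.card S) : commutator G ≤ S :=
  (commutator_le_of_sup_eq_top (h.sup_normalizer_eq_top hd)).trans
    (sup_le le_rfl (h.commutator_normalizer_le.trans (h.le_of_dvd_card hd)))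

theorem inf_centralizer_eq_bot (h : IsSelfCentPrime p x) {S : Subgroup G}
    (hd : ¬ p ∣ Nat.card S) : S ⊓ Subgroup.centralizer (Subgroup.zpowers x : Set G) = ⊥ := by
  rw [h.centralizer_eq]
  exact inf_eq_bot_of_coprime_card (coprime_card_of_isPGroup h.isPGroup hd).symm

theorem inf_normalizer_eq_bot (h : IsSelfCentPrime p x) {S : Subgroup G} [S.Normal]
    (hd : ¬ p ∣ Nat.card S) : S ⊓ Subgroup.normalizer (Subgroup.zpowers x : Set G) = ⊥ := by
  rw [inf_normalizer_eq_inf_centralizer Subgroup.le_normalizer_of_normal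
    (inf_eq_bot_of_coprime_card (coprime_card_of_isPGroup h.isPGroup hd).symm),
    h.inf_centralizer_eq_bot hd]

theorem commutator_eq_self (h : IsSelfCentPrime p x) {S : Subgroup G} [S.Normal]
    (hd : ¬ p ∣ Nat.card S) : ⁅S, Subgroup.zpowers x⁆ = S := by
  have := commutator_sup_centralizer_of_coprime (N := S) (A := Subgroup.zpowers x)
    Subgroup.le_normalizer_of_normal (coprime_card_of_isPGroup h.isPGroup hd).symm
    (Or.inr (isSolvable_zpowers x))
  rwa [h.inf_centralizer_eq_bot hd, sup_bot_eq] at this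

theorem card_subgroups (h : IsSelfCentPrime p x) :
    Nat.card {H : Subgroup G // Nat.card H = p} =
      (Subgroup.normalizer (Subgroup.zpowers x : Set G)).index := by
  obtain ⟨P, hP⟩ := h.exists_sylow
  have h1 : p ^ (Nat.card G).factorization p = p := by
    rw [← P.card_eq_multiplicity, hP, h.card_zpowers]
  rw [← hP]
  refine Eq.trans ?_ P.card_eq_index_normalizer
  symm
  refine Nat.card_eq_of_bijective
    (fun Q : Sylow p G => ⟨(Q : Subgroup G), Q.card_eq_multiplicity.trans h1⟩) ⟨?_, ?_⟩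
  · exact fun Q R e => Sylow.ext (congrArg Subtype.val e)
  · exact fun H => ⟨Sylow.ofCard H.1 (H.2.trans h1.symm), rfl⟩

theorem card_classes_mul (h : IsSelfCentPrime p x) :
    Nat.card {C : ConjClasses G // ∃ g ∈ C.carrier, orderOf g = p} *
      (Subgroup.zpowers x).relIndex (Subgroup.normalizer (Subgroup.zpowers x : Set G)) = p - 1 := by
  classical
  obtain ⟨P, hP⟩ := h.exists_sylow
  let f : {y : Subgroup.zpowers x // y ≠ 1} → {C : ConjClasses G // ∃ g ∈ C.carrier, orderOf g = p} :=
    fun y => ⟨ConjClasses.mk (y.1 : G), y.1, ConjClasses.mem_carrier_mk,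
      h.orderOf_eq y.1.2 fun e => y.2 (Subtype.ext e)⟩
  have h1 : Nat.card {y : Subgroup.zpowers x // y ≠ 1} = p - 1 := by
    rw [← h.card_zpowers, ← Nat.card_congr (Equiv.optionSubtypeNe (1 : Subgroup.zpowers x)),
      Finite.card_option, Nat.add_sub_cancel]
  let _ : Fintype {C : ConjClasses G // ∃ g ∈ C.carrier, orderOf g = p} := Fintype.ofFinite _
  rw [← h1, ← Nat.card_congr (Equiv.sigmaFiberEquiv f), Nat.card_sigma,
    Finset.sum_congr rfl (g := fun _ => (Subgroup.zpowers x).relIndex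
      (Subgroup.normalizer (Subgroup.zpowers x : Set G))), Finset.sum_const, Finset.card_univ,
    Nat.card_eq_fintype_card, smul_eq_mul]
  rintro ⟨C, g, hg, hgo⟩ -
  obtain ⟨a, ha⟩ := exists_conj_mem_sylow P (g := g) ⟨1, hgo.trans (pow_one p).symm⟩
  obtain ⟨y, hy⟩ : ∃ y, y = a * g * a⁻¹ := ⟨_, rfl⟩
  rw [← hy] at ha
  have hy1 : y ≠ 1 := fun e => hp.out.ne_one (by
    rw [← hgo, conj_eq_one_iff.1 (hy.symm.trans e), orderOf_one])
  have hC : C = ConjClasses.mk y := by
    rw [← ConjClasses.mem_carrier_iff_mk_eq.1 hg, ConjClasses.mk_eq_mk_iff_isConj, hy]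
    exact isConj_iff.2 ⟨a, rfl⟩
  subst hC
  let N := Subgroup.normalizer (Subgroup.zpowers x : Set G)
  let _ : MulAction N G := MulAction.compHom G (MulAut.conj.comp N.subtype)
  have h2 : MulAction.stabilizer N y = (Subgroup.zpowers x).subgroupOf N := by
    ext n
    rw [← h.centralizer_eq_of_mem (hP ▸ ha) hy1, Subgroup.mem_subgroupOf,
      Subgroup.mem_centralizer_singleton_iff]
    exact mul_inv_eq_iff_eq_mul
  rw [Subgroup.relIndex, ← h2, MulAction.index_stabilizer, ← Nat.card_coe_set_eq]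
  have hcomm : IsMulCommutative (P : Subgroup G) := hP ▸ inferInstance
  refine Nat.card_eq_of_bijective (fun z => ⟨z.1.1.1, ?_⟩) ⟨?_, ?_⟩
  · obtain ⟨c, hc⟩ := isConj_iff.1 (ConjClasses.mk_eq_mk_iff_isConj.1
      (congrArg Subtype.val z.2)).symm
    obtain ⟨n, hn, e⟩ := P.conj_eq_normalizer_conj_of_mem y c⁻¹ ha
      (by rw [inv_inv, hc]; exact hP.ge z.1.1.2)
    rw [inv_inv, hc] at e
    have hn' : n ∈ N := by
      change n ∈ Subgroup.normalizer (Subgroup.zpowers x : Set G)
      rw [← hP]; exact hn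
    exact ⟨⟨n⁻¹, inv_mem hn'⟩, by
      rw [e]; change n⁻¹ * y * n⁻¹⁻¹ = _; rw [inv_inv]⟩
  · exact fun z w e => Subtype.ext (Subtype.ext (Subtype.ext (Subtype.mk.inj e)))
  · rintro ⟨_, n, rfl⟩
    refine ⟨⟨⟨⟨n * y * (n : G)⁻¹, (Subgroup.mem_normalizer_iff.1 n.2 y).1 (hP ▸ ha)⟩,
      fun e => hy1 (conj_eq_one_iff.1 (congrArg Subtype.val e))⟩, Subtype.ext ?_⟩, rfl⟩
    exact ConjClasses.mk_eq_mk_iff_isConj.2 (isConj_iff.2 ⟨(n : G), rfl⟩).symm

/-- the case `N_G(⟨x⟩) = ⟨x⟩` -/
theorem commutator_eq_pPrimeCore (h : IsSelfCentPrime p x)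
    (he : Subgroup.normalizer (Subgroup.zpowers x : Set G) ≤ Subgroup.zpowers x) :
    commutator G = pPrimeCore p G ∧ (commutator G).index = p := by
  obtain ⟨P, hP⟩ := h.exists_sylow
  have h1 := (hasNormalPComplement_of_normalizer_le_centralizer P
    (by rw [hP, h.centralizer_eq]; exact he)).isComplement' P
  have h2 : (pPrimeCore p G).index = p := by
    rw [h1.symm.index_eq_card, hP, h.card_zpowers]
  have h3 : commutator G = pPrimeCore p G := by
    apply le_antisymm
    · exact Subgroup.Normal.quotient_commutative_iff_commutator_le.1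
        (isCyclic_of_prime_card h2).isMulCommutative
    · rw [← h.commutator_eq_self (not_dvd_card_pPrimeCore p)]
      exact Subgroup.commutator_mono le_top le_top
  exact ⟨h3, h3 ▸ h2⟩

/-- the case `N_G(⟨x⟩) ≠ ⟨x⟩` -/
theorem dvd_card_commutator (h : IsSelfCentPrime p x)
    (he : ¬ Subgroup.normalizer (Subgroup.zpowers x : Set G) ≤ Subgroup.zpowers x) :
    p ∣ Nat.card (commutator G) := by
  have h1 : ⁅Subgroup.zpowers x, Subgroup.normalizer (Subgroup.zpowers x : Set G)⁆ ≠ ⊥ := by
    rwa [Ne, Subgroup.commutator_eq_bot_iff_le_centralizer, Subgroup.le_centralizer_iff,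
      h.centralizer_eq]
  exact (dvd_card_of_isPGroup_of_ne_bot (h.isPGroup.to_le
    (Subgroup.le_normalizer_iff_commutator_le_left.1 le_rfl)) h1).trans
    (Subgroup.card_dvd_of_le (Subgroup.commutator_mono le_top le_top))

theorem card_classes_eq_iff (h : IsSelfCentPrime p x) :
    Nat.card {C : ConjClasses G // ∃ g ∈ C.carrier, orderOf g = p} = p - 1 ↔
      Subgroup.normalizer (Subgroup.zpowers x : Set G) ≤ Subgroup.zpowers x := by
  have h1 := h.card_classes_mul
  have h2 : 0 < p - 1 := Nat.sub_pos_of_lt hp.out.one_lt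
  rw [← Subgroup.relIndex_eq_one]
  constructor
  · intro e
    rw [e] at h1
    exact Nat.eq_of_mul_eq_mul_left h2 (h1.trans (mul_one _).symm)
  · intro e
    rwa [e, mul_one] at h1

theorem eq_top_of_normal_commutator (h : IsSelfCentPrime p x)
    {L : Subgroup (commutator G)} [L.Normal] (hd : p ∣ Nat.card L) : L = ⊤ := by
  have h0 : p ∣ Nat.card (commutator G) := hd.trans L.card_subgroup_dvd_card
  have hx : x ∈ commutator G := h.le_of_dvd_card h0 (Subgroup.mem_zpowers x)
  have h1 := normal_map_subtype_of_characteristic (commutator G) (pPrimeResidual p (commutator G))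
  have h2 : commutator G ≤ (pPrimeResidual p (commutator G)).map (commutator G).subtype := by
    refine h.commutator_le (h.card_zpowers.symm.dvd.trans ?_)
    refine Subgroup.card_dvd_of_le (Subgroup.zpowers_le.2 ⟨⟨x, hx⟩, mem_pPrimeResidual ⟨1, ?_⟩, rfl⟩)
    rw [Subgroup.orderOf_mk, h.1, pow_one]
  have h3 : pPrimeResidual p (commutator G) ≤ L := pPrimeResidual_le fun hd' => h.not_dvd_index (by
    have h4 : p * p ∣ p * (Subgroup.zpowers x).index := by
      have e := (Subgroup.zpowers x).card_mul_index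
      rw [h.card_zpowers] at e
      rw [e]
      refine dvd_trans ?_ (commutator G).card_subgroup_dvd_card
      rw [← L.card_mul_index]
      exact Nat.mul_dvd_mul hd hd'
    exact Nat.dvd_of_mul_dvd_mul_left hp.out.pos h4)
  rw [eq_top_iff]
  intro y _
  obtain ⟨z, hz, e⟩ := h2 y.2
  exact (show z = y from Subtype.ext e) ▸ h3 hz

end IsSelfCentPrime

end Cfsg
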