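import Cfsg.Agent.CT.RankOne
import Cfsg.Prelude.Def_Sz

/-! The Suzuki groups: the BN-pair of rank one. -/

set_option autoImplicit false
set_option linter.style.haveILetI false

namespace Cfsg

open scoped ComplexConjugate Matrix
open _root_.Cfsg.Lie

variable {F : Type*} [Field F]

/-- the antidiagonal matrix -/
def szJ (F : Type*) [Field F] : Matrix (Fin 4) (Fin 4) F :=
  !![0, 0, 0, 1; 0, 0, 1, 0; 0, 1, 0, 0; 1, 0, 0, 0]

theorem szJ_mul_szJ : szJ F * szJ F = 1 := by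
  ext i j
  fin_cases i <;> fin_cases j <;> simp [szJ, Matrix.mul_apply, Fin.sum_univ_four]

theorem szJ_form (M : Matrix (Fin 4) (Fin 4) F) (i j : Fin 4) : (Mᵀ * szJ F * M) i j =
    M 3 i * M 0 j + M 2 i * M 1 j + M 1 i * M 2 j + M 0 i * M 3 j := by
  simp [szJ, Matrix.mul_apply, Fin.sum_univ_four]

theorem mem_Sp4_iff {g : GL (Fin 4) F} : g ∈ Sp4 F ↔ g.1ᵀ * szJ F * g.1 = szJ F := by
  have h1 : ∀ u v : Fin 4 → F, altForm4 u v = u ⬝ᵥ szJ F *ᵥ v := fun u v => by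
    simp [altForm4, szJ, Matrix.mulVec, dotProduct, Fin.sum_univ_four]
  have h2 : ∀ u v : Fin 4 → F, altForm4 (g.1 *ᵥ u) (g.1 *ᵥ v) = u ⬝ᵥ (g.1ᵀ * szJ F * g.1) *ᵥ v :=
    fun u v => by
      rw [h1, Matrix.mulVec_mulVec, Matrix.mul_assoc, ← Matrix.mulVec_mulVec _ g.1ᵀ,
        Matrix.dotProduct_mulVec u, Matrix.vecMul_transpose]
  refine ⟨fun h => Matrix.ext fun i j => ?_, fun h u v => (h2 u v).trans (by rw [h, h1])⟩
  simpa [Matrix.mulVec_single_one] using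
    (h2 (Pi.single i 1) (Pi.single j 1)).symm.trans ((h _ _).trans (h1 _ _))

variable [CharP F 2]

theorem star4_mul {M N : Matrix (Fin 4) (Fin 4) F} (hM : Mᵀ * szJ F * M = szJ F)
    (hN : Nᵀ * szJ F * N = szJ F) : star4 (M * N) = star4 M * star4 N := by
  have h1 : Mᵀᵀ * szJ F * Mᵀ = szJ F := by
    have h2 : szJ F * Mᵀ * szJ F * M = 1 := by
      rw [mul_assoc, mul_assoc, ← mul_assoc Mᵀ, hM, szJ_mul_szJ]
    rw [Matrix.transpose_transpose, ← mul_one (_ * Mᵀ), ← szJ_mul_szJ, ← mul_assoc, mul_assoc M,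
      mul_assoc M, mul_eq_one_comm.1 h2, one_mul]
  have h2 : (2 : F) = 0 := CharTwo.two_eq_zero
  ext p r
  have h3 := szJ_form Mᵀ (pairOf p).1 (pairOf p).2
  have h4 := szJ_form N (pairOf r).1 (pairOf r).2
  rw [h1, show szJ F (pairOf p).1 (pairOf p).2 = 0 by fin_cases p <;> rfl] at h3
  rw [hN, show szJ F (pairOf r).1 (pairOf r).2 = 0 by fin_cases r <;> rfl] at h4
  simp only [star4, Matrix.of_apply, Matrix.mul_apply, Fin.sum_univ_four, Matrix.transpose_apply,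
    show pairOf 0 = (0, 1) from rfl, show pairOf 1 = (0, 2) from rfl,
    show pairOf 2 = (1, 3) from rfl, show pairOf 3 = (2, 3) from rfl] at h3 ⊢
  grind

variable (θ : F →+* F)

/-- the Suzuki group of an endomorphism `θ` -/
def szGrp : Subgroup (GL (Fin 4) F) where
  carrier := {g | g.1ᵀ * szJ F * g.1 = szJ F ∧ star4 g.1 = g.1.map θ}
  one_mem' := ⟨by simp, by
    ext i j
    fin_cases i <;> fin_cases j <;> simp [star4, pairOf, Matrix.one_apply]⟩
  mul_mem' {g h} hg hh := ⟨mem_Sp4_iff.1 ((Sp4 F).mul_mem (mem_Sp4_iff.2 hg.1) (mem_Sp4_iff.2 hh.1)),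
    by rw [Units.val_mul, star4_mul hg.1 hh.1, hg.2, hh.2, Matrix.map_mul]⟩
  inv_mem' {g} hg := by
    have h1 := mem_Sp4_iff.1 ((Sp4 F).inv_mem (mem_Sp4_iff.2 hg.1))
    refine ⟨h1, ?_⟩
    have h2 := star4_mul hg.1 h1
    rw [Units.mul_inv, hg.2, show star4 (1 : Matrix (Fin 4) (Fin 4) F) = 1 by
      ext i j
      fin_cases i <;> fin_cases j <;> simp [star4, pairOf, Matrix.one_apply]] at h2
    rw [← one_mul (star4 _), ← Matrix.map_one θ (map_zero θ) (map_one θ), ← g.inv_mul,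
      Matrix.map_mul, mul_assoc, ← h2, mul_one]

theorem Sz_eq_szGrp {e : ℕ} (h : ∀ x, θ x = x ^ e) : Sz F e = szGrp θ := by
  rw [Sz, ← (szGrp θ).closure_eq]
  congr 1
  ext g
  rw [Set.mem_ofPred_eq, mem_Sp4_iff, ← funext h]
  rfl

variable {θ}

/-- the element of the Suzuki group given by a matrix -/
def szMk (M : Matrix (Fin 4) (Fin 4) F) (h1 : Mᵀ * szJ F * M = szJ F) (h2 : star4 M = M.map θ) :
    szGrp θ :=
  ⟨Units.mkOfMulEqOne M (szJ F * Mᵀ * szJ F) (mul_eq_one_comm.1 (by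
    rw [mul_assoc, mul_assoc, ← mul_assoc Mᵀ, h1, szJ_mul_szJ])), h1, h2⟩

theorem sz_ext {g h : szGrp θ} (h1 : g.1.1 = h.1.1) : g = h := Subtype.ext (Units.ext h1)

theorem sz_col {g : szGrp θ} (h : g.1.1 3 0 = 0) : g.1.1 1 0 = 0 ∧ g.1.1 2 0 = 0 := by
  have h1 := congrFun (congrFun g.2.2 1) 0
  have h2 := congrFun (congrFun g.2.2 2) 0
  have h3 := congrFun (congrFun g.2.2 3) 0
  have h4 := szJ_form g.1.1 0 1
  rw [g.2.1] at h4
  simp [star4, pairOf, szJ, h] at h1 h2 h3 h4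
  have h5 : g.1.1 2 0 = 0 := by
    by_contra h5
    simp [h3.resolve_left h5, eq_comm (a := (0 : F)), h5] at h2
  refine ⟨?_, h5⟩
  by_contra h6
  simp [h5, h6] at h1 h2 h4
  simp [h2, h6] at h4
  simp [h4, eq_comm (a := (0 : F)), h6] at h1

/-- the Sylow 2-subgroup of the Suzuki group -/
@[ext] structure SzU (θ : F →+* F) where
  a : F
  b : F

namespace SzU

instance : Mul (SzU θ) := ⟨fun u v => ⟨u.a + v.a, u.b + v.b + u.a * θ v.a⟩⟩
instance : One (SzU θ) := ⟨⟨0, 0⟩⟩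
instance : Inv (SzU θ) := ⟨fun u => ⟨u.a, u.b + u.a * θ u.a⟩⟩

section
omit [CharP F 2]
@[simp] theorem mul_a (u v : SzU θ) : (u * v).a = u.a + v.a := rfl
@[simp] theorem mul_b (u v : SzU θ) : (u * v).b = u.b + v.b + u.a * θ v.a := rfl
@[simp] theorem one_a : (1 : SzU θ).a = 0 := rfl
@[simp] theorem one_b : (1 : SzU θ).b = 0 := rfl
@[simp] theorem inv_a (u : SzU θ) : u⁻¹.a = u.a := rfl
@[simp] theorem inv_b (u : SzU θ) : u⁻¹.b = u.b + u.a * θ u.a := rfl
end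

instance : Group (SzU θ) := Group.ofLeftAxioms
  (fun u v w => SzU.ext (add_assoc _ _ _) (by simp; ring))
  (fun u => SzU.ext (zero_add _) (by simp))
  (fun u => SzU.ext (CharTwo.add_self_eq_zero _) (by
    simp only [mul_b, inv_b, inv_a, one_b]; have := CharTwo.two_eq_zero (R := F); grind))

/-- coordinates -/
def equivProd : SzU θ ≃ F × F := ⟨fun u => (u.a, u.b), fun x => ⟨x.1, x.2⟩, fun _ => rfl, fun _ => rfl⟩

noncomputable instance [Fintype F] : Fintype (SzU θ) := Fintype.ofEquiv _ equivProd.symm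

theorem card_eq [Fintype F] : Fintype.card (SzU θ) = Fintype.card F ^ 2 := by
  rw [Fintype.card_congr equivProd, Fintype.card_prod, sq]

end SzU

variable (hθ : ∀ x, θ (θ x) = x ^ 2)

/-- the unipotent elements -/
def szX : SzU θ →* szGrp θ := MonoidHom.mk' (fun u => szMk
  !![1, u.a, u.b, θ u.b + u.a * u.b + u.a ^ 2 * θ u.a; 0, 1, θ u.a, u.b + u.a * θ u.a;
    0, 0, 1, u.a; 0, 0, 0, 1]
  (by
    have := CharTwo.two_eq_zero (R := F)
    ext i j
    rw [szJ_form]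
    fin_cases i <;> fin_cases j <;> simp [szJ] <;> grind)
  (by
    have := CharTwo.two_eq_zero (R := F)
    ext i j
    fin_cases i <;> fin_cases j <;> simp [star4, pairOf, hθ] <;> grind))
  fun u v => sz_ext (by
    have := CharTwo.two_eq_zero (R := F)
    simp [szMk, hθ]
    grind)

/-- the torus -/
def szH : Fˣ →* szGrp θ := MonoidHom.mk' (fun t => szMk
  !![t * θ t, 0, 0, 0; 0, t, 0, 0; 0, 0, (t : F)⁻¹, 0; 0, 0, 0, (t * θ t)⁻¹]
  (by
    ext i j
    rw [szJ_form]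
    fin_cases i <;> fin_cases j <;> simp [szJ]
    all_goals field_simp)
  (by
    ext i j
    fin_cases i <;> fin_cases j <;> simp [star4, pairOf, hθ]
    all_goals field_simp))
  fun u v => sz_ext (by
    simp [szMk]
    refine ⟨?_, ?_, ?_⟩ <;> ring)

/-- the Weyl element -/
def szN (θ : F →+* F) : szGrp θ := szMk (szJ F)
  (by rw [show (szJ F)ᵀ = szJ F by ext i j; fin_cases i <;> fin_cases j <;> rfl, szJ_mul_szJ,
    one_mul])
  (by
    ext i j
    fin_cases i <;> fin_cases j <;> simp [star4, pairOf, szJ, CharTwo.neg_eq])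

theorem coe_szX (u : SzU θ) : (szX hθ u).1.1 =
    !![1, u.a, u.b, θ u.b + u.a * u.b + u.a ^ 2 * θ u.a; 0, 1, θ u.a, u.b + u.a * θ u.a;
      0, 0, 1, u.a; 0, 0, 0, 1] := rfl

theorem coe_szH (t : Fˣ) : (szH hθ t).1.1 =
    !![t * θ t, 0, 0, 0; 0, t, 0, 0; 0, 0, (t : F)⁻¹, 0; 0, 0, 0, (t * θ t)⁻¹] := rfl

theorem coe_szN : (szN θ).1.1 = !![0, 0, 0, 1; 0, 0, 1, 0; 0, 1, 0, 0; 1, 0, 0, 0] := rfl

theorem szN_mul_szN : szN θ * szN θ = 1 := sz_ext szJ_mul_szJ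

theorem sz_eq_szX {g : szGrp θ} (h1 : g.1.1 1 0 = 0) (h2 : g.1.1 2 0 = 0) (h3 : g.1.1 3 0 = 0)
    (h4 : g.1.1 1 1 = 1) : g = szX hθ ⟨g.1.1 0 1, g.1.1 0 2⟩ := by
  have := CharTwo.two_eq_zero (R := F)
  have f := szJ_form g.1.1
  have s := fun i j => congrFun (congrFun g.2.2 i) j
  rw [g.2.1] at f
  have f03 := f 0 3
  have f01 := f 0 1
  have f02 := f 0 2
  have f12 := f 1 2
  have f13 := f 1 3
  have f23 := f 2 3
  have s10 := s 1 0
  have s11 := s 1 1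
  have s01 := s 0 1
  have s02 := s 0 2
  have s00 := s 0 0
  simp [star4, pairOf, szJ, h1, h2, h3, h4] at f01 f02 f03 f12 f13 f23 s10 s11 s01 s02 s00
  have h5 : g.1.1 0 0 ≠ 0 := left_ne_zero_of_mul_eq_one f03.symm
  simp [h5] at f01 f02 s10
  simp [f01, f02, s10] at f12 f13 f23 s11 s01 s02
  rw [← f12, mul_one] at s11
  refine sz_ext (Matrix.ext fun i j => ?_)
  fin_cases i <;> fin_cases j <;> simp [coe_szX, h1, h2, h3, h4, f01, f02, s10] <;> grind

theorem sz_borel {g : szGrp θ} (h3 : g.1.1 3 0 = 0) : ∃ u t, g = szX hθ u * szH hθ t := by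
  obtain ⟨h1, h2⟩ := sz_col h3
  have h4 : g.1.1 1 1 ≠ 0 := fun h => by
    have f03 := szJ_form g.1.1 0 3
    have s00 := congrFun (congrFun g.2.2 0) 0
    rw [g.2.1] at f03
    simp [star4, pairOf, szJ, h1, h2, h3, h, eq_comm (a := (0 : F))] at f03 s00
    simp [s00] at f03
  have h5 : ∀ i, (g * szH hθ (Units.mk0 _ h4)⁻¹).1.1 i 0 = 0 ↔ g.1.1 i 0 = 0 := fun i => by
    simp [-map_inv, coe_szH, Matrix.mul_apply, Fin.sum_univ_four, h4]
  exact ⟨_, Units.mk0 _ h4, mul_inv_eq_iff_eq_mul.1 ((congrArg _ (map_inv _ _).symm).trans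
    (sz_eq_szX hθ ((h5 _).2 h1) ((h5 _).2 h2) ((h5 _).2 h3) (by
      simp [-map_inv, coe_szH, Matrix.mul_apply, Fin.sum_univ_four, h4])))⟩

/-- the BN-pair of the Suzuki group -/
def szRankOne : RankOne (szGrp θ) (SzU θ) Fˣ where
  x := szX hθ
  h := szH hθ
  act := MonoidHom.mk' (fun t =>
    { toFun u := ⟨θ t * u.a, t ^ 2 * θ t * u.b⟩
      invFun u := ⟨(θ t)⁻¹ * u.a, ((t : F) ^ 2 * θ t)⁻¹ * u.b⟩
      left_inv u := by ext <;> simp [-mul_inv_rev]
      right_inv u := by ext <;> simp [-mul_inv_rev]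
      map_mul' u v := by ext <;> simp [hθ] <;> ring })
    fun s t => by ext <;> simp <;> ring
  n := szN θ
  h_x t u := mul_inv_eq_iff_eq_mul.2 (sz_ext (by
    simp [coe_szX, coe_szH, hθ]
    refine ⟨⟨?_, ?_, ?_⟩, ⟨?_, ?_⟩, ?_⟩ <;> field_simp))
  n_h t := by
    rw [mul_assoc, inv_mul_eq_iff_eq_mul]
    exact sz_ext (by simp [-map_inv, coe_szH, coe_szN, mul_comm])
  bruhat g := by
    by_cases h : g.1.1 3 0 = 0
    · exact Or.inl (sz_borel hθ h)
    have := CharTwo.two_eq_zero (R := F)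
    obtain ⟨u, h1, h2, h3⟩ : ∃ u, (szN θ * (szX hθ u * g)).1.1 0 0 ≠ 0 ∧
        (szN θ * (szX hθ u * g)).1.1 1 0 = 0 ∧ (szN θ * (szX hθ u * g)).1.1 2 0 = 0 := by
      refine ⟨⟨g.1.1 2 0 / g.1.1 3 0, g.1.1 1 0 / g.1.1 3 0⟩, ?_⟩
      simp [coe_szX, coe_szN, Matrix.vecMul, dotProduct, Fin.sum_univ_four, h]
      constructor <;> field_simp <;> grind
    obtain ⟨u', t, h4⟩ := sz_borel hθ (g := szN θ * (szX hθ u * g)) (by
      generalize szN θ * (szX hθ u * g) = g at h1 h2 h3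
      have s10 := congrFun (congrFun g.2.2 1) 0
      have s30 := congrFun (congrFun g.2.2 3) 0
      simp [star4, pairOf, h1, h2, h3] at s10 s30
      simpa [s10, eq_comm (a := (0 : F))] using s30)
    exact Or.inr ⟨u⁻¹, u', t, by
      rw [← h4, mul_assoc, ← mul_assoc (szN θ), szN_mul_szN, one_mul, map_inv, inv_mul_cancel_left]⟩
  ti u u' t h := by
    rw [mul_assoc, inv_mul_eq_iff_eq_mul] at h
    have h1 := congrArg (fun g : szGrp θ => g.1.1 2 0) h
    have h2 := congrArg (fun g : szGrp θ => g.1.1 1 0) h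
    simp [coe_szX, coe_szH, coe_szN] at h1 h2
    ext <;> simp_all
  disj u t h := by
    have h1 := congrArg (fun g : szGrp θ => g.1.1 0 1) h
    have h2 := congrArg (fun g : szGrp θ => g.1.1 0 2) h
    ext <;> simpa [coe_szX, coe_szH]
  n_ne u t h := by
    simpa [coe_szX, coe_szH, coe_szN] using congrArg (fun g : szGrp θ => g.1.1 3 0) h

end Cfsg
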